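import Groth.Agent.DualMod3.RepMod
import Groth.Agent.SerreDual.HomLinear

/-!
# Duality for `DCoh.dualizingMod` over a field
-/

set_option autoImplicit false
set_option backward.isDefEq.respectTransparency false
set_option backward.defeqAttrib.useBackward true
set_option linter.style.haveILetI false
set_option maxHeartbeats 1000000

universe u

open CategoryTheory CategoryTheory.Limits DerivedCategory AlgebraicGeometry Opposite
open Groth.Agent.Coherent Groth.Agent.DCat

attribute [local instance] HasDerivedCategory.standard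

namespace Groth.Agent.DualMod3

variable (k : Type u) [Field k] (X : Scheme.{u}) [X.Over (Spec (CommRingCat.of k))]
  [IsProper (X ↘ Spec (CommRingCat.of k))]
  [DCoh.HasRpush (X ↘ Spec (CommRingCat.of k))]
  (h : DCoh.RpushPreservesQCoh (X ↘ Spec (CommRingCat.of k))) [DCoh.HasShriek (X ↘ Spec (CommRingCat.of k)) h]
  (OY : DCoh.DQCoh (Spec (CommRingCat.of k)))
  (hOY : Nonempty (OY.obj ≅ DCoh.inD (Spec (CommRingCat.of k)) (Coh.structureModule (Spec (CommRingCat.of k)))))

include hOY

/-- The twisted inverse image of `O` represents `Hom(Rf_*(-), O)`. -/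
theorem repObj_shriek :
    Dual22Lib.RepLib.RepObj (X ↘ Spec (CommRingCat.of k)) (DualLib.DualCoh.PS k) (DCoh.dualizingCx _ h OY) := by
  obtain ⟨eO⟩ := hOY
  let eP : OY.obj ≅ DualLib.DualCoh.PS k :=
    eO ≪≫ (singleFunctor (Spec (CommRingCat.of k)).Modules 0).mapIso (DQCoh.topStructIso _).symm
  refine Dual22Lib.RepLib.RepObj.ofIsoTarget ⟨fun {_} => ?_⟩ eP
  refine ⟨((DCoh.shriek _ h).obj OY).property, ((DCoh.trace _ h).app OY).hom, fun K hK => ?_⟩
  have h1 := ((DCoh.shriekAdj (X ↘ Spec (CommRingCat.of k)) h).homEquiv ⟨K, hK⟩ OY).symm.bijective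
  have h2 : Function.Bijective
      fun g : ((⟨K, hK⟩ : DCoh.DQCoh X) ⟶ (DCoh.shriek (X ↘ Spec (CommRingCat.of k)) h).obj OY) => g.hom :=
    (ObjectProperty.fullyFaithfulι DCoh.IsQCohD).homEquiv.bijective
  have h3 : Function.Bijective
      fun g : ((DCoh.RpushQ (X ↘ Spec (CommRingCat.of k)) h).obj ⟨K, hK⟩ ⟶ OY) => g.hom :=
    (ObjectProperty.fullyFaithfulι DCoh.IsQCohD).homEquiv.bijective
  unfold Dual22Lib.AdjGlue.Rep
  refine (Function.Bijective.of_comp_iff _ h2).1 ?_
  convert h3.comp h1 using 1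
  funext g
  simp only [Function.comp_apply, Adjunction.homEquiv_counit]
  rfl

/-- `DCoh.dualizingMod` is a dualizing pair. -/
theorem exists_rep {d : ℕ} (hd : topologicalKrullDim X ≤ d) :
    ∃ t : Coh.HH X (DCoh.dualizingMod (X ↘ Spec (CommRingCat.of k)) h OY d) d →ₗ[k] k,
      ∀ F : X.Modules, Coh.IsQCoh F → SerreDual.Rep t F :=
  exists_rep_of_repObj k X hd (repObj_shriek k X h OY hOY)

/-- `DCoh.dualizingMod` is coherent. -/
theorem isCoh (d : ℕ) : Coh.IsCoh (DCoh.dualizingMod (X ↘ Spec (CommRingCat.of k)) h OY d) :=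
  DualLib.DualCoh.isCohD_rep k X (repObj_shriek k X h OY hOY) _

end Groth.Agent.DualMod3
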