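import Groth.Agent.DualMod3.Apps
import Groth.Agent.DCat.Amplitude
import Groth.Agent.CurveRR24.RR
import Mathlib.Algebra.Category.ModuleCat.Projective

/-!
# `h¹(ω) ≤ h⁰(O)` for the dualizing module of a one-dimensional proper scheme
-/

set_option autoImplicit false
set_option backward.isDefEq.respectTransparency false
set_option backward.defeqAttrib.useBackward true
set_option linter.style.haveILetI false
set_option maxHeartbeats 1000000

universe u

open CategoryTheory CategoryTheory.Limits DerivedCategory AlgebraicGeometry Opposite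
open Groth.Agent.Coherent Groth.Agent.DCat Groth.Agent.DQCoh

attribute [local instance] HasDerivedCategory.standard

namespace Groth.Agent.DualMod3

variable (k : Type u) [Field k]

/-- In `D(k)`: if nothing maps from `k` to `M` then nothing maps from `M` to `k`. -/
theorem eq_zero_mod (M : DerivedCategory (ModuleCat.{u} (CommRingCat.of k)))
    (h : ∀ g : gen (CommRingCat.of k) ⟶ M, g = 0) (m : M ⟶ gen (CommRingCat.of k)) : m = 0 := by
  let A := ModuleCat.{u} (CommRingCat.of k)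
  let R₁ : A := ModuleCat.of (CommRingCat.of k) k
  let C := Q.objPreimage M
  let eC : Q.obj C ≅ M := Q.objObjPreimageIso M
  let i : gen (CommRingCat.of k) ≅ Q.obj ((CochainComplex.singleFunctor A 0).obj R₁) :=
    (singleFunctorIsoCompQ A 0).app R₁
  haveI : Projective R₁ := ModuleCat.projective_of_free (Module.Basis.singleton PUnit.{1} k)
  haveI : Module.Injective (CommRingCat.of k) k := by
    show Module.Injective k k
    exact Module.injective_of_isSemisimpleRing k k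
  haveI : Injective R₁ := Module.injective_object_of_injective_module (CommRingCat.of k) k
  have hL : IsZero (C.homology 0) := by
    rw [ModuleCat.isZero_iff_subsingleton]
    refine subsingleton_of_forall_eq 0 fun v => ?_
    let s := HomologicalComplex.singleObjHomologySelfIso (ComplexShape.up ℤ) 0 R₁
    obtain ⟨g, hg⟩ := DCat.ProjHomology.exists_homologyMap_eq R₁ C
      (s.hom ≫ ModuleCat.ofHom (LinearMap.toSpanSingleton k (C.homology 0) v))
    have hQ : Q.map g = 0 := by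
      rw [← cancel_mono eC.hom, zero_comp, ← cancel_epi i.hom, comp_zero]
      exact h _
    have h0 : HomologicalComplex.homologyMap g 0 = 0 := by
      have hn := (homologyFunctorFactors A 0).hom.naturality g
      dsimp at hn
      rw [hQ, Functor.map_zero, zero_comp] at hn
      exact (cancel_epi ((homologyFunctorFactors A 0).app _).hom).1 (hn.symm.trans comp_zero.symm)
    rw [hg, Preadditive.IsIso.comp_left_eq_zero] at h0
    have := ConcreteCategory.congr_hom h0 (1 : k)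
    simp only [ModuleCat.hom_ofHom, LinearMap.toSpanSingleton_apply, ModuleCat.hom_zero, LinearMap.zero_apply] at this
    exact (one_smul k v).symm.trans this
  rw [← cancel_epi eC.hom, comp_zero, ← cancel_mono i.hom, zero_comp]
  exact DCat.Amplitude.to_injective_eq_zero C 0 hL R₁ _

/-- A map into `O` killed by all maps from `O` vanishes. -/
theorem eq_zero_of_comp' {G : DCoh.D (Spec (CommRingCat.of k))} (hG : DCoh.IsQCohD G)
    (φ : G ⟶ DualLib.DualCoh.PS k) (h : ∀ x : DualLib.DualCoh.PS k ⟶ G, x ≫ φ = 0) : φ = 0 := by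
  haveI := AffSchLib.preservesFiniteLimits_tilde (CommRingCat.of k)
  haveI : (DualLib.DualCoh.PS k).IsLE 0 := (inferInstance :
    ((singleFunctor (Spec (CommRingCat.of k)).Modules 0).obj ((freeModOn _).obj ⊤)).IsLE 0)
  let t₀ := DerivedCategory.TStructure.t (C := (Spec (CommRingCat.of k)).Modules)
  haveI hl : (t₀.truncLT 1 |>.obj G).IsLE 0 := t₀.isLE_truncLT_obj _ _ _ (by omega)
  obtain ⟨hfull, hfaith, hess⟩ := tildeD_main (CommRingCat.of k)
  let T := DCoh.tildeD (CommRingCat.of k)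
  let γ := genIso (CommRingCat.of k)
  have hq : DCoh.IsQCohD ((t₀.truncLT 1).obj G) ∧ DCoh.IsQCohD ((t₀.truncGE 1).obj G) :=
    ⟨DQCoh.isQCohD_truncLT G hG 1, DQCoh.isQCohD_obj₃ (t₀.triangleLTGE_distinguished 1 G) (DQCoh.isQCohD_truncLT G hG 1) hG⟩
  have h1 : (t₀.truncLTι 1).app G ≫ φ = 0 :=
    eq_zero_of_comp k hq.1 _ fun x => by rw [← Category.assoc]; exact h _
  obtain ⟨ψ, hψ⟩ := Pretriangulated.Triangle.yoneda_exact₂ _ (t₀.triangleLTGE_distinguished 1 G) φ h1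
  dsimp at ψ hψ
  obtain ⟨M, ⟨e⟩⟩ := (hess _).1 hq.2
  obtain ⟨m, hm⟩ := T.map_surjective (e.hom ≫ ψ ≫ γ.inv)
  have hm0 : m = 0 := eq_zero_mod k M (fun g => T.map_injective (by
    rw [Functor.map_zero, ← cancel_mono e.hom, zero_comp, ← cancel_epi γ.inv, comp_zero]
    exact t₀.zero (X := DualLib.DualCoh.PS k) (Y := (t₀.truncGE 1).obj G) _ 0 1 (by omega))) m
  rw [hm0, Functor.map_zero] at hm
  have h2 : ψ = 0 := by
    rw [← cancel_mono γ.inv, zero_comp, ← cancel_epi e.hom, comp_zero]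
    exact hm.symm
  rw [hψ, h2, comp_zero]

variable (X : Scheme.{u}) [X.Over (Spec (CommRingCat.of k))] [IsProper (X ↘ Spec (CommRingCat.of k))]
  [DCoh.HasRpush (X ↘ Spec (CommRingCat.of k))]

/-- `h¹(H^{-1} A) ≤ h⁰(O)`. -/
theorem finrank_h1_le_of_repObj (hd : topologicalKrullDim X ≤ 1) {A : DCoh.D X}
    (hA : Dual22Lib.RepLib.RepObj (X ↘ Spec (CommRingCat.of k)) (DualLib.DualCoh.PS k) A) :
    Module.finrank k (Coh.HH X (DCoh.HD A (-(1 : ℕ) : ℤ)) 1) ≤
      Module.finrank k (Coh.HH X ((freeModOn X).obj ⊤) 0) := by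
  haveI := EulerLib.isNoetherian_of_proper (k := k) (X := X)
  haveI : X.IsSeparated := EulerLib.isSeparated_of_proper (X := X) k
  obtain ⟨_, _⟩ := exists_commShift_Rpush (X ↘ Spec (CommRingCat.of k))
  let R := DCoh.Rpush (X ↘ Spec (CommRingCat.of k))
  haveI hAGE := DualLib.DualCoh.isGE_rep k X (d := 1) hd hA
  obtain ⟨hAq, ε, hε⟩ := hA.out
  obtain ⟨ℓ, hℓ⟩ := exists_coef k
  obtain ⟨e, -⟩ := DualLib.DualCoh.exists_eLin (k := k) (X := X)
  obtain ⟨u₀, hu₀⟩ := DualLib.DualCoh.exists_transpose (k := k) (X := X)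
  let A₀ := A⟦(-((1 : ℕ) : ℤ))⟧
  haveI : A₀.IsGE 0 := DerivedCategory.TStructure.t.isGE_shift A (-((1 : ℕ) : ℤ)) (-((1 : ℕ) : ℤ)) 0 (by omega)
  let W := DCoh.HD A (-((1 : ℕ) : ℤ))
  haveI : Coh.IsQCoh W := hAq _
  let t₀ := DerivedCategory.TStructure.t (C := X.Modules)
  haveI : (t₀.truncLT 1 |>.obj A₀).IsLE 0 := t₀.isLE_truncLT_obj _ _ _ (by omega)
  haveI : (t₀.truncLT 1 |>.obj A₀).IsGE 0 := inferInstance
  haveI hι : IsIso ((homologyFunctor X.Modules 0).map ((t₀.truncLTι 1).app A₀)) := by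
    haveI := mono_homology_truncLTι A₀ 1 0
    haveI : Epi ((homologyFunctor X.Modules 0).map ((t₀.truncLTι 1).app A₀)) :=
      (HomologySequence.epi_homologyMap_mor₁_iff _ (t₀.triangleLTGE_distinguished 1 A₀) 0).2
        ((isZero_of_isGE (t₀.truncGE 1 |>.obj A₀) 1 0 (by omega)).eq_of_tgt _ _)
    exact isIso_of_mono_of_epi _
  obtain ⟨M, ⟨eM⟩⟩ := exists_iso_singleFunctor_obj_of_isGE_of_isLE (t₀.truncLT 1 |>.obj A₀) 0
  let w : M ≅ W := ((singleFunctorCompHomologyFunctorIso X.Modules 0).app M).symm ≪≫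
    (homologyFunctor X.Modules 0).mapIso eM.symm ≪≫ asIso ((homologyFunctor X.Modules 0).map ((t₀.truncLTι 1).app A₀)) ≪≫
    DualLib.Nonvanish.hdShift A (-((1 : ℕ) : ℤ))
  let O' := (singleFunctor X.Modules 0).obj ((freeModOn X).obj ⊤)
  let ι₁ : ((singleFunctor X.Modules 0).obj W)⟦((1 : ℕ) : ℤ)⟧ ⟶ A₀⟦((1 : ℕ) : ℤ)⟧ :=
    (((singleFunctor X.Modules 0).mapIso w.symm ≪≫ eM.symm).hom ≫ (t₀.truncLTι 1).app A₀)⟦((1 : ℕ) : ℤ)⟧'
  let c := (shiftFunctorCompIsoId (DCoh.D X) (-((1 : ℕ) : ℤ)) ((1 : ℕ) : ℤ) (by omega)).hom.app A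
  haveI : IsIso c := inferInstanceAs (IsIso ((shiftFunctorCompIsoId (DCoh.D X) (-((1 : ℕ) : ℤ)) ((1 : ℕ) : ℤ) (by omega)).hom.app A))
  have hinj : ∀ y : O' ⟶ ((singleFunctor X.Modules 0).obj W)⟦((1 : ℕ) : ℤ)⟧, y ≫ ι₁ ≫ c = 0 → y = 0 := by
    intro y hy
    rw [← Category.assoc, Preadditive.IsIso.comp_right_eq_zero] at hy
    simp only [ι₁, Functor.map_comp, ← Category.assoc] at hy
    let v := ((singleFunctor X.Modules 0).mapIso w.symm ≪≫ eM.symm).hom⟦((1 : ℕ) : ℤ)⟧'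
    have hT := Pretriangulated.Triangle.shift_distinguished _
      (t₀.triangleLTGE_distinguished 1 A₀) ((1 : ℕ) : ℤ)
    have hy' : (y ≫ v) ≫ ((t₀.truncLTι 1).app A₀)⟦((1 : ℕ) : ℤ)⟧' = 0 := hy
    obtain ⟨z, hz⟩ := Pretriangulated.Triangle.coyoneda_exact₁ _ hT ((y ≫ v)⟦(1 : ℤ)⟧') (by
      refine ((Functor.map_comp _ _ _).symm.trans ?_)
      show ((shiftFunctor (DCoh.D X) (1 : ℤ)).map ((y ≫ v) ≫
        (((1 : ℕ) : ℤ).negOnePow • ((t₀.truncLTι 1).app A₀)⟦((1 : ℕ) : ℤ)⟧'))) = 0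
      rw [Linear.comp_units_smul, hy', smul_zero, Functor.map_zero])
    have hz0 : z = 0 := by
      haveI : O'.IsLE 0 := (inferInstance : ((singleFunctor X.Modules 0).obj ((freeModOn X).obj ⊤)).IsLE 0)
      haveI : (O'⟦(1 : ℤ)⟧).IsLE (-1) := t₀.isLE_shift O' 0 1 (-1) (by omega)
      haveI : (((t₀.truncGE 1).obj A₀)⟦((1 : ℕ) : ℤ)⟧).IsGE 0 :=
        t₀.isGE_shift _ 1 ((1 : ℕ) : ℤ) 0 (by omega)
      exact t₀.zero (X := O'⟦(1 : ℤ)⟧) (Y := ((t₀.truncGE 1).obj A₀)⟦((1 : ℕ) : ℤ)⟧) z (-1) 0 (by omega)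
    rw [hz0, zero_comp] at hz
    have h2 : y ≫ v = 0 := (shiftFunctor (DCoh.D X) (1 : ℤ)).map_eq_zero_iff.1 hz
    rwa [Preadditive.IsIso.comp_right_eq_zero] at h2
  -- the pairing
  let τ : (O' ⟶ ((singleFunctor X.Modules 0).obj W)⟦((1 : ℕ) : ℤ)⟧) ≃ₗ[k]
      (DualLib.DualCoh.PS k ⟶ DualLib.DualCoh.gS k W 1) := LinearEquiv.ofBijective
    { toFun := fun y => u₀ ≫ R.map y
      map_add' := fun y z => by rw [Functor.map_add, Preadditive.comp_add]
      map_smul' := fun a y => by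
        rw [DualLib.DualCoh.map_smul_Rpush, Linear.comp_smul]
        rfl } (hu₀ _)
  let c₀ : O'⟦((0 : ℕ) : ℤ)⟧ ⟶ O' := (shiftFunctorZero' (DCoh.D X) ((0 : ℕ) : ℤ) (by simp)).hom.app O'
  let Ψ : (O' ⟶ ((singleFunctor X.Modules 0).obj W)⟦((1 : ℕ) : ℤ)⟧) →ₗ[k]
      Module.Dual k (DualLib.DualCoh.PS k ⟶ DualLib.DualCoh.gS k ((freeModOn X).obj ⊤) 0) :=
    LinearMap.mk₂ k (fun y x => ℓ (x ≫ R.map (c₀ ≫ y ≫ ι₁ ≫ c) ≫ ε))
      (fun y y' x => by simp only [Preadditive.add_comp, Preadditive.comp_add, Functor.map_add, map_add])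
      (fun a y x => by
        simp only [R, Linear.smul_comp, Linear.comp_smul, DualLib.DualCoh.map_smul_Rpush, map_smul])
      (fun y x x' => by simp only [Preadditive.add_comp, map_add])
      (fun a y x => by simp only [Linear.smul_comp, map_smul])
  have hΨ : Function.Injective Ψ := by
    refine (injective_iff_map_eq_zero Ψ).2 fun y hy => hinj y ?_
    have hq : DCoh.IsQCohD (O'⟦((0 : ℕ) : ℤ)⟧) := by
      haveI : Coh.IsQCoh ((freeModOn X).obj ⊤) :=
        Coherent.isQCoh_of_iso (DQCoh.topStructIso X).symm (h := Coherent.isQCoh_structureModule)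
      exact DQCoh.isQCohD_shift (FlatBC14.isQCohD_inD _) _
    have h0 : R.map (c₀ ≫ y ≫ ι₁ ≫ c) ≫ ε = 0 := by
      refine eq_zero_of_comp' k (DQCoh.isQCohD_Rpush _ _ hq) _ fun x => ?_
      rw [hℓ (x ≫ _), show ℓ (x ≫ R.map (c₀ ≫ y ≫ ι₁ ≫ c) ≫ ε) = 0 from LinearMap.congr_fun hy x, zero_smul]
    have h1 : c₀ ≫ y ≫ ι₁ ≫ c = 0 := (hε _ hq).1 (by
      show R.map _ ≫ ε = R.map 0 ≫ ε
      rw [h0, Functor.map_zero, zero_comp])
    rwa [Preadditive.IsIso.comp_left_eq_zero] at h1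
  have hO : Coh.IsCoh ((freeModOn X).obj ⊤) :=
    Coherent.isCoh_iso (DQCoh.topStructIso X).symm (Coherent.isCoh_structureModule X)
  haveI := CurveRR24.finite_HH_of_isCoh k hO 0
  haveI : Module.Finite k (DualLib.DualCoh.PS k ⟶ DualLib.DualCoh.gS k ((freeModOn X).obj ⊤) 0) :=
    Module.Finite.equiv (e _ 0).symm
  have h := LinearMap.finrank_le_finrank_of_injective hΨ
  rw [Subspace.dual_finrank_eq, (e _ 0).finrank_eq, τ.finrank_eq] at h
  show Module.finrank k (Coh.HH X W 1) ≤ _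
  rw [← (e W 1).finrank_eq]
  exact h

/-- `h¹(ω) ≤ h⁰(O)`. -/
theorem finrank_h1_le (h : DCoh.RpushPreservesQCoh (X ↘ Spec (CommRingCat.of k)))
    [DCoh.HasShriek (X ↘ Spec (CommRingCat.of k)) h] (OY : DCoh.DQCoh (Spec (CommRingCat.of k)))
    (hOY : Nonempty (OY.obj ≅ DCoh.inD (Spec (CommRingCat.of k)) (Coh.structureModule (Spec (CommRingCat.of k)))))
    (hd : topologicalKrullDim X ≤ 1) :
    Module.finrank k (Coh.HH X (DCoh.dualizingMod (X ↘ Spec (CommRingCat.of k)) h OY 1) 1) ≤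
      Module.finrank k (Coh.HH X (Coh.structureModule X) 0) := by
  refine (finrank_h1_le_of_repObj k X hd (repObj_shriek k X h OY hOY)).trans_eq ?_
  exact (SerreDual.hmapIso k (DQCoh.topStructIso X) 0).finrank_eq

end Groth.Agent.DualMod3
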