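import Groth.Agent.DualMod3.Apps
import Groth.Agent.DualMod3.H1Le
import Groth.Agent.DualLib.OmegaField
import Groth.Agent.Inters29.ModelCurve
import Groth.Agent.CurveRR24.VeryAmple
import Groth.Agent.EulerLib.Positive
import Groth.Agent.Desc19b.AmpleFamily
import Groth.Agent.Surf15.CycleSections
import Groth.Agent.SerreDual.HomLinear

/-!
# Maps `ω ⊗ L ⟶ ω` for globally generated nontrivial `L`
-/

set_option autoImplicit false
set_option backward.isDefEq.respectTransparency false
set_option backward.defeqAttrib.useBackward true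
set_option linter.style.haveILetI false
set_option maxHeartbeats 1000000

universe u

open CategoryTheory CategoryTheory.Limits AlgebraicGeometry TopologicalSpace Opposite
open Groth.Agent.Coherent Groth.Agent.PicLib Groth.Agent.AmpleLib Groth.Agent.EulerLib Groth.Agent.CurveRR24

attribute [local instance] HasDerivedCategory.standard

namespace Groth.Agent.DualMod3

/-- In a connected Noetherian space of dimension one every component has dimension one. -/
theorem components_dim_one {T : Type*} [TopologicalSpace T] [NoetherianSpace T] [QuasiSober T] [T0Space T]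
    [ConnectedSpace T] (hd : topologicalKrullDim T = 1) {Z : Set T} (hZ : Z ∈ irreducibleComponents T) :
    topologicalKrullDim ↥Z = 1 := by
  have hle : topologicalKrullDim ↥Z ≤ 1 := (topologicalKrullDim_subspace_le T Z).trans_eq hd
  by_contra hne
  have hcl := isClosed_of_mem_irreducibleComponents Z hZ
  have h0 : topologicalKrullDim ↥Z ≤ 0 := by
    rcases h : topologicalKrullDim ↥Z with _ | a
    · exact bot_le
    · rw [h] at hle hne
      change ((a : ℕ∞) : WithBot ℕ∞) ≤ ((1 : ℕ∞) : WithBot ℕ∞) at hle
      rcases Order.le_succ_iff_eq_or_le.1 (show a ≤ Order.succ 0 by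
        simpa using (WithBot.coe_le_coe.1 hle)) with h' | h'
      · exact absurd (congrArg WithBot.some (h'.trans (by simp))) hne
      · exact WithBot.coe_le_coe.2 h'
  have hpt : ∀ z ∈ Z, closure {z} = Z := by
    intro z hz
    have h1 : closure {z} ⊆ Z := closure_minimal (Set.singleton_subset_iff.2 hz) hcl
    refine h1.antisymm fun w hw => by_contra fun hwn => ?_
    let A : IrreducibleCloseds ↥Z :=
      { carrier := Subtype.val ⁻¹' closure {z}
        isIrreducible' := by
          have : (Subtype.val ⁻¹' closure {z} : Set ↥Z) = closure {⟨z, hz⟩} := by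
            rw [Topology.IsEmbedding.subtypeVal.closure_eq_preimage_closure_image, Set.image_singleton]
          rw [this]
          exact isIrreducible_singleton.closure
        isClosed' := isClosed_closure.preimage continuous_subtype_val }
    haveI : IrreducibleSpace ↥Z := Subtype.irreducibleSpace hZ.1
    let B : IrreducibleCloseds ↥Z :=
      { carrier := Set.univ
        isIrreducible' := IrreducibleSpace.isIrreducible_univ _
        isClosed' := isClosed_univ }
    have hlt : A < B := lt_of_le_of_ne (Set.subset_univ _) fun he => hwn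
      ((Set.eq_univ_iff_forall.1 (congrArg IrreducibleCloseds.carrier he)) ⟨w, hw⟩)
    have := Order.krullDim_nonpos_iff_forall_isMax.1 h0 A hlt.le
    exact hlt.2 this
  let C : Set T := ⋃₀ (irreducibleComponents T \ {Z})
  have hCc : IsClosed C := by
    rw [show C = ⋃ W ∈ irreducibleComponents T \ {Z}, W from Set.sUnion_eq_biUnion]
    refine Set.Finite.isClosed_biUnion ?_ ?_
    · exact NoetherianSpace.finite_irreducibleComponents.sdiff
    · exact fun W hW => isClosed_of_mem_irreducibleComponents W hW.1
  have hdis : ∀ z ∈ Z, z ∉ C := by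
    rintro z hz ⟨W, ⟨hW, hWne⟩, hzW⟩
    have h1 : Z ⊆ W := hpt z hz ▸ closure_minimal (Set.singleton_subset_iff.2 hzW)
      (isClosed_of_mem_irreducibleComponents W hW)
    exact hWne (le_antisymm (hZ.2 hW.1 h1) h1)
  have hcov : Zᶜ = C := by
    refine Set.Subset.antisymm (fun z hz => ⟨irreducibleComponent z,
      ⟨irreducibleComponent_mem_irreducibleComponents z, fun he => hz (he ▸ mem_irreducibleComponent)⟩,
      mem_irreducibleComponent⟩) fun z hz hzZ => hdis z hzZ hz
  have huniv : Z = Set.univ := IsClopen.eq_univ ⟨hcl, by rw [← isClosed_compl_iff, hcov]; exact hCc⟩ hZ.1.1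
  have h2 : topologicalKrullDim ↥Z = topologicalKrullDim T := by
    subst huniv
    exact (Homeomorph.Set.univ T).isHomeomorph.topologicalKrullDim_eq
  exact hne (h2.trans hd)

variable (k : Type u) [Field k] (X : Scheme.{u}) [X.Over (Spec (CommRingCat.of k))]
  [IsProper (X ↘ Spec (CommRingCat.of k))]
  [DCoh.HasRpush (X ↘ Spec (CommRingCat.of k))]
  (h : DCoh.RpushPreservesQCoh (X ↘ Spec (CommRingCat.of k))) [DCoh.HasShriek (X ↘ Spec (CommRingCat.of k)) h]
  (OY : DCoh.DQCoh (Spec (CommRingCat.of k)))
  (hOY : Nonempty (OY.obj ≅ DCoh.inD (Spec (CommRingCat.of k)) (Coh.structureModule (Spec (CommRingCat.of k)))))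

include hOY

/-- All stalks of `ω` are nonzero when `X` is one-dimensional with `h⁰(O) = 1`. -/
theorem nontrivial_stalk_dualizingMod (hd : topologicalKrullDim X = 1)
    (h0 : Module.finrank k (Coh.HH X (Coh.structureModule X) 0) = 1) (x : X) :
    Nontrivial ((DCoh.dualizingMod (X ↘ Spec (CommRingCat.of k)) h OY 1).presheaf.stalk x) := by
  haveI : ∀ (U V : Scheme.{u}) (j : U ⟶ V) [IsOpenImmersion j],
      PreservesFiniteLimits (Scheme.Modules.restrictFunctor j) := fun U V j _ =>
    DCat.PullPerf.preservesFiniteLimits_restrict j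
  haveI : ∀ (S : CommRingCat.{u}), PreservesFiniteLimits (tilde.functor S) :=
    AffSchLib.preservesFiniteLimits_tilde
  haveI := EulerLib.isNoetherian_of_proper k (X := X)
  haveI := Inters29.connectedSpace_of_finrank_structure k h0
  refine ((DualLib.OmegaField.top_sheaf h _ (DCoh.shriekAdj _ h) OY hOY 1 (by rw [hd]; rfl) x).2).2
    ⟨irreducibleComponent x, irreducibleComponent_mem_irreducibleComponents x,
      components_dim_one hd (irreducibleComponent_mem_irreducibleComponents x), mem_irreducibleComponent⟩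

/-- A map `ω ⊗ L ⟶ ω` with `L` globally generated and nontrivial vanishes. -/
theorem hom_tensor_eq_zero (hd : topologicalKrullDim X = 1)
    (h0 : Module.finrank k (Coh.HH X (Coh.structureModule X) 0) = 1)
    {L : X.Modules} (hL : PicF.IsInvertible L) (hgg : Curv2.IsGloballyGenerated L)
    (hnt : IsEmpty (L ≅ Coh.structureModule X))
    (φ : CohB1.tensorMod (DCoh.dualizingMod (X ↘ Spec (CommRingCat.of k)) h OY 1) L ⟶
      DCoh.dualizingMod (X ↘ Spec (CommRingCat.of k)) h OY 1) : φ = 0 := by
  haveI := EulerLib.isNoetherian_of_proper k (X := X)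
  have hnont := nontrivial_stalk_dualizingMod k X h OY hOY hd h0
  have hω := isCoh k X h OY hOY 1
  have hle := finrank_h1_le k X h OY hOY hd.le
  obtain ⟨t, hrep⟩ := exists_rep k X h OY hOY (d := 1) hd.le
  generalize DCoh.dualizingMod (X ↘ Spec (CommRingCat.of k)) h OY 1 = ω at φ hnont hω hle t hrep ⊢
  haveI := finite_HH_of_isCoh k hω 1
  let e : (ω ⟶ ω) ≃ₗ[k] Module.Dual k (Coh.HH X ω 1) :=
    LinearEquiv.ofBijective (SerreDual.thetaLin t ω) (hrep ω hω.1)
  haveI : Module.Finite k (ω ⟶ ω) := Module.Finite.equiv e.symm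
  have hfin : Module.finrank k (ω ⟶ ω) ≤ 1 := by
    rw [e.finrank_eq, Subspace.dual_finrank_eq]
    exact hle.trans_eq h0
  by_cases hall : ∀ s : Γ(L, ⊤), mulSec ω s ≫ φ = 0
  · refine AmpleLib.hom_ext fun U a b => ?_
    show φ.app U (tmul a b) = (0 : Γ(ω, U))
    refine sec_ext ω _ _ fun y hy => ?_
    obtain ⟨s, hs⟩ := Desc19b.exists_mem_glocus_of_gg hL hgg y
    let g := resM L (le_top : glocus L s ≤ ⊤) s
    have hg : IsGen L (glocus L s) g := isGen_glocus s
    refine ⟨U ⊓ glocus L s, inf_le_left, ⟨hy, hs⟩, ?_⟩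
    rw [map_zero, ← app_resM, resM_tmul,
      ← hg.coef_spec (inf_le_right : U ⊓ glocus L s ≤ _) (resM L inf_le_left b),
      tmul_smul_right, ← tmul_smul_left, resM_resM]
    exact congrArg (fun g : ω ⟶ ω => g.app (U ⊓ glocus L s) _) (hall s)
  · push Not at hall
    obtain ⟨s, hs⟩ := hall
    exfalso
    obtain ⟨c, hc⟩ := (finrank_eq_one_iff_of_nonzero' (mulSec ω s ≫ φ) hs).1
      (le_antisymm hfin (Module.finrank_pos_iff_exists_ne_zero.2 ⟨_, hs⟩)) (𝟙 ω)
    rw [← Linear.comp_smul] at hc
    generalize c • φ = ψ at hc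
    refine hnt.false (Surf15.nonempty_iso_of_glocus_eq_top (s := s)
      (top_le_iff.1 fun x _ => ?_)).some
    obtain ⟨V, hxV, e, he⟩ := exists_isGen hL x
    let a : Γ(X, V) := he.coef le_rfl (resM L le_top s)
    have hlocus : glocus L s ⊓ V = X.basicOpen a := glocus_inf s he
    suffices hu : IsUnit (X.presheaf.germ V x hxV a) from
      ((SetLike.ext_iff.1 hlocus x).2 ((X.mem_basicOpen a x hxV).2 hu)).1
    by_contra hu
    have hmem : X.presheaf.germ V x hxV a ∈ IsLocalRing.maximalIdeal (X.presheaf.stalk x) := hu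
    have hsur : (⊤ : Submodule (X.presheaf.stalk x) (ω.presheaf.stalk x)) ≤
        IsLocalRing.maximalIdeal (X.presheaf.stalk x) • ⊤ := by
      intro z _
      obtain ⟨W, hW, m, rfl⟩ := ω.presheaf.exists_germ_eq z
      let W' := W ⊓ V
      rw [← TopCat.Presheaf.germ_res_apply ω.presheaf (homOfLE (inf_le_left : W' ≤ W)) x ⟨hW, hxV⟩]
      show ω.presheaf.germ W' x ⟨hW, hxV⟩ (resM ω inf_le_left m) ∈ _
      generalize resM ω (inf_le_left : W' ≤ W) m = m'
      have h1 : ψ.app W' (tmul m' (resM L le_top s)) = m' :=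
        congrArg (fun g : ω ⟶ ω => g.app W' m') hc
      have h2 : resM L (le_top : W' ≤ ⊤) s = res (inf_le_right : W' ≤ V) a • resM L inf_le_right e := by
        have ha : a • e = resM L le_top s := by
          have := he.coef_spec le_rfl (resM L (le_top : V ≤ ⊤) s)
          rwa [resM_self] at this
        rw [← resM_smul, ha, resM_resM]
      rw [h2, tmul_smul_right, Scheme.Modules.Hom.app_smul] at h1
      rw [← h1, QCohLoc.germ_smul']
      refine Submodule.smul_mem_smul ?_ trivial
      rwa [← show X.presheaf.germ V x hxV a = X.presheaf.germ W' x ⟨hW, hxV⟩ (res (inf_le_right : W' ≤ V) a) from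
        (TopCat.Presheaf.germ_res_apply X.presheaf (homOfLE (inf_le_right : W' ≤ V)) x ⟨hW, hxV⟩ a).symm]
    haveI := AssSch12.finite_stalk hω x
    have := Submodule.eq_bot_of_le_smul_of_le_jacobson_bot _ (⊤ : Submodule (X.presheaf.stalk x) (ω.presheaf.stalk x))
      Module.Finite.fg_top hsur (by rw [IsLocalRing.jacobson_eq_maximalIdeal ⊥ bot_ne_top])
    haveI := hnont x
    exact top_ne_bot (α := Submodule (X.presheaf.stalk x) (ω.presheaf.stalk x)) (by assumption)

end Groth.Agent.DualMod3
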