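import Groth.Agent.CAlgH3.Serre
import Groth.Agent.CAlgH3.CMRing
import Groth.Agent.CurveRR24.VeryAmple

/-!
# Reduced curves are Cohen–Macaulay
-/

set_option autoImplicit false
set_option linter.style.haveILetI false

universe u

open CategoryTheory CategoryTheory.Limits AlgebraicGeometry

namespace Groth.Agent.DualMod3

/-- A reduced Noetherian local ring of dimension at most one is Cohen–Macaulay. -/
theorem cm_of_reduced_dim_le_one (R : Type u) [CommRing R] [IsLocalRing R] [IsNoetherianRing R]
    [_root_.IsReduced R] (hd : ringKrullDim R ≤ 1) : LocCoh.IsCohenMacaulayLocalRing R := by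
  have h := (CAlgH3.hasSk_self_iff 1).1 (CAlgH3.hasS1_of_isReduced (R := R)) (IsLocalRing.maximalIdeal R)
  let e : R ≃+* Localization.AtPrime (IsLocalRing.maximalIdeal R) :=
    (IsLocalization.atUnits R (IsLocalRing.maximalIdeal R).primeCompl
      (fun x hx => (IsLocalRing.notMem_maximalIdeal.1 hx : IsUnit x))).toRingEquiv
  rw [← ringKrullDim_eq_of_ringEquiv e, ← CAlgH3.depth_ringEquiv e, Nat.cast_one, min_eq_right hd] at h
  refine { supportDim_eq_depth := le_antisymm ?_ ?_ }
  · rw [Module.supportDim_self_eq_ringKrullDim]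
    exact h
  · exact CAlgH3.depth_le_supportDim

/-- The local rings of a reduced scheme of dimension at most one are Cohen–Macaulay. -/
theorem cm_stalk_of_reduced (X : Scheme.{u}) [IsLocallyNoetherian X] [IsReduced X]
    (hd : topologicalKrullDim X ≤ 1) (x : X) : LocCoh.IsCohenMacaulayLocalRing (X.presheaf.stalk x) :=
  cm_of_reduced_dim_le_one _ ((CurvesLib24.stalk_dim_le_topologicalKrullDim x).trans hd)

end Groth.Agent.DualMod3
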