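import Groth.Agent.DualMod3.H1Le

/-!
# `h¹(ω) = h⁰(O)` when the dualizing complex is a sheaf in degree `-1`
-/

set_option autoImplicit false
set_option backward.isDefEq.respectTransparency false
set_option backward.defeqAttrib.useBackward true
set_option linter.style.haveILetI false
set_option maxHeartbeats 1000000

universe u

open CategoryTheory CategoryTheory.Limits DerivedCategory AlgebraicGeometry Opposite
open Groth.Agent.Coherent Groth.Agent.DCat Groth.Agent.DQCoh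

attribute [local instance] HasDerivedCategory.standard

namespace Groth.Agent.DualMod3

variable (k : Type u) [Field k] (X : Scheme.{u}) [X.Over (Spec (CommRingCat.of k))] [IsProper (X ↘ Spec (CommRingCat.of k))]
  [DCoh.HasRpush (X ↘ Spec (CommRingCat.of k))]

/-- `h¹(H^{-1} A) = h⁰(O)` when `A` is concentrated in degree `-1`. -/
theorem finrank_h1_eq_of_repObj (hd : topologicalKrullDim X ≤ 1) {A : DCoh.D X}
    (hA : Dual22Lib.RepLib.RepObj (X ↘ Spec (CommRingCat.of k)) (DualLib.DualCoh.PS k) A)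
    (hz : ∀ i : ℤ, -1 < i → IsZero (DCoh.HD A i)) :
    Module.finrank k (Coh.HH X (DCoh.HD A (-(1 : ℕ) : ℤ)) 1) =
      Module.finrank k (Coh.HH X ((freeModOn X).obj ⊤) 0) := by
  haveI := EulerLib.isNoetherian_of_proper (k := k) (X := X)
  haveI : X.IsSeparated := EulerLib.isSeparated_of_proper (X := X) k
  obtain ⟨_, _⟩ := exists_commShift_Rpush (X ↘ Spec (CommRingCat.of k))
  let R := DCoh.Rpush (X ↘ Spec (CommRingCat.of k))
  haveI hAGE := DualLib.DualCoh.isGE_rep k X (d := 1) hd hA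
  obtain ⟨hAq, ε, hε⟩ := hA.out
  obtain ⟨ℓ, hℓ⟩ := exists_coef k
  obtain ⟨e, -⟩ := DualLib.DualCoh.exists_eLin (k := k) (X := X)
  obtain ⟨u₀, hu₀⟩ := DualLib.DualCoh.exists_transpose (k := k) (X := X)
  let A₀ := A⟦(-((1 : ℕ) : ℤ))⟧
  haveI : A₀.IsGE 0 := DerivedCategory.TStructure.t.isGE_shift A (-((1 : ℕ) : ℤ)) (-((1 : ℕ) : ℤ)) 0 (by omega)
  let W := DCoh.HD A (-((1 : ℕ) : ℤ))
  haveI : Coh.IsQCoh W := hAq _
  let t₀ := DerivedCategory.TStructure.t (C := X.Modules)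
  haveI : (t₀.truncLT 1 |>.obj A₀).IsLE 0 := t₀.isLE_truncLT_obj _ _ _ (by omega)
  haveI : (t₀.truncLT 1 |>.obj A₀).IsGE 0 := inferInstance
  haveI hι : IsIso ((homologyFunctor X.Modules 0).map ((t₀.truncLTι 1).app A₀)) := by
    haveI := mono_homology_truncLTι A₀ 1 0
    haveI : Epi ((homologyFunctor X.Modules 0).map ((t₀.truncLTι 1).app A₀)) :=
      (HomologySequence.epi_homologyMap_mor₁_iff _ (t₀.triangleLTGE_distinguished 1 A₀) 0).2
        ((isZero_of_isGE (t₀.truncGE 1 |>.obj A₀) 1 0 (by omega)).eq_of_tgt _ _)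
    exact isIso_of_mono_of_epi _
  obtain ⟨M, ⟨eM⟩⟩ := exists_iso_singleFunctor_obj_of_isGE_of_isLE (t₀.truncLT 1 |>.obj A₀) 0
  let w : M ≅ W := ((singleFunctorCompHomologyFunctorIso X.Modules 0).app M).symm ≪≫
    (homologyFunctor X.Modules 0).mapIso eM.symm ≪≫ asIso ((homologyFunctor X.Modules 0).map ((t₀.truncLTι 1).app A₀)) ≪≫
    DualLib.Nonvanish.hdShift A (-((1 : ℕ) : ℤ))
  let O' := (singleFunctor X.Modules 0).obj ((freeModOn X).obj ⊤)
  let ι₁ : ((singleFunctor X.Modules 0).obj W)⟦((1 : ℕ) : ℤ)⟧ ⟶ A₀⟦((1 : ℕ) : ℤ)⟧ :=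
    (((singleFunctor X.Modules 0).mapIso w.symm ≪≫ eM.symm).hom ≫ (t₀.truncLTι 1).app A₀)⟦((1 : ℕ) : ℤ)⟧'
  let c := (shiftFunctorCompIsoId (DCoh.D X) (-((1 : ℕ) : ℤ)) ((1 : ℕ) : ℤ) (by omega)).hom.app A
  haveI : IsIso c := inferInstanceAs (IsIso ((shiftFunctorCompIsoId (DCoh.D X) (-((1 : ℕ) : ℤ)) ((1 : ℕ) : ℤ) (by omega)).hom.app A))
  have hinj : ∀ y : O' ⟶ ((singleFunctor X.Modules 0).obj W)⟦((1 : ℕ) : ℤ)⟧, y ≫ ι₁ ≫ c = 0 → y = 0 := by
    intro y hy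
    rw [← Category.assoc, Preadditive.IsIso.comp_right_eq_zero] at hy
    simp only [ι₁, Functor.map_comp, ← Category.assoc] at hy
    let v := ((singleFunctor X.Modules 0).mapIso w.symm ≪≫ eM.symm).hom⟦((1 : ℕ) : ℤ)⟧'
    have hT := Pretriangulated.Triangle.shift_distinguished _
      (t₀.triangleLTGE_distinguished 1 A₀) ((1 : ℕ) : ℤ)
    have hy' : (y ≫ v) ≫ ((t₀.truncLTι 1).app A₀)⟦((1 : ℕ) : ℤ)⟧' = 0 := hy
    obtain ⟨z, hz⟩ := Pretriangulated.Triangle.coyoneda_exact₁ _ hT ((y ≫ v)⟦(1 : ℤ)⟧') (by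
      refine ((Functor.map_comp _ _ _).symm.trans ?_)
      show ((shiftFunctor (DCoh.D X) (1 : ℤ)).map ((y ≫ v) ≫
        (((1 : ℕ) : ℤ).negOnePow • ((t₀.truncLTι 1).app A₀)⟦((1 : ℕ) : ℤ)⟧'))) = 0
      rw [Linear.comp_units_smul, hy', smul_zero, Functor.map_zero])
    have hz0 : z = 0 := by
      haveI : O'.IsLE 0 := (inferInstance : ((singleFunctor X.Modules 0).obj ((freeModOn X).obj ⊤)).IsLE 0)
      haveI : (O'⟦(1 : ℤ)⟧).IsLE (-1) := t₀.isLE_shift O' 0 1 (-1) (by omega)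
      haveI : (((t₀.truncGE 1).obj A₀)⟦((1 : ℕ) : ℤ)⟧).IsGE 0 :=
        t₀.isGE_shift _ 1 ((1 : ℕ) : ℤ) 0 (by omega)
      exact t₀.zero (X := O'⟦(1 : ℤ)⟧) (Y := ((t₀.truncGE 1).obj A₀)⟦((1 : ℕ) : ℤ)⟧) z (-1) 0 (by omega)
    rw [hz0, zero_comp] at hz
    have h2 : y ≫ v = 0 := (shiftFunctor (DCoh.D X) (1 : ℤ)).map_eq_zero_iff.1 hz
    rwa [Preadditive.IsIso.comp_right_eq_zero] at h2
  -- the pairing
  let τ : (O' ⟶ ((singleFunctor X.Modules 0).obj W)⟦((1 : ℕ) : ℤ)⟧) ≃ₗ[k]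
      (DualLib.DualCoh.PS k ⟶ DualLib.DualCoh.gS k W 1) := LinearEquiv.ofBijective
    { toFun := fun y => u₀ ≫ R.map y
      map_add' := fun y z => by rw [Functor.map_add, Preadditive.comp_add]
      map_smul' := fun a y => by
        rw [DualLib.DualCoh.map_smul_Rpush, Linear.comp_smul]
        rfl } (hu₀ _)
  let c₀ : O'⟦((0 : ℕ) : ℤ)⟧ ⟶ O' := (shiftFunctorZero' (DCoh.D X) ((0 : ℕ) : ℤ) (by simp)).hom.app O'
  let Ψ : (O' ⟶ ((singleFunctor X.Modules 0).obj W)⟦((1 : ℕ) : ℤ)⟧) →ₗ[k]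
      Module.Dual k (DualLib.DualCoh.PS k ⟶ DualLib.DualCoh.gS k ((freeModOn X).obj ⊤) 0) :=
    LinearMap.mk₂ k (fun y x => ℓ (x ≫ R.map (c₀ ≫ y ≫ ι₁ ≫ c) ≫ ε))
      (fun y y' x => by simp only [Preadditive.add_comp, Preadditive.comp_add, Functor.map_add, map_add])
      (fun a y x => by
        simp only [R, Linear.smul_comp, Linear.comp_smul, DualLib.DualCoh.map_smul_Rpush, map_smul])
      (fun y x x' => by simp only [Preadditive.add_comp, map_add])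
      (fun a y x => by simp only [Linear.smul_comp, map_smul])
  have hΨ : Function.Injective Ψ := by
    refine (injective_iff_map_eq_zero Ψ).2 fun y hy => hinj y ?_
    have hq : DCoh.IsQCohD (O'⟦((0 : ℕ) : ℤ)⟧) := by
      haveI : Coh.IsQCoh ((freeModOn X).obj ⊤) :=
        Coherent.isQCoh_of_iso (DQCoh.topStructIso X).symm (h := Coherent.isQCoh_structureModule)
      exact DQCoh.isQCohD_shift (FlatBC14.isQCohD_inD _) _
    have h0 : R.map (c₀ ≫ y ≫ ι₁ ≫ c) ≫ ε = 0 := by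
      refine eq_zero_of_comp' k (DQCoh.isQCohD_Rpush _ _ hq) _ fun x => ?_
      rw [hℓ (x ≫ _), show ℓ (x ≫ R.map (c₀ ≫ y ≫ ι₁ ≫ c) ≫ ε) = 0 from LinearMap.congr_fun hy x, zero_smul]
    have h1 : c₀ ≫ y ≫ ι₁ ≫ c = 0 := (hε _ hq).1 (by
      show R.map _ ≫ ε = R.map 0 ≫ ε
      rw [h0, Functor.map_zero, zero_comp])
    rwa [Preadditive.IsIso.comp_left_eq_zero] at h1
  have hO : Coh.IsCoh ((freeModOn X).obj ⊤) :=
    Coherent.isCoh_iso (DQCoh.topStructIso X).symm (Coherent.isCoh_structureModule X)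
  haveI := CurveRR24.finite_HH_of_isCoh k hO 0
  haveI : Module.Finite k (DualLib.DualCoh.PS k ⟶ DualLib.DualCoh.gS k ((freeModOn X).obj ⊤) 0) :=
    Module.Finite.equiv (e _ 0).symm
  have hsurj : Function.Surjective Ψ := fun Λ => by
    haveI : A.IsLE (-((1 : ℕ) : ℤ)) := (DerivedCategory.isLE_iff A _).2 fun i hi => hz i (by simpa using hi)
    haveI : A₀.IsLE 0 := t₀.isLE_shift A (-((1 : ℕ) : ℤ)) (-((1 : ℕ) : ℤ)) 0 (by omega)
    haveI : IsIso ((t₀.truncLTι 1).app A₀) := (t₀.isLE_iff_isIso_truncLTι_app 0 1 (by omega) A₀).1 inferInstance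
    haveI : IsIso ι₁ := by dsimp only [ι₁]; infer_instance
    have hq : DCoh.IsQCohD (O'⟦((0 : ℕ) : ℤ)⟧) := by
      haveI : Coh.IsQCoh ((freeModOn X).obj ⊤) :=
        Coherent.isQCoh_of_iso (DQCoh.topStructIso X).symm (h := Coherent.isQCoh_structureModule)
      exact DQCoh.isQCohD_shift (FlatBC14.isQCohD_inD _) _
    haveI := AffSchLib.preservesFiniteLimits_tilde (CommRingCat.of k)
    obtain ⟨φ, hφ⟩ := DualLib.FieldFun.exists_functional (DualLib.DualCoh.gS k ((freeModOn X).obj ⊤) 0)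
      (DQCoh.isQCohD_Rpush _ _ hq) Λ
    obtain ⟨y, hy⟩ := (hε _ hq).2 φ
    refine ⟨inv c₀ ≫ y ≫ inv c ≫ inv ι₁, LinearMap.ext fun x => ?_⟩
    show ℓ (x ≫ R.map (c₀ ≫ (inv c₀ ≫ y ≫ inv c ≫ inv ι₁) ≫ ι₁ ≫ c) ≫ ε) = Λ x
    simp only [Category.assoc, IsIso.inv_hom_id_assoc, IsIso.hom_inv_id_assoc, IsIso.inv_hom_id, Category.comp_id]
    have hy' : R.map y ≫ ε = φ := hy
    rw [hy']
    have h3 : (ℓ (x ≫ φ) - Λ x) • 𝟙 (DualLib.DualCoh.PS k) = 0 := by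
      rw [sub_smul, ← hℓ (x ≫ φ), ← hφ x, sub_self]
    exact sub_eq_zero.1 (DualLib.DualCoh.eq_zero_of_smul_id h3)
  have h := (LinearEquiv.ofBijective Ψ ⟨hΨ, hsurj⟩).finrank_eq
  rw [Subspace.dual_finrank_eq, (e _ 0).finrank_eq, τ.finrank_eq] at h
  show Module.finrank k (Coh.HH X W 1) = _
  rw [← (e W 1).finrank_eq]
  exact h

end Groth.Agent.DualMod3
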