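import Groth.Agent.DualMod3.Adjunction
import Groth.Agent.DualMod3.Vanish
import Groth.Agent.DualMod3.ReducedCM
import Groth.Agent.S1656
import Groth.Agent.Clifford24.Subcurves.Main
import Groth.Agent.AbCubeLib.FiniteDegree
import Groth.Agent.Props12.KerReduced
import Groth.Agent.CurveRR24.AlgClosed
import Groth.Agent.Surf15.Connected
import Groth.Agent.TF7.Euler

/-!
# Degrees of the dualizing module on subcurves
-/

set_option autoImplicit false
set_option backward.isDefEq.respectTransparency false
set_option linter.style.haveILetI false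
set_option maxHeartbeats 1000000

universe u

open CategoryTheory CategoryTheory.Limits AlgebraicGeometry TopologicalSpace Opposite
open Groth.Agent.Coherent Groth.Agent.PicLib Groth.Agent.AmpleLib Groth.Agent.EulerLib Groth.Agent.CurveRR24
open Groth.Agent.Subcurves24

attribute [local instance] HasDerivedCategory.standard

namespace Groth.Agent.DualMod3

variable {X : Scheme.{u}}

/-- The complementary subcurve. -/
def compl (T : Set X) : Closeds X := ⟨closure Tᶜ, isClosed_closure⟩

theorem eq_vanishingIdeal (J : X.IdealSheafData) [IsReduced J.subscheme] :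
    J = Scheme.IdealSheafData.vanishingIdeal J.support := by
  have h := Props12.ker_eq_vanishingIdeal J.subschemeι
  rw [Scheme.IdealSheafData.ker_subschemeι] at h
  refine h.trans (congrArg _ ?_)
  refine Closeds.ext ?_
  show closure (Set.range J.subschemeι) = (J.support : Set X)
  rw [J.range_subschemeι, J.support.isClosed.closure_eq]

theorem genericPoint_not_mem_compl [IsNoetherian X] (T : Closeds X) {C : Closeds X}
    (hC : (C : Set X) ∈ irreducibleComponents X) {η : X} (hη : IsGenericPoint η (C : Set X))
    (h : η ∈ (T : Set X)) : η ∉ closure (T : Set X)ᶜ := by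
  rw [closure_compl]
  exact fun hn => hn (mem_interior_of_subset hC hη (hη.def ▸ closure_minimal (Set.singleton_subset_iff.2 h) T.isClosed))

theorem dim_inter_compl [IsNoetherian X] (hdim : topologicalKrullDim X ≤ 1) (T : Closeds X) :
    topologicalKrullDim ((T : Set X) ∩ (compl (T : Set X) : Set X) : Set X) < ((1 : ℕ) : WithBot ℕ∞) :=
  dim_lt_one_of_noGeneric hdim (T.isClosed.inter isClosed_closure)
    fun _ hC _ hη hm => genericPoint_not_mem_compl T hC hη hm.1 hm.2

/-- Connected one-dimensional closed subsets of a curve have dense interior. -/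
theorem subset_closure_interior [IsNoetherian X] (hdim : topologicalKrullDim X ≤ 1) (T : Closeds X)
    (hconn : _root_.IsPreconnected (T : Set X)) (hT : topologicalKrullDim (T : Set X) = 1) :
    (T : Set X) ⊆ closure ((T : Set X) ∩ (compl (T : Set X) : Set X)ᶜ) := by
  let K : Set X := closure ((T : Set X) ∩ (compl (T : Set X) : Set X)ᶜ)
  let F : Set X := closure ((T : Set X) \ K)
  have hFT : F ⊆ T := closure_minimal (fun x hx => hx.1) T.isClosed
  have hnog : ∀ (C : Closeds X), (C : Set X) ∈ irreducibleComponents X → ∀ η, IsGenericPoint η (C : Set X) → η ∉ F := by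
    intro C hC η hη hm
    have hint := mem_interior_of_subset hC hη (hη.def ▸ closure_minimal (Set.singleton_subset_iff.2 (hFT hm)) T.isClosed)
    obtain ⟨z, hz, hz'⟩ := mem_closure_iff.1 hm _ isOpen_interior hint
    refine hz'.2 (subset_closure ⟨hz'.1, fun h => ?_⟩)
    have h' : z ∈ closure (T : Set X)ᶜ := h
    rw [closure_compl] at h'
    exact h' hz
  have hdF := dim_lt_one_of_noGeneric hdim isClosed_closure hnog
  -- closed subsets of a zero dimensional set
  have hcl : IsClosed ((T : Set X) \ K) := by
    have hpts : ∀ y ∈ F, IsClosed ({y} : Set X) := fun y hy => by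
      obtain hh | hh := em (IsClosed ({y} : Set X))
      · exact hh
      · exfalso
        have : y ∉ genericPoints X := fun hg => hnog ⟨_, isClosed_closure⟩ hg y rfl hy
        exact hh (TF7.isClosed_singleton_of_notGeneric hdim this)
    have hfin : F.Finite := by
      obtain ⟨S, hS, hScl, hSirr, hTeq⟩ := NoetherianSpace.exists_finite_set_isClosed_irreducible
        (isClosed_closure (s := (T : Set X) \ K))
      show (closure ((T : Set X) \ K)).Finite
      rw [hTeq]
      refine hS.sUnion fun C hC => ?_
      have hg := (hSirr C hC).isGenericPoint_genericPoint (hScl C hC)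
      rw [← hg.def, (hpts _ (show _ ∈ closure ((T : Set X) \ K) from hTeq ▸ ⟨C, hC, hg.mem⟩)).closure_eq]
      exact Set.finite_singleton _
    rw [← Set.biUnion_of_singleton ((T : Set X) \ K)]
    exact (hfin.subset subset_closure).isClosed_biUnion fun z hz => hpts z (subset_closure hz)
  by_contra hnot
  obtain ⟨a, haT, haK⟩ := Set.not_subset.1 hnot
  have hKT : K ⊆ T := closure_minimal (fun x hx => hx.1) T.isClosed
  by_cases hK : K.Nonempty
  · obtain ⟨b, hb⟩ := hK
    obtain ⟨z, -, hz1, hz2⟩ := isPreconnected_closed_iff.1 hconn K ((T : Set X) \ K) isClosed_closure hcl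
      (fun x hx => or_iff_not_imp_left.2 fun h => ⟨hx, h⟩) ⟨b, hKT hb, hb⟩ ⟨a, haT, haT, haK⟩
    exact hz2.2 hz1
  · have hTF : (T : Set X) ⊆ F := fun x hx => subset_closure ⟨hx, fun h => hK ⟨x, h⟩⟩
    have := (dim_mono hTF).trans_lt hdF
    rw [hT] at this
    exact absurd this (by decide)

variable (k : Type u) [Field k] [X.Over (Spec (CommRingCat.of k))] [IsProper (X ↘ Spec (CommRingCat.of k))]

theorem euler_quot (I : X.IdealSheafData) :
    @Curv2.euler k _ I.subscheme ⟨I.subschemeι ≫ (X ↘ Spec (CommRingCat.of k))⟩ (Coh.structureModule I.subscheme) =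
      Curv2.euler k X (ClSub.quotMod I) := by
  haveI : X.IsSeparated := EulerLib.isSeparated_of_proper (X := X) k
  letI : I.subscheme.Over (Spec (CommRingCat.of k)) := ⟨I.subschemeι ≫ (X ↘ Spec (CommRingCat.of k))⟩
  haveI : Coh.IsQCoh (Coh.structureModule I.subscheme) := isQCoh_structureModule
  exact AbCubeLib.euler_push k I.subschemeι rfl _

theorem euler_quot_tensor (I : X.IdealSheafData) {W : X.Modules} (hW : PicF.IsInvertible W) :
    @Curv2.euler k _ I.subscheme ⟨I.subschemeι ≫ (X ↘ Spec (CommRingCat.of k))⟩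
        ((Scheme.Modules.pullback I.subschemeι).obj W) =
      Curv2.euler k X (CohB1.tensorMod (ClSub.quotMod I) W) := by
  haveI : X.IsSeparated := EulerLib.isSeparated_of_proper (X := X) k
  letI : I.subscheme.Over (Spec (CommRingCat.of k)) := ⟨I.subschemeι ≫ (X ↘ Spec (CommRingCat.of k))⟩
  have hWi := PicLoc.isInvertible_pullback I.subschemeι hW
  haveI : Coh.IsQCoh ((Scheme.Modules.pullback I.subschemeι).obj W) := isQCoh_of_isInvertible hWi
  have hF : FlatMod.IsFinLocFree W := fun x => let ⟨U, hx, e⟩ := isFinLocFreeOfRank_one hW x; ⟨U, 1, hx, e⟩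
  rw [AbCubeLib.euler_push k I.subschemeι rfl]
  refine euler_congr k X ?_
  exact (Scheme.Modules.pushforward I.subschemeι).mapIso ((unitTensorIso _).symm ≪≫ tensorComm _ _) ≪≫
    ((projIso (f := I.subschemeι) hF).app (Coh.structureModule I.subscheme)).symm ≪≫ tensorComm _ _

/-- The length of the intersection with the complementary subcurve. -/
noncomputable def delta (J : X.IdealSheafData) : ℕ :=
  Module.finrank k (Coh.HH X (ClSub.quotMod (J ⊔ Scheme.IdealSheafData.vanishingIdeal
    ⟨closure ((J.support : Set X)ᶜ), isClosed_closure⟩)) 0)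

/-- Adjunction: `deg ω|_J = δ - 2 χ(O_J)`. -/
theorem deg_adjunction [IsReduced X] (hdim : topologicalKrullDim X ≤ 1) {W : X.Modules}
    (hW : PicF.IsInvertible W) (t : Coh.HH X W 1 →ₗ[k] k) (hrep : ∀ F : X.Modules, Coh.IsQCoh F → SerreDual.Rep t F)
    (hWe : Curv2.euler k X W = - Curv2.euler k X (Coh.structureModule X))
    (J : X.IdealSheafData) [IsReduced J.subscheme] [ConnectedSpace J.subscheme]
    (hJ : topologicalKrullDim J.subscheme = 1) :
    @Curv2.deg k _ J.subscheme ⟨J.subschemeι ≫ (X ↘ Spec (CommRingCat.of k))⟩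
        ((Scheme.Modules.pullback J.subschemeι).obj W) 1 =
      -2 * @Curv2.euler k _ J.subscheme ⟨J.subschemeι ≫ (X ↘ Spec (CommRingCat.of k))⟩ (Coh.structureModule J.subscheme) +
        (delta k J : ℤ) := by
  haveI := EulerLib.isNoetherian_of_proper k (X := X)
  let T := J.support
  have hJe := eq_vanishingIdeal J
  have hr : Set.range J.subschemeι = (T : Set X) := J.range_subschemeι
  have hconn : _root_.IsPreconnected (T : Set X) := hr ▸ isPreconnected_range J.subschemeι.continuous
  have hT : topologicalKrullDim (T : Set X) = 1 := by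
    rw [← hJ, ← hr]
    exact (J.subschemeι.isEmbedding.toHomeomorph.isHomeomorph.topologicalKrullDim_eq _).symm
  have h := euler_twist_quot_eq k hdim hW t hrep hWe T (compl (T : Set X))
    (Set.eq_univ_of_forall fun x => or_iff_not_imp_left.2 fun hx => subset_closure hx)
    (subset_closure_interior hdim T hconn hT)
    (closure_minimal (fun x hx => subset_closure ⟨subset_closure hx, hx⟩) isClosed_closure)
    (dim_inter_compl hdim T)
  rw [← hJe, ← euler_quot_tensor k J hW, ← euler_quot k J] at h
  simp only [Curv2.deg, Nat.cast_one, one_mul]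
  show _ = _ + ((Module.finrank k (Coh.HH X (ClSub.quotMod (J ⊔ Scheme.IdealSheafData.vanishingIdeal
    (compl (T : Set X)))) 0) : ℕ) : ℤ)
  omega

/-- The dualizing module of a reduced connected curve. -/
theorem dualizing_data [IsReduced X] [ConnectedSpace X] (hdim : topologicalKrullDim X = 1)
    [DCoh.HasRpush (X ↘ Spec (CommRingCat.of k))] (h : DCoh.RpushPreservesQCoh (X ↘ Spec (CommRingCat.of k)))
    [DCoh.HasShriek (X ↘ Spec (CommRingCat.of k)) h] (OY : DCoh.DQCoh (Spec (CommRingCat.of k)))
    (hOY : Nonempty (OY.obj ≅ DCoh.inD (Spec (CommRingCat.of k)) (Coh.structureModule (Spec (CommRingCat.of k))))) :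
    (∃ t : Coh.HH X (DCoh.dualizingMod (X ↘ Spec (CommRingCat.of k)) h OY 1) 1 →ₗ[k] k,
      ∀ F : X.Modules, Coh.IsQCoh F → SerreDual.Rep t F) ∧
    Curv2.euler k X (DCoh.dualizingMod (X ↘ Spec (CommRingCat.of k)) h OY 1) =
      - Curv2.euler k X (Coh.structureModule X) := by
  haveI := EulerLib.isNoetherian_of_proper k (X := X)
  exact ⟨exists_rep k X h OY hOY (d := 1) hdim.le, by
    rw [S1656.result k X (cm_stalk_of_reduced X hdim.le) (fun Z hZ => components_dim_one hdim hZ) h OY hOY,
      neg_neg]⟩

variable [IsAlgClosed k]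

/-- `χ(O_J) = 1 - g` on a connected reduced subcurve. -/
theorem euler_structure_sub (J : X.IdealSheafData) [IsReduced J.subscheme] [ConnectedSpace J.subscheme]
    (hJ : topologicalKrullDim J.subscheme = 1) :
    @Curv2.euler k _ J.subscheme ⟨J.subschemeι ≫ (X ↘ Spec (CommRingCat.of k))⟩ (Coh.structureModule J.subscheme) =
      1 - (@Curv2.genus k _ J.subscheme ⟨J.subschemeι ≫ (X ↘ Spec (CommRingCat.of k))⟩ : ℤ) := by
  letI : J.subscheme.Over (Spec (CommRingCat.of k)) := ⟨J.subschemeι ≫ (X ↘ Spec (CommRingCat.of k))⟩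
  haveI : IsProper (J.subscheme ↘ Spec (CommRingCat.of k)) :=
    inferInstanceAs (IsProper (J.subschemeι ≫ (X ↘ Spec (CommRingCat.of k))))
  rw [CurveRR24.euler_structure k hJ.le, CurveRR24.h0_structure k]
  rfl

omit [IsAlgClosed k] in
/-- Only the whole curve meets its complement in nothing. -/
theorem eq_bot_of_delta_eq_zero [IsReduced X] [ConnectedSpace X] (J : X.IdealSheafData)
    [IsReduced J.subscheme] [Nonempty J.subscheme] (h : delta k J = 0) :
    J = ⊥ := by
  haveI := EulerLib.isNoetherian_of_proper k (X := X)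
  let T := J.support
  let Q := J ⊔ Scheme.IdealSheafData.vanishingIdeal (compl (T : Set X))
  have hQ : Module.finrank k (Coh.HH X (ClSub.quotMod Q) 0) = 0 := h
  letI : Q.subscheme.Over (Spec (CommRingCat.of k)) := ⟨Q.subschemeι ≫ (X ↘ Spec (CommRingCat.of k))⟩
  haveI : IsProper (Q.subscheme ↘ Spec (CommRingCat.of k)) :=
    inferInstanceAs (IsProper (Q.subschemeι ≫ (X ↘ Spec (CommRingCat.of k))))
  have hempty : IsEmpty Q.subscheme := not_nonempty_iff.1 fun hne => by
    haveI : IsLocallyNoetherian Q.subscheme := LocallyOfFiniteType.isLocallyNoetherian Q.subschemeι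
    haveI := finite_HH_of_isCoh k (isCoh_structureModule Q.subscheme) 0
    haveI : Nonempty (⊤ : Q.subscheme.Opens) := ⟨⟨hne.some, trivial⟩⟩
    haveI : Nontrivial (Coh.HH Q.subscheme (Coh.structureModule Q.subscheme) 0) :=
      (CurveRR24.hhZero k (Coh.structureModule Q.subscheme)).toEquiv.nontrivial_congr.2
        (inferInstanceAs (Nontrivial Γ(Q.subscheme, ⊤)))
    have := Module.finrank_pos (R := k) (M := Coh.HH Q.subscheme (Coh.structureModule Q.subscheme) 0)
    rw [← Surf15.finrank_h0_quotMod k Q rfl, hQ] at this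
    exact lt_irrefl 0 this
  have hdis : ∀ x ∈ (T : Set X), x ∉ closure (T : Set X)ᶜ := fun x hx hx' => by
    have hm : x ∈ (Q.support : Set X) := by
      rw [Scheme.IdealSheafData.support_sup, Closeds.coe_inf, Scheme.IdealSheafData.coe_support_vanishingIdeal]
      exact ⟨hx, hx'⟩
    rw [← Q.range_subschemeι] at hm
    obtain ⟨y, -⟩ := hm
    exact hempty.false y
  have hopen : IsOpen (T : Set X) := by
    rw [show (T : Set X) = (closure (T : Set X)ᶜ)ᶜ from
      Set.Subset.antisymm hdis (Set.compl_subset_comm.1 subset_closure)]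
    exact isClosed_closure.isOpen_compl
  have huniv : (T : Set X) = Set.univ := IsClopen.eq_univ ⟨T.isClosed, hopen⟩ (by
    rw [← J.range_subschemeι]; exact Set.range_nonempty _)
  rw [eq_vanishingIdeal J, show J.support = ⊤ from Closeds.ext huniv, Scheme.IdealSheafData.vanishingIdeal_top,
    Scheme.nilradical_eq_bot]

omit [IsAlgClosed k] in
theorem euler_bot [IsReduced X] {W : X.Modules} (hW : PicF.IsInvertible W) :
    @Curv2.euler k _ (⊥ : X.IdealSheafData).subscheme ⟨(⊥ : X.IdealSheafData).subschemeι ≫ (X ↘ Spec (CommRingCat.of k))⟩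
        ((Scheme.Modules.pullback (⊥ : X.IdealSheafData).subschemeι).obj W) = Curv2.euler k X W := by
  haveI := EulerLib.isNoetherian_of_proper k (X := X)
  have h := euler_red k hW (⊤ : Closeds X)
  have hz : IsZero (NT (⊤ : Closeds X) W) := isZero_NT_of_univ hW rfl
  have h0 : Curv2.euler k X (NT (⊤ : Closeds X) W) = 0 := by
    refine finsum_eq_zero_of_forall_eq_zero fun q => ?_
    haveI := subsingleton_HH_of_isZero hz q
    rw [Module.finrank_zero_of_subsingleton, Nat.cast_zero, mul_zero]
  rw [h0, zero_add] at h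
  have key : ∀ I : X.IdealSheafData, I = red (⊤ : Closeds X) →
      @Curv2.euler k _ I.subscheme ⟨I.subschemeι ≫ (X ↘ Spec (CommRingCat.of k))⟩
        ((Scheme.Modules.pullback I.subschemeι).obj W) = Curv2.euler k X W := by
    rintro _ rfl
    exact h.symm
  exact key ⊥ (by rw [red, Scheme.IdealSheafData.vanishingIdeal_top, Scheme.nilradical_eq_bot])

omit [IsAlgClosed k] in
theorem euler_bot_structure [IsReduced X] :
    @Curv2.euler k _ (⊥ : X.IdealSheafData).subscheme ⟨(⊥ : X.IdealSheafData).subschemeι ≫ (X ↘ Spec (CommRingCat.of k))⟩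
        (Coh.structureModule (⊥ : X.IdealSheafData).subscheme) = Curv2.euler k X (Coh.structureModule X) := by
  letI : (⊥ : X.IdealSheafData).subscheme.Over (Spec (CommRingCat.of k)) :=
    ⟨(⊥ : X.IdealSheafData).subschemeι ≫ (X ↘ Spec (CommRingCat.of k))⟩
  refine Eq.trans ?_ (euler_bot k (W := Coh.structureModule X) isInvertible_structureModule)
  obtain ⟨e⟩ := exists_pullStructureIso (X := X) (⊥ : X.IdealSheafData).subschemeι
  exact euler_congr k _ e.symm

end Groth.Agent.DualMod3
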