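import Groth.Agent.DualMod3.Apps
import Groth.Agent.CurveRR24.RR
import Groth.Agent.CurveRR24.Sky
import Groth.Agent.CurveRR24.Degree
import Groth.Agent.Coherent.QcohOps
import Groth.Agent.Coherent.Existence.SysKernel
import Groth.Agent.RelVALib.UPProp
import Groth.Agent.EulerLib.Twist
import Groth.Agent.SerreDual.HomLinear

/-!
# Adjunction on a reduced curve with invertible dualizing module
-/

set_option autoImplicit false
set_option backward.isDefEq.respectTransparency false
set_option linter.style.haveILetI false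
set_option maxHeartbeats 1000000

universe u

open CategoryTheory CategoryTheory.Limits AlgebraicGeometry TopologicalSpace Opposite
open Groth.Agent.Coherent Groth.Agent.PicLib Groth.Agent.AmpleLib Groth.Agent.EulerLib Groth.Agent.CurveRR24

namespace Groth.Agent.DualMod3

variable {X : Scheme.{u}} {I I' : X.IdealSheafData}

theorem toSub_affine_eq_zero_iff (J : X.IdealSheafData) (U : X.affineOpens) (a : Γ(Coh.structureModule X, U.1)) :
    (ClSub.toSubscheme J).app U.1 a = 0 ↔ (show Γ(X, U.1) from a) ∈ J.ideal U := by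
  rw [← J.ker_subschemeι_app U, RingHom.mem_ker]
  exact Iff.rfl

/-- A function killed by both restrictions vanishes. -/
theorem eq_zero_of_both (h : I ⊓ I' = ⊥) {V : X.Opens} (s : Γ(Coh.structureModule X, V))
    (h1 : (ClSub.toSubscheme I).app V s = 0) (h2 : (ClSub.toSubscheme I').app V s = 0) : s = 0 := by
  refine sec_ext _ _ _ fun y hy => ?_
  obtain ⟨U, hU, hyU, hUV⟩ := exists_isAffineOpen_mem_and_subset (x := y) (U := V) hy
  refine ⟨U, hUV, hyU, ?_⟩
  rw [map_zero]
  have m : (show Γ(X, U) from resM (Coh.structureModule X) hUV s) ∈ (I ⊓ I').ideal ⟨U, hU⟩ :=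
    ⟨(toSub_affine_eq_zero_iff I ⟨U, hU⟩ _).1 ((app_resM (ClSub.toSubscheme I) hUV s).trans (by rw [h1, map_zero])),
      (toSub_affine_eq_zero_iff I' ⟨U, hU⟩ _).1 ((app_resM (ClSub.toSubscheme I') hUV s).trans (by rw [h2, map_zero]))⟩
  rw [h] at m
  exact (Submodule.mem_bot _).1 m

/-- Sections of the two ideals multiply to zero. -/
theorem ι_smul_eq_zero (h : I ⊓ I' = ⊥) {V : X.Opens} (r : Γ(X, V))
    (hr : (ClSub.toSubscheme I').app V (r • oneSec V) = 0) (m : Γ(ClSub.idealMod I, V)) : r • m = 0 := by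
  haveI : Mono (ClSub.idealModι I) := inferInstanceAs (Mono (kernel.ι (ClSub.toSubscheme I)))
  refine app_injective_of_mono (ClSub.idealModι I) V (Eq.trans ?_ (map_zero _).symm)
  rw [Scheme.Modules.Hom.app_smul]
  refine eq_zero_of_both h _ ?_ ?_
  · rw [Scheme.Modules.Hom.app_smul]
    show r • (ClSub.toSubscheme I).app V ((kernel.ι (ClSub.toSubscheme I)).app V m) = 0
    rw [kernel_ι_app_zero, smul_zero]
  · have e : r • (ClSub.idealModι I).app V m =
        (show Γ(X, V) from (ClSub.idealModι I).app V m) • (r • oneSec V) := by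
      show r * (show Γ(X, V) from (ClSub.idealModι I).app V m) = _ * (r * 1)
      rw [mul_one, mul_comm]
    rw [e, Scheme.Modules.Hom.app_smul, hr, smul_zero]

/-- Twisting does not change this. -/
theorem smul_tensor_eq_zero (h : I ⊓ I' = ⊥) {W : X.Modules} {V : X.Opens} (r : Γ(X, V))
    (hr : (ClSub.toSubscheme I').app V (r • oneSec V) = 0)
    (z : Γ(CohB1.tensorMod (ClSub.idealMod I) W, V)) : r • z = 0 := by
  revert r z
  suffices key : ∀ (V' : X.Opens) (z : Γ(CohB1.tensorMod (ClSub.idealMod I) W, V')) (r : Γ(X, V')),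
      (ClSub.toSubscheme I').app V' (r • oneSec V') = 0 → r • z = 0 from fun r hr z => key V z r hr
  refine induction_local (P := fun V' z => ∀ r : Γ(X, V'),
      (ClSub.toSubscheme I').app V' (r • oneSec V') = 0 → r • z = 0) ?_ ?_ ?_ ?_
  · intro U z z' hz hz' r hr
    rw [smul_add, hz r hr, hz' r hr, add_zero]
  · intro U r _
    rw [smul_zero]
  · intro U z hz r hr
    refine sec_ext _ _ _ fun y hy => ?_
    obtain ⟨W', hW', hyW, hP⟩ := hz y hy
    refine ⟨W', hW', hyW, ?_⟩
    rw [map_zero, resM_smul]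
    refine hP _ ?_
    have h1 := congrArg (resM (ClSub.quotMod I') hW') hr
    rw [map_zero, ← app_resM, resM_smul, resM_oneSec] at h1
    exact h1
  · intro U a b r hr
    rw [← tmul_smul_left, ι_smul_eq_zero h r hr a, tmul_zero_left]

/-- The restriction `qI' → Q` compatible with the quotient maps. -/
theorem exists_toSup (I I' : X.IdealSheafData) :
    ∃ q : ClSub.quotMod I' ⟶ ClSub.quotMod (I ⊔ I'), ClSub.toSubscheme I' ≫ q = ClSub.toSubscheme (I ⊔ I') := by
  have hw : ClSub.idealModι I' ≫ ClSub.toSubscheme (I ⊔ I') = 0 := by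
    refine RelVALib.hom_ext_affine _ _ fun U hU x => ?_
    show (ClSub.toSubscheme (I ⊔ I')).app U ((ClSub.idealModι I').app U x) = (0 : Γ(ClSub.quotMod (I ⊔ I'), U))
    refine (toSub_affine_eq_zero_iff _ ⟨U, hU⟩ _).2 ?_
    have := (toSub_affine_eq_zero_iff I' ⟨U, hU⟩ _).1 (kernel_ι_app_zero (ClSub.toSubscheme I') U x)
    exact Ideal.mem_sup_right this
  exact ⟨(shortExact_ideal I').gIsCokernel.desc (CokernelCofork.ofπ _ hw),
    Cofork.IsColimit.π_desc (shortExact_ideal I').gIsCokernel⟩

variable (q : ClSub.quotMod I' ⟶ ClSub.quotMod (I ⊔ I'))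
  (hq : ClSub.toSubscheme I' ≫ q = ClSub.toSubscheme (I ⊔ I'))
include hq

/-- Maps `I → O → qI'` die in `O/(I+I')`. -/
theorem ι_comp_eq_zero (u : Coh.structureModule X ⟶ ClSub.quotMod I') :
    ClSub.idealModι I ≫ u ≫ q = 0 := by
  refine RelVALib.hom_ext_affine _ _ fun U hU x => ?_
  show q.app U (u.app U ((ClSub.idealModι I).app U x)) = (0 : Γ(ClSub.quotMod (I ⊔ I'), U))
  obtain ⟨α, hα⟩ := I'.subschemeι_app_surjective ⟨U, hU⟩ (u.app U (oneSec U))
  let r : Γ(X, U) := (ClSub.idealModι I).app U x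
  have hx : (ClSub.idealModι I).app U x = r • oneSec U := (mul_one r).symm
  have hr : (ClSub.toSubscheme (I ⊔ I')).app U (r • oneSec U) = 0 := by
    rw [← hx]
    exact (toSub_affine_eq_zero_iff _ ⟨U, hU⟩ _).2 (Ideal.mem_sup_left
      ((toSub_affine_eq_zero_iff I ⟨U, hU⟩ _).1 (kernel_ι_app_zero (ClSub.toSubscheme I) U x)))
  rw [hx, Scheme.Modules.Hom.app_smul, Scheme.Modules.Hom.app_smul]
  have hb : u.app U (oneSec U) = (ClSub.toSubscheme I').app U (show Γ(Coh.structureModule X, U) from α) := hα.symm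
  rw [hb, ← ConcreteCategory.comp_apply, ← Scheme.Modules.Hom.comp_app, hq, ← Scheme.Modules.Hom.app_smul]
  have e : r • (show Γ(Coh.structureModule X, U) from α) = α • (r • oneSec U) := by
    show r * α = α * (r * 1)
    rw [mul_one, mul_comm]
  rw [e, Scheme.Modules.Hom.app_smul, hr, smul_zero]

/-- `0 → I → qI' → O/(I+I') → 0`. -/
theorem shortExact_sup (h : I ⊓ I' = ⊥) :
    (ShortComplex.mk (ClSub.idealModι I ≫ ClSub.toSubscheme I') q
      (by rw [Category.assoc]; exact ι_comp_eq_zero q hq _)).ShortExact := by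
  let j := ClSub.idealModι I ≫ ClSub.toSubscheme I'
  have w : j ≫ q = 0 := by rw [Category.assoc]; exact ι_comp_eq_zero q hq _
  haveI : Mono (ClSub.idealModι I) := inferInstanceAs (Mono (kernel.ι (ClSub.toSubscheme I)))
  haveI : Mono j := by
    refine Preadditive.mono_of_cancel_zero j fun {Z} g hg => ?_
    refine (cancel_mono (ClSub.idealModι I)).1 ?_
    rw [zero_comp]
    refine Scheme.Modules.hom_ext _ _ fun V => ConcreteCategory.hom_ext _ _ fun x => ?_
    show (ClSub.idealModι I).app V (g.app V x) = (0 : Γ(Coh.structureModule X, V))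
    refine eq_zero_of_both h _ (kernel_ι_app_zero _ _ _) ?_
    exact congrArg (fun t : Z ⟶ ClSub.quotMod I' => t.app V x) hg
  haveI : Epi q := by
    haveI : Epi (ClSub.toSubscheme I' ≫ q) := by rw [hq]; exact epi_toSubscheme _
    exact epi_of_epi (ClSub.toSubscheme I') q
  let g := kernel.lift q j w
  haveI : Mono g := mono_of_mono_fac (kernel.lift_ι q j w)
  haveI : Epi g := by
    refine Existence.epi_of_affine_surjective g fun U hU b => ?_
    obtain ⟨α, hα⟩ := I'.subschemeι_app_surjective ⟨U, hU⟩ ((kernel.ι q).app U b)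
    have hα' : (ClSub.toSubscheme I').app U (show Γ(Coh.structureModule X, U) from α) = (kernel.ι q).app U b := hα
    have h0 : (ClSub.toSubscheme (I ⊔ I')).app U (show Γ(Coh.structureModule X, U) from α) = 0 := by
      rw [← hq, Scheme.Modules.Hom.comp_app, ConcreteCategory.comp_apply, hα']
      exact kernel_ι_app_zero q U b
    obtain ⟨i₁, h₁, i₂, h₂, hsum⟩ := Submodule.mem_sup.1
      (show α ∈ I.ideal ⟨U, hU⟩ ⊔ I'.ideal ⟨U, hU⟩ from (toSub_affine_eq_zero_iff _ ⟨U, hU⟩ _).1 h0)
    obtain ⟨m, hm⟩ := kernel_sections_exact (ClSub.toSubscheme I) (show Γ(Coh.structureModule X, U) from i₁)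
      ((toSub_affine_eq_zero_iff I ⟨U, hU⟩ _).2 h₁)
    refine ⟨m, app_injective_of_mono (kernel.ι q) U ?_⟩
    rw [← ConcreteCategory.comp_apply, ← Scheme.Modules.Hom.comp_app, kernel.lift_ι]
    show (ClSub.toSubscheme I').app U ((kernel.ι (ClSub.toSubscheme I)).app U m) = _
    rw [hm, ← hα', ← hsum]
    refine Eq.trans ?_ (map_add ((ClSub.toSubscheme I').app U).hom
      (show Γ(Coh.structureModule X, U) from i₁) (show Γ(Coh.structureModule X, U) from i₂)).symm
    rw [(toSub_affine_eq_zero_iff I' ⟨U, hU⟩ (show Γ(Coh.structureModule X, U) from i₂)).2 h₂, add_zero]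
  haveI : IsIso g := isIso_of_mono_of_epi g
  exact { exact := (ShortComplex.exact_iff_epi_kernel_lift (ShortComplex.mk j q w)).2 (inferInstanceAs (Epi g))
          mono_f := inferInstanceAs (Mono j)
          epi_g := inferInstanceAs (Epi q) }

omit hq q
variable (k : Type u) [Field k] [X.Over (Spec (CommRingCat.of k))] [IsProper (X ↘ Spec (CommRingCat.of k))]

/-- One half of adjunction. -/
theorem euler_twist_ideal_le [IsReduced X] (hd : topologicalKrullDim X ≤ 1) {W : X.Modules}
    (hW : PicF.IsInvertible W) (t : Coh.HH X W 1 →ₗ[k] k) (hrep : ∀ F : X.Modules, Coh.IsQCoh F → SerreDual.Rep t F)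
    (J J' : Closeds X) (hbot : Scheme.IdealSheafData.vanishingIdeal J ⊓ Scheme.IdealSheafData.vanishingIdeal J' = ⊥)
    (hdense : (J' : Set X) ⊆ closure ((J' : Set X) ∩ (J : Set X)ᶜ)) :
    Curv2.euler k X (CohB1.tensorMod (ClSub.idealMod (Scheme.IdealSheafData.vanishingIdeal J)) W) ≤
      - Curv2.euler k X (ClSub.quotMod (Scheme.IdealSheafData.vanishingIdeal J')) := by
  haveI := EulerLib.isNoetherian_of_proper k (X := X)
  let I := Scheme.IdealSheafData.vanishingIdeal J
  let I' := Scheme.IdealSheafData.vanishingIdeal J'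
  obtain ⟨q, hq⟩ := exists_toSup I I'
  have hE := shortExact_sup q hq hbot
  haveI : Mono (ClSub.idealModι I) := inferInstanceAs (Mono (kernel.ι (ClSub.toSubscheme I)))
  haveI := EulerLib.mono_tensorMap hW (ClSub.idealModι I)
  haveI hjm : Mono (ClSub.idealModι I ≫ ClSub.toSubscheme I') := hE.mono_f
  let ιW : CohB1.tensorMod (ClSub.idealMod I) W ⟶ W :=
    tensorMap (ClSub.idealModι I) (𝟙 W) ≫ (unitTensorIso W).hom
  have hqI' : Coh.IsCoh (ClSub.quotMod I') := isCoh_quotMod I'
  have hIW : Coh.IsCoh (CohB1.tensorMod (ClSub.idealMod I) W) := isCoh_twist hW (isCoh_idealMod' I)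
  haveI := finite_HH_of_isCoh k hIW 0
  haveI := finite_HH_of_isCoh k hIW 1
  haveI := finite_HH_of_isCoh k hqI' 1
  haveI := finite_HH_of_isCoh k hqI' 0
  haveI : Epi (ClSub.toSubscheme I') := epi_toSubscheme I'
  haveI : Module.Finite k (ClSub.quotMod I' ⟶ W) := Module.Finite.equiv (SerreDual.dualEquiv t (hrep _ hqI'.1)).symm
  haveI : Module.Finite k (CohB1.tensorMod (ClSub.idealMod I) W ⟶ W) :=
    Module.Finite.equiv (SerreDual.dualEquiv t (hrep _ hIW.1)).symm
  haveI : Module.Finite k (Coh.structureModule X ⟶ CohB1.tensorMod (ClSub.idealMod I) W) :=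
    Module.Finite.equiv (SerreDual.homUnitHH k _).symm
  -- first bound
  have h1 : Module.finrank k (Coh.HH X (CohB1.tensorMod (ClSub.idealMod I) W) 0) ≤
      Module.finrank k (Coh.HH X (ClSub.quotMod I') 1) := by
    let G := Linear.rightComp k (Coh.structureModule X) ιW
    let P := Linear.leftComp k W (ClSub.toSubscheme I')
    have hG : Function.Injective G := fun a b e => (cancel_mono ιW).1 e
    have hle : LinearMap.range G ≤ LinearMap.range P := by
      rintro _ ⟨v, rfl⟩
      have hz : ClSub.idealModι I' ≫ v ≫ ιW = 0 := by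
        refine Scheme.Modules.hom_ext _ _ fun U => ConcreteCategory.hom_ext _ _ fun x => ?_
        show ιW.app U (v.app U ((ClSub.idealModι I').app U x)) = (0 : Γ(W, U))
        let r : Γ(X, U) := (ClSub.idealModι I').app U x
        have hx : (ClSub.idealModι I').app U x = r • oneSec U := (mul_one r).symm
        rw [hx, Scheme.Modules.Hom.app_smul, smul_tensor_eq_zero hbot r (by
          rw [← hx]; exact kernel_ι_app_zero (ClSub.toSubscheme I') U x), map_zero]
      exact ⟨(shortExact_ideal I').gIsCokernel.desc (CokernelCofork.ofπ _ hz),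
        Cofork.IsColimit.π_desc (shortExact_ideal I').gIsCokernel⟩
    haveI : Module.Finite k (LinearMap.range P) := inferInstance
    rw [← (SerreDual.homUnitHH k (CohB1.tensorMod (ClSub.idealMod I) W)).finrank_eq,
      ← LinearMap.finrank_range_of_inj hG]
    refine (Submodule.finrank_mono hle).trans ((LinearMap.finrank_range_le P).trans ?_)
    rw [(SerreDual.dualEquiv t (hrep _ hqI'.1)).finrank_eq, Subspace.dual_finrank_eq]
  -- second bound
  have h2 : Module.finrank k (Coh.HH X (ClSub.quotMod I') 0) ≤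
      Module.finrank k (Coh.HH X (CohB1.tensorMod (ClSub.idealMod I) W) 1) := by
    let T : (ClSub.idealMod I ⟶ ClSub.idealMod I) →ₗ[k] (CohB1.tensorMod (ClSub.idealMod I) W ⟶ W) :=
      (Linear.rightComp k _ ιW) ∘ₗ SerreDual.tensorRightHom k _ _ W
    have hT : Function.Injective T := fun e e' hee =>
      SerreDual.tensorRightHom_injective k _ _ hW ((cancel_mono ιW).1 hee)
    haveI : Module.Finite k (ClSub.idealMod I ⟶ ClSub.idealMod I) := Module.Finite.of_injective T hT
    let R := Linear.rightComp k (ClSub.idealMod I) (ClSub.idealModι I ≫ ClSub.toSubscheme I')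
    let L := Linear.leftComp k (ClSub.quotMod I') (ClSub.idealModι I)
    have hL : Function.Injective L := by
      refine (injective_iff_map_eq_zero _).2 fun u hu => ?_
      have hu' : ClSub.idealModι I ≫ u = 0 := hu
      rw [← unitDesc_unitVal u, ← unitDesc_unitVal (0 : Coh.structureModule X ⟶ ClSub.quotMod I')]
      refine congrArg _ ?_
      let V : X.Opens := ⟨(J : Set X)ᶜ, J.isClosed.isOpen_compl⟩
      -- the restriction to the complement of `J` vanishes
      have hV : u.app V (oneSec V) = 0 := by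
        haveI : Subsingleton Γ(ClSub.quotMod I, V) := by
          have : I.subschemeι ⁻¹ᵁ V = ⊥ := Opens.ext (Set.eq_empty_of_forall_notMem fun z hz => hz (by
            have := Set.mem_range_self (f := I.subschemeι) z
            rw [I.range_subschemeι, Scheme.IdealSheafData.coe_support_vanishingIdeal] at this
            exact this))
          show Subsingleton Γ(I.subscheme, I.subschemeι ⁻¹ᵁ V)
          rw [this]
          exact CommRingCat.subsingleton_of_isTerminal I.subscheme.sheaf.isTerminalOfEmpty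
        obtain ⟨m, hm⟩ := kernel_sections_exact (ClSub.toSubscheme I) (oneSec V) (Subsingleton.elim _ _)
        rw [← hm]
        exact congrArg (fun w : ClSub.idealMod I ⟶ ClSub.quotMod I' => w.app V m) hu'
      haveI : IsReduced I'.subscheme := Props12.isReduced_subscheme_vanishingIdeal J'
      show u.app ⊤ (oneSec ⊤) = (0 : Γ(ClSub.quotMod I', ⊤))
      let f : Γ(I'.subscheme, ⊤) := u.app ⊤ (oneSec ⊤)
      show f = 0
      have hfV : I'.subscheme.presheaf.map (homOfLE (le_top : I'.subschemeι ⁻¹ᵁ V ≤ ⊤)).op f = 0 := by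
        show resM (ClSub.quotMod I') (le_top : V ≤ ⊤) (u.app ⊤ (oneSec ⊤)) = 0
        rw [← app_resM, resM_oneSec]
        exact hV
      refine (basicOpen_eq_bot_iff f).1 (eq_bot_iff.2 fun z hz => ?_)
      exfalso
      have hr : Set.range I'.subschemeι = (J' : Set X) := by
        rw [I'.range_subschemeι, Scheme.IdealSheafData.coe_support_vanishingIdeal]
      have hzc : z ∈ closure (I'.subschemeι ⁻¹' (J : Set X)ᶜ) := by
        rw [I'.subschemeι.isEmbedding.closure_eq_preimage_closure_image, Set.image_preimage_eq_range_inter, hr]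
        exact hdense (hr ▸ Set.mem_range_self z)
      obtain ⟨w, hwf, hwV⟩ := mem_closure_iff.1 hzc _ (I'.subscheme.basicOpen f).2 hz
      have hw1 : w ∈ I'.subscheme.basicOpen (I'.subscheme.presheaf.map (homOfLE (le_top : I'.subschemeι ⁻¹ᵁ V ≤ ⊤)).op f) := by
        rw [Scheme.basicOpen_res]
        exact ⟨hwV, hwf⟩
      rw [hfV, Scheme.basicOpen_zero] at hw1
      exact hw1
    have hle : LinearMap.range L ≤ LinearMap.range R := by
      rintro _ ⟨u, rfl⟩
      have hw : (ClSub.idealModι I ≫ u) ≫ q = 0 := by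
        rw [Category.assoc]
        exact ι_comp_eq_zero q hq u
      exact ⟨hE.exact.lift (ClSub.idealModι I ≫ u) hw, hE.exact.lift_f (ClSub.idealModι I ≫ u) hw⟩
    rw [← (SerreDual.homUnitHH k (ClSub.quotMod I')).finrank_eq, ← LinearMap.finrank_range_of_inj hL]
    refine (Submodule.finrank_mono hle).trans ((LinearMap.finrank_range_le R).trans ?_)
    refine (LinearMap.finrank_le_finrank_of_injective hT).trans ?_
    rw [(SerreDual.dualEquiv t (hrep _ hIW.1)).finrank_eq, Subspace.dual_finrank_eq]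
  rw [euler_eq_h0_sub_h1 k hd _ hIW.1, euler_eq_h0_sub_h1 k hd _ hqI'.1]
  omega

/-- Adjunction: `χ(W|_J) + χ(O_J) = δ`. -/
theorem euler_twist_quot_eq [IsReduced X] (hd : topologicalKrullDim X ≤ 1) {W : X.Modules}
    (hW : PicF.IsInvertible W) (t : Coh.HH X W 1 →ₗ[k] k) (hrep : ∀ F : X.Modules, Coh.IsQCoh F → SerreDual.Rep t F)
    (hWe : Curv2.euler k X W = - Curv2.euler k X (Coh.structureModule X))
    (J J' : Closeds X) (hcov : (J : Set X) ∪ J' = Set.univ)
    (hJ : (J : Set X) ⊆ closure ((J : Set X) ∩ (J' : Set X)ᶜ))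
    (hJ' : (J' : Set X) ⊆ closure ((J' : Set X) ∩ (J : Set X)ᶜ))
    (hfin : topologicalKrullDim ((J : Set X) ∩ (J' : Set X) : Set X) < ((1 : ℕ) : WithBot ℕ∞)) :
    Curv2.euler k X (CohB1.tensorMod (ClSub.quotMod (Scheme.IdealSheafData.vanishingIdeal J)) W) +
        Curv2.euler k X (ClSub.quotMod (Scheme.IdealSheafData.vanishingIdeal J)) =
      (Module.finrank k (Coh.HH X (ClSub.quotMod (Scheme.IdealSheafData.vanishingIdeal J ⊔
        Scheme.IdealSheafData.vanishingIdeal J')) 0) : ℤ) := by
  haveI := EulerLib.isNoetherian_of_proper k (X := X)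
  haveI : X.IsSeparated := EulerLib.isSeparated_of_proper (X := X) k
  let I := Scheme.IdealSheafData.vanishingIdeal J
  let I' := Scheme.IdealSheafData.vanishingIdeal J'
  have hbot : I ⊓ I' = ⊥ := by
    rw [show I ⊓ I' = Scheme.IdealSheafData.vanishingIdeal (J ⊔ J') from (Scheme.IdealSheafData.vanishingIdeal_sup J J').symm,
      show J ⊔ J' = ⊤ from Closeds.ext hcov]
    rw [Scheme.IdealSheafData.vanishingIdeal_top]; exact Scheme.nilradical_eq_bot (X := X)
  have hbot' : I' ⊓ I = ⊥ := by rw [inf_comm]; exact hbot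
  have hle := euler_twist_ideal_le k hd hW t hrep J J' hbot hJ'
  have hle' := euler_twist_ideal_le k hd hW t hrep J' J hbot' hJ
  change Curv2.euler k X (CohB1.tensorMod (ClSub.idealMod I) W) ≤ - Curv2.euler k X (ClSub.quotMod I') at hle
  change Curv2.euler k X (CohB1.tensorMod (ClSub.idealMod I') W) ≤ - Curv2.euler k X (ClSub.quotMod I) at hle'
  obtain ⟨q, hq⟩ := exists_toSup I I'
  have hE := shortExact_sup q hq hbot
  have hEW := twistSeq_shortExact hW hE
  have hSI := shortExact_ideal I
  have hSIW := twistSeq_shortExact hW hSI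
  have hSI' := shortExact_ideal I'
  have hSIW' := twistSeq_shortExact hW hSI'
  have cI := isCoh_idealMod' I
  have cI' := isCoh_idealMod' I'
  have cq := isCoh_quotMod I
  have cq' := isCoh_quotMod I'
  have cQ := isCoh_quotMod (I ⊔ I')
  have cO := isCoh_structureModule X
  have e1 := euler_additive k X _ hE cI cq' cQ
  have e2 := euler_additive k X _ hEW (isCoh_twist hW cI) (isCoh_twist hW cq') (isCoh_twist hW cQ)
  have e3 := euler_additive k X _ hSI cI cO cq
  have e4 := euler_additive k X _ hSIW (isCoh_twist hW cI) (isCoh_twist hW cO) (isCoh_twist hW cq)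
  have e5 := euler_additive k X _ hSI' cI' cO cq'
  have e6 := euler_additive k X _ hSIW' (isCoh_twist hW cI') (isCoh_twist hW cO) (isCoh_twist hW cq')
  change Curv2.euler k X (ClSub.quotMod I') = Curv2.euler k X (ClSub.idealMod I) + Curv2.euler k X (ClSub.quotMod (I ⊔ I')) at e1
  change Curv2.euler k X (CohB1.tensorMod (ClSub.quotMod I') W) = Curv2.euler k X (CohB1.tensorMod (ClSub.idealMod I) W) + Curv2.euler k X (CohB1.tensorMod (ClSub.quotMod (I ⊔ I')) W) at e2
  change Curv2.euler k X (Coh.structureModule X) = Curv2.euler k X (ClSub.idealMod I) + Curv2.euler k X (ClSub.quotMod I) at e3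
  change Curv2.euler k X (CohB1.tensorMod (Coh.structureModule X) W) = Curv2.euler k X (CohB1.tensorMod (ClSub.idealMod I) W) + Curv2.euler k X (CohB1.tensorMod (ClSub.quotMod I) W) at e4
  change Curv2.euler k X (CohB1.tensorMod (Coh.structureModule X) W) = Curv2.euler k X (CohB1.tensorMod (ClSub.idealMod I') W) + Curv2.euler k X (CohB1.tensorMod (ClSub.quotMod I') W) at e6
  change Curv2.euler k X (Coh.structureModule X) = Curv2.euler k X (ClSub.idealMod I') + Curv2.euler k X (ClSub.quotMod I') at e5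
  rw [euler_congr k X (unitTensorIso W), hWe] at e4 e6
  have hsupp : CohB1.support (ClSub.quotMod (I ⊔ I')) ⊆ (J : Set X) ∩ J' := by
    refine (support_quotMod_subset _).trans fun x hx => ⟨?_, ?_⟩
    · have := Scheme.IdealSheafData.support_antitone (le_sup_left : I ≤ I ⊔ I') hx
      rwa [← SetLike.mem_coe, Scheme.IdealSheafData.coe_support_vanishingIdeal] at this
    · have := Scheme.IdealSheafData.support_antitone (le_sup_right : I' ≤ I ⊔ I') hx
      rwa [← SetLike.mem_coe, Scheme.IdealSheafData.coe_support_vanishingIdeal] at this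
  have hsd : topologicalKrullDim (CohB1.support (ClSub.quotMod (I ⊔ I'))) < ((1 : ℕ) : WithBot ℕ∞) :=
    lt_of_le_of_lt (dim_mono hsupp) hfin
  have hQW := euler_twist_of_small k cQ hW hsd
  have hQ1 : Subsingleton (Coh.HH X (ClSub.quotMod (I ⊔ I')) 1) :=
    subsingleton_HH_of_support ⟨_, J.isClosed.inter J'.isClosed⟩ _ cQ.1 hsupp 1 hfin
  have hQe := euler_eq_h0_sub_h1 k hd _ cQ.1
  rw [@Module.finrank_zero_of_subsingleton k (Coh.HH X (ClSub.quotMod (I ⊔ I')) 1) _ _ _ _ hQ1] at hQe
  show Curv2.euler k X (CohB1.tensorMod (ClSub.quotMod I) W) + Curv2.euler k X (ClSub.quotMod I) =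
    (Module.finrank k (Coh.HH X (ClSub.quotMod (I ⊔ I')) 0) : ℤ)
  omega

end Groth.Agent.DualMod3
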