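import Groth.Agent.DualMod3.Apps
import Groth.Agent.AmpleLib.Power
import Groth.Agent.AmpleLib.Twist2
import Groth.Agent.EulerLib.Twist
import Groth.Agent.EulerLib.Degree
import Groth.Agent.VarietyLib.NegTwist
import Groth.Agent.Coherent.Serre.Vanishing
import Groth.Agent.H0Growth23.Ztwist
import Groth.Agent.SerreDual.HomLinear

/-!
# No maps from powers `≥ 2` of an ample `ω(D)` to `ω` on a reduced proper curve
-/

set_option autoImplicit false
set_option backward.isDefEq.respectTransparency false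
set_option linter.style.haveILetI false
set_option maxHeartbeats 1000000

universe u

open CategoryTheory CategoryTheory.Limits AlgebraicGeometry TopologicalSpace
open Groth.Agent.Coherent Groth.Agent.PicLib Groth.Agent.AmpleLib Groth.Agent.EulerLib

namespace Groth.Agent.DualMod3

variable {X : Scheme.{u}}

/-- `ω(D) ⊗ O(-D) ≅ ω` for invertible `ω(D)`, and the inclusion `ω → ω(D)`. -/
theorem exists_mono_pow_one {W LD : X.Modules} (hLD : PicF.IsInvertible LD) {I : X.IdealSheafData}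
    (hinv : ClSub.IsInverseOf LD (ClSub.idealMod I)) (hM : PicF.IsInvertible (CohB1.tensorMod W LD)) :
    PicF.IsInvertible W ∧ ∃ j : W ⟶ CohB1.tensorPow (CohB1.tensorMod W LD) 1, Mono j := by
  have hI : PicF.IsInvertible (ClSub.idealMod I) := H0Growth23.isInvertible_of_isInverseOf hLD hinv
  obtain ⟨e0⟩ := hinv
  obtain ⟨α⟩ := EulerLib.exists_assocIso' W hLD hI
  let e : CohB1.tensorMod (CohB1.tensorMod W LD) (ClSub.idealMod I) ≅ W :=
    α ≪≫ AmpleLib.tensorIso (Iso.refl W) e0 ≪≫ Groth.Agent.S7679.rightUnit W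
  refine ⟨fun y => by
    obtain ⟨U, hy, ⟨a⟩⟩ := isInvertible_tensorMod hM hI y
    exact ⟨U, hy, ⟨((Scheme.Modules.restrictFunctor U.ι).mapIso e).symm ≪≫ a⟩⟩, ?_⟩
  haveI : Mono (ClSub.idealModι I) := inferInstanceAs (Mono (kernel.ι (ClSub.toSubscheme I)))
  haveI := EulerLib.mono_tensorMap hM (ClSub.idealModι I)
  exact ⟨e.inv ≫ (tensorComm _ _).hom ≫ tensorMap (ClSub.idealModι I) (𝟙 (CohB1.tensorMod W LD)),
    inferInstance⟩

/-- On a reduced scheme a nonzero map `M^m ⟶ W ⟶ M` yields nonzero maps `M^N ⟶ W` for `N` large. -/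
theorem exists_large_pow [IsReduced X] {M W : X.Modules} (hM : PicF.IsInvertible M)
    (j : W ⟶ CohB1.tensorPow M 1) [Mono j] {m : ℕ} (hm : 2 ≤ m) (φ : CohB1.tensorPow M m ⟶ W) (hφ : φ ≠ 0)
    (r : ℕ) : ∃ (N : ℕ), r ≤ N ∧ ∃ ψ : CohB1.tensorPow M N ⟶ W, ψ ≠ 0 := by
  obtain ⟨Q, rfl⟩ : ∃ Q, m = Q + 1 := ⟨m - 1, by omega⟩
  let χ : CohB1.tensorPow M (Q + 1) ⟶ CohB1.tensorPow M 1 := φ ≫ j
  have hχ : χ ≠ 0 := fun h => hφ (by rw [← cancel_mono j, zero_comp]; exact h)
  -- a witness of non-vanishing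
  obtain ⟨U, g, hg, hne⟩ : ∃ (U : X.Opens) (g : Γ(M, U)), IsGen M U g ∧ χ.app U (powSec g (Q + 1)) ≠ 0 := by
    by_contra! hc
    obtain ⟨W', g, hmem, hg⟩ := exists_cover hM
    refine hχ (hom_ext_gen W' (top_le_iff.1 fun y _ => Opens.mem_iSup.2 ⟨y, hmem y⟩) _
      (fun y => isGen_powSec (hg y) (Q + 1)) _ _ fun y => ?_)
    exact (hc _ _ (hg y)).trans rfl
  let a : Γ(X, U) := (isGen_powSec hg 1).coef le_rfl (χ.app U (powSec g (Q + 1)))
  have ha : χ.app U (powSec g (Q + 1)) = a • powSec g 1 := by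
    have h1 := (isGen_powSec hg 1).coef_spec le_rfl (χ.app U (powSec g (Q + 1)))
    rw [resM_self] at h1
    exact h1.symm
  have ha0 : a ≠ 0 := fun h0 => hne (by rw [ha, h0, zero_smul])
  have main : ∀ r : ℕ, ∃ (N : ℕ), r ≤ N ∧ ∃ Θ : CohB1.tensorPow M N ⟶ CohB1.tensorPow M (Q + 1),
      χ.app U (Θ.app U (powSec g N)) = a ^ (r + 1) • powSec g 1 := by
    intro r
    induction r with
    | zero => exact ⟨Q + 1, Nat.zero_le _, 𝟙 _, by rw [pow_one]; exact ha⟩
    | succ r ih =>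
      obtain ⟨N, hN, Θ, hΘ⟩ := ih
      obtain ⟨e1, he1⟩ := exists_powIso hM Q N
      obtain ⟨e2, he2⟩ := exists_powIso hM Q 1
      refine ⟨Q + N, by omega, e1.inv ≫ tensorMap (𝟙 _) (Θ ≫ χ) ≫ e2.hom, ?_⟩
      have h1 : e1.inv.app U (powSec g (Q + N)) = tmul (powSec g Q) (powSec g N) := by
        rw [← he1 U g, ← ConcreteCategory.comp_apply, ← Scheme.Modules.Hom.comp_app, e1.hom_inv_id]
        rfl
      show χ.app U (e2.hom.app U ((tensorMap (𝟙 _) (Θ ≫ χ)).app U (e1.inv.app U (powSec g (Q + N))))) = _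
      rw [h1, tensorMap_tmul]
      show χ.app U (e2.hom.app U (tmul (powSec g Q) (χ.app U (Θ.app U (powSec g N))))) = _
      rw [hΘ, tmul_smul_right, Scheme.Modules.Hom.app_smul, he2, Scheme.Modules.Hom.app_smul, ha, smul_smul,
        ← pow_succ]
  obtain ⟨N, hN, Θ, hΘ⟩ := main r
  refine ⟨N, hN, Θ ≫ φ, fun h0 => ha0 ?_⟩
  have h1 : χ.app U (Θ.app U (powSec g N)) = 0 := by
    show j.app U (φ.app U (Θ.app U (powSec g N))) = 0
    rw [show φ.app U (Θ.app U (powSec g N)) = (Θ ≫ φ).app U (powSec g N) from rfl, h0]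
    exact map_zero (j.app U).hom
  rw [hΘ] at h1
  have h2 : a ^ (r + 1) = 0 := ((isGen_powSec hg 1) U le_rfl).1 (by
    show a ^ (r + 1) • resM (CohB1.tensorPow M 1) le_rfl (powSec g 1) =
      (0 : Γ(X, U)) • resM (CohB1.tensorPow M 1) le_rfl (powSec g 1)
    rw [resM_self, h1, zero_smul])
  exact eq_zero_of_pow_eq_zero h2

variable (k : Type u) [Field k] (X) [X.Over (Spec (CommRingCat.of k))] [IsProper (X ↘ Spec (CommRingCat.of k))]

/-- `H¹` of a power `≥ 2` of an ample `ω(D)` vanishes, for any dualizing pair `(W, t)`. -/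
theorem subsingleton_h1_pow_of_ample [IsReduced X] {W LD : X.Modules} (t : Coh.HH X W 1 →ₗ[k] k)
    (hrep : ∀ F : X.Modules, Coh.IsQCoh F → SerreDual.Rep t F) (hLD : PicF.IsInvertible LD)
    {I : X.IdealSheafData} (hinv : ClSub.IsInverseOf LD (ClSub.idealMod I))
    (hamp : CohB1.IsAmple (CohB1.tensorMod W LD)) {m : ℕ} (hm : 2 ≤ m) :
    Subsingleton (Coh.HH X (CohB1.tensorPow (CohB1.tensorMod W LD) m) 1) := by
  haveI := EulerLib.isNoetherian_of_proper k (X := X)
  have hM := hamp.1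
  obtain ⟨-, j, hj⟩ := exists_mono_pow_one hLD hinv hM
  generalize CohB1.tensorMod W LD = M at hamp hM j hj ⊢
  obtain ⟨n₀, hn₀⟩ := Serre.exists_subsingleton_HH_twist (A := k) hamp (Coh.structureModule X) (isCoh_structureModule X)
  have hpow : ∀ n, Coh.IsQCoh (CohB1.tensorPow M n) := fun n => isQCoh_of_isInvertible (isInvertible_tensorPow hM n)
  have hφ : ∀ φ : CohB1.tensorPow M m ⟶ W, φ = 0 := by
    intro φ
    by_contra hne
    obtain ⟨N, hN, ψ, hψ⟩ := exists_large_pow hM j hm φ hne n₀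
    haveI : Subsingleton (Coh.HH X (CohB1.tensorPow M N) 1) :=
      @Equiv.subsingleton _ _ (SerreDual.hmapIso k (unitTensorIso (CohB1.tensorPow M N)) 1).toEquiv.symm
        (hn₀ N hN 1 one_pos)
    refine hψ ((hrep _ (hpow N)).1 ?_)
    rw [map_zero]
    exact LinearMap.ext fun x => by rw [Subsingleton.elim x 0, map_zero, map_zero]
  haveI : Module.Free k (Coh.HH X (CohB1.tensorPow M m) 1) := Module.Free.of_divisionRing k _
  haveI : Module.Projective k (Coh.HH X (CohB1.tensorPow M m) 1) := Module.Projective.of_free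
  refine subsingleton_of_forall_eq 0 fun x => (Module.forall_dual_apply_eq_zero_iff k x).1 fun l => ?_
  obtain ⟨φ, hφl⟩ := (hrep _ (hpow m)).2 l
  rw [← hφl, hφ φ, map_zero, LinearMap.zero_apply]

end Groth.Agent.DualMod3
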