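import Groth.Agent.DualMod3.Separation

/-!
# The criterion: colength two ideals without `H¹` give an embedding
-/

set_option autoImplicit false
set_option backward.isDefEq.respectTransparency false
set_option linter.style.haveILetI false
set_option maxHeartbeats 1000000

universe u

open CategoryTheory CategoryTheory.Limits AlgebraicGeometry TopologicalSpace Opposite
open Groth.Agent.Coherent Groth.Agent.PicLib Groth.Agent.AmpleLib Groth.Agent.EulerLib Groth.Agent.CurveRR24

namespace Groth.Agent.DualMod3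

variable {X : Scheme.{u}} (k : Type u) [Field k] [IsAlgClosed k] [X.Over (Spec (CommRingCat.of k))]
  [IsProper (X ↘ Spec (CommRingCat.of k))]

/-- A section generating at `Q` and vanishing at `P`. -/
theorem exists_section_of_h1 {L : X.Modules} (hL : PicF.IsInvertible L)
    (hpt : ∀ P : X, IsClosed ({P} : Set X) → P ∉ genericPoints X)
    (H : ∀ I : X.IdealSheafData, (∀ η ∈ genericPoints X, η ∉ (I.support : Set X)) →
      Module.finrank k (Coh.HH X (ClSub.quotMod I) 0) ≤ 2 →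
      Subsingleton (Coh.HH X (CohB1.tensorMod (ClSub.idealMod I) L) 1))
    (P Q : X) (hP : IsClosed ({P} : Set X)) (hQ : IsClosed ({Q} : Set X)) :
    ∃ s : Γ(L, ⊤), Q ∈ glocus L s ∧ (P ≠ Q → P ∉ glocus L s) := by
  classical
  haveI := isNoetherian_of_proper k (X := X)
  let I2 : ∀ P Q : X, IsClosed ({P} : Set X) → IsClosed ({Q} : Set X) → X.IdealSheafData :=
    fun P Q hP hQ => ptIdeal P hP ⊓ ptIdeal Q hQ
  have hI2 : ∀ (P Q : X) (hP : IsClosed ({P} : Set X)) (hQ : IsClosed ({Q} : Set X)),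
      ∀ y ∈ ((I2 P Q hP hQ).support : Set X), y = P ∨ y = Q := by
    intro P Q hP hQ y hy
    by_contra hy'
    rw [not_or] at hy'
    let O : X.Opens := ⟨({P} ∪ {Q} : Set X)ᶜ, (hP.union hQ).isOpen_compl⟩
    obtain ⟨U, hU, hyU, hUO⟩ := exists_isAffineOpen_mem_and_subset (x := y) (U := O) (by
      rintro (h | h)
      · exact hy'.1 h
      · exact hy'.2 h)
    have h1 : (1 : Γ(X, U)) ∈ (I2 P Q hP hQ).ideal ⟨U, hU⟩ :=
      ⟨(mem_ptIdeal_iff hP ⟨U, hU⟩ _).2 fun h => hUO (X.basicOpen_le _ h) (Or.inl rfl),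
        (mem_ptIdeal_iff hQ ⟨U, hU⟩ _).2 fun h => hUO (X.basicOpen_le _ h) (Or.inr rfl)⟩
    have h2 := ((I2 P Q hP hQ).supportSet_subset_zeroLocus ⟨U, hU⟩) hy
    rw [Scheme.mem_zeroLocus_iff] at h2
    exact h2 1 h1 (by rw [Scheme.basicOpen_of_isUnit _ isUnit_one]; exact hyU)
  have h1 := H (I2 P Q hP hQ) (fun η hη hy => (hI2 P Q hP hQ η hy).elim
    (fun h => hpt P hP (h ▸ hη)) (fun h => hpt Q hQ (h ▸ hη))) (h0_quot_inf_ptIdeal_le k hP hQ)
  obtain ⟨U, hQU, g, hg⟩ := exists_isGen hL Q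
  have hQs : Q ∈ ((I2 P Q hP hQ).support : Set X) :=
    Scheme.IdealSheafData.support_antitone (inf_le_right : I2 P Q hP hQ ≤ ptIdeal Q hQ) ((support_ptIdeal hQ).ge rfl)
  have hPs : P ∈ ((I2 P Q hP hQ).support : Set X) :=
    Scheme.IdealSheafData.support_antitone (inf_le_left : I2 P Q hP hQ ≤ ptIdeal P hP) ((support_ptIdeal hP).ge rfl)
  obtain ⟨V, hQV, hVU, hVu⟩ : ∃ V : X.Opens, Q ∈ V ∧ V ≤ U ∧ ∀ y ∈ V, y ∈ ((I2 P Q hP hQ).support : Set X) → y = Q := by
    have hc : IsClosed (({P} : Set X) \ {Q}) := by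
      by_cases h : P = Q
      · rw [h, Set.sdiff_self]; exact isClosed_empty
      · rw [show ({P} : Set X) \ {Q} = {P} from Set.ext fun z => ⟨fun hz => hz.1, fun hz => ⟨hz, fun hzQ => h ((Set.mem_singleton_iff.1 hz).symm.trans (Set.mem_singleton_iff.1 hzQ))⟩⟩]; exact hP
    refine ⟨U ⊓ ⟨_, hc.isOpen_compl⟩, ⟨hQU, fun h => h.2 rfl⟩, inf_le_left, fun y hy hys => ?_⟩
    rcases hI2 P Q hP hQ y hys with h | h
    · by_contra hne
      exact hy.2 ⟨h, hne⟩
    · exact h
  obtain ⟨s, hsQ, hsy⟩ := exists_section_lift k hL _ h1 hQ hQV hVu (resM L hVU g) (IsLocalRing.maximalIdeal _)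
    (fun W f hW hf hu => by
      obtain ⟨c, hc⟩ := (mem_range_idealModι (I2 P Q hP hQ) W f).2 hf
      exact basicOpen_idealModι_le (I := I2 P Q hP hQ) W c
        (show Q ∈ X.basicOpen _ by rw [hc]; exact (X.mem_basicOpen f Q hW).2 hu) hQs)
  refine ⟨s, (mem_glocus_iff_germ hL s Q).2 fun hs => ?_, fun hne h => (mem_glocus_iff_germ hL s P).1 h (hsy P hPs hne)⟩
  have h2 := Submodule.sub_mem _ hs hsQ
  rw [sub_sub_cancel, show L.presheaf.germ V Q hQV (resM L hVU g) = (1 : X.presheaf.stalk Q) • L.presheaf.germ U Q hQU g from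
      (TopCat.Presheaf.germ_res_apply L.presheaf (homOfLE hVU) Q hQV g).trans (one_smul _ _).symm,
    EmbLib24.mem_smul_top_iff _ (EmbLib24.bijective_smul_germ hg hQU)] at h2
  exact h2 isUnit_one

/-- A complete linear system embeds the curve if `H¹(I ⊗ L) = 0` for all ideals of colength at most two. -/
theorem isClosedImmersion_of_h1 {L : X.Modules} (hL : PicF.IsInvertible L)
    (hpt : ∀ P : X, IsClosed ({P} : Set X) → P ∉ genericPoints X)
    (H : ∀ I : X.IdealSheafData, (∀ η ∈ genericPoints X, η ∉ (I.support : Set X)) →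
      Module.finrank k (Coh.HH X (ClSub.quotMod I) 0) ≤ 2 →
      Subsingleton (Coh.HH X (CohB1.tensorMod (ClSub.idealMod I) L) 1))
    {n : ℕ} (r : X ⟶ CohB1.ProjSpace n k)
    (hr : r ≫ CohB1.ProjSpace.toSpec n k = (X ↘ (Spec (CommRingCat.of k))))
    (τ : EmbLib24.pbO r ≅ L)
    (hσ : ∀ s : Γ(L, ⊤), ∃ c : Fin (n + 1) → k,
      τ.hom.app ⊤ (∑ i, ProjUP.toGlobal (X ↘ (Spec (CommRingCat.of k))) (c i) • EmbLib24.sig r i) = s) :
    IsClosedImmersion r := by
  classical
  haveI := isNoetherian_of_proper k (X := X)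
  let pX := X ↘ Spec (CommRingCat.of k)
  haveI : IsProper (CohB1.ProjSpace.toSpec n k) := CurveLib.isProper_projSpace k n
  haveI : IsProper (r ≫ CohB1.ProjSpace.toSpec n k) := by rw [hr]; infer_instance
  haveI : IsProper r := IsProper.of_comp r (CohB1.ProjSpace.toSpec n k)
  let M := EmbLib24.pbO r
  have hM : PicF.IsInvertible M := glocus_isInvertible_of_iso τ.symm hL
  have hiff : ∀ (c : Fin (n + 1) → k) (P : X), M.presheaf.germ ⊤ P trivial
      (∑ i, ProjUP.toGlobal pX (c i) • EmbLib24.sig r i) ∈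
      (IsLocalRing.maximalIdeal (X.presheaf.stalk P) • (⊤ : Submodule (X.presheaf.stalk P) (M.presheaf.stalk P))) ↔
      P ∉ glocus L (τ.hom.app ⊤ (∑ i, ProjUP.toGlobal pX (c i) • EmbLib24.sig r i)) := fun c P => by
    rw [glocus_map_iso, mem_glocus_iff_germ hM, not_not]
  refine EmbLib24.isClosedImmersion_of_separates r hr (pX := pX) (fun P Q hP hQ hne => ?_) fun P hP => ?_
  · obtain ⟨s, hsQ, hsP⟩ := exists_section_of_h1 k hL hpt H P Q hP hQ
    obtain ⟨c, rfl⟩ := hσ s
    exact ⟨c, Or.inl ⟨(hiff c P).2 (hsP hne), fun h => (hiff c Q).1 h hsQ⟩⟩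
  -- tangent vectors
  obtain ⟨U, hPU, g, hg⟩ := exists_isGen hL P
  let gM : Γ(M, U) := τ.inv.app U g
  have hgM : IsGen M U gM := isGen_map_iso τ.symm hg
  have hb := EmbLib24.bijective_smul_germ hgM hPU
  let Vs : Submodule (X.presheaf.stalk P) (M.presheaf.stalk P) := Submodule.span (X.presheaf.stalk P)
      {v | ∃ c : Fin (n + 1) → k,
        v = M.presheaf.germ ⊤ P trivial (∑ i, ProjUP.toGlobal pX (c i) • EmbLib24.sig r i) ∧
        v ∈ (IsLocalRing.maximalIdeal (X.presheaf.stalk P) •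
          (⊤ : Submodule (X.presheaf.stalk P) (M.presheaf.stalk P)))} ⊔
    (IsLocalRing.maximalIdeal (X.presheaf.stalk P) ^ 2 • (⊤ : Submodule (X.presheaf.stalk P) (M.presheaf.stalk P)))
  let J₀ : Ideal (X.presheaf.stalk P) :=
    Submodule.comap (LinearMap.toSpanSingleton _ (M.presheaf.stalk P) (M.presheaf.germ U P hPU gM)) Vs
  have hJ₀ : ∀ a, a ∈ J₀ ↔ a • M.presheaf.germ U P hPU gM ∈ Vs := fun a => Iff.rfl
  have hm : ∀ a, a ∈ IsLocalRing.maximalIdeal (X.presheaf.stalk P) → a ∈ J₀ := by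
    by_contra hcon
    have hJ₀m : J₀ ≤ IsLocalRing.maximalIdeal _ := fun a ha => by
      have h1 : a • M.presheaf.germ U P hPU gM ∈
          (IsLocalRing.maximalIdeal (X.presheaf.stalk P) • (⊤ : Submodule (X.presheaf.stalk P) (M.presheaf.stalk P))) := by
        refine (sup_le ?_ ?_ : Vs ≤ _) ha
        · exact Submodule.span_le.2 fun x ⟨c, _, hx⟩ => hx
        · exact Submodule.smul_mono_left (Ideal.pow_le_self two_ne_zero)
      exact (EmbLib24.mem_smul_top_iff _ hb _ _).1 h1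
    obtain ⟨J, ⟨hJ₀J, hJm⟩, hmax⟩ := wellFounded_gt.has_min
      {J : Ideal (X.presheaf.stalk P) | J₀ ≤ J ∧ J < IsLocalRing.maximalIdeal _}
      ⟨J₀, le_rfl, lt_of_le_not_ge hJ₀m fun h => hcon fun a ha => h ha⟩
    obtain ⟨w₀, hw₀, hw₀J⟩ := SetLike.exists_of_lt hJm
    have hsum : J ⊔ Ideal.span {w₀} = IsLocalRing.maximalIdeal _ := by
      by_contra hne
      have hle : J ⊔ Ideal.span {w₀} ≤ IsLocalRing.maximalIdeal _ :=
        sup_le hJm.le ((Ideal.span_singleton_le_iff_mem _).2 hw₀)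
      exact hmax _ ⟨hJ₀J.trans le_sup_left, lt_of_le_of_ne hle hne⟩ (lt_of_le_not_ge le_sup_left fun h =>
        hw₀J (h (Ideal.mem_sup_right (Ideal.mem_span_singleton_self _))))
    have hJ2 : IsLocalRing.maximalIdeal (X.presheaf.stalk P) ^ 2 ≤ J := fun a ha => hJ₀J
      ((hJ₀ a).2 (Submodule.mem_sup_right (Submodule.smul_mem_smul ha Submodule.mem_top)))
    obtain ⟨I, hid, hIs, hIJ⟩ := exists_stalkIdeal hP J hJm.le hJ2
    obtain ⟨W, hPW, a₀, ha₀⟩ := TopCat.Presheaf.exists_germ_eq X.presheaf w₀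
    obtain ⟨V, hV, hPV, hVW⟩ := exists_isAffineOpen_mem_and_subset (x := P) (U := W ⊓ U) ⟨hPW, hPU⟩
    let a : Γ(X, V) := res (fun y hy => (hVW hy).1) a₀
    have ha : X.presheaf.germ V P hPV a = w₀ :=
      (TopCat.Presheaf.germ_res_apply X.presheaf (homOfLE (fun y hy => (hVW hy).1)) P hPV a₀).trans ha₀
    have hVu : ∀ y ∈ V, y ∈ (I.support : Set X) → y = P := fun y _ hy => hIs hy
    have hsupp : CohB1.support (ClSub.quotMod I) ⊆ ({P} : Set X) := (support_quotMod_subset I).trans hIs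
    have hI0 : Module.finrank k (Coh.HH X (ClSub.quotMod I) 0) ≤ 2 := by
      have hVP : ∀ y ∈ V, y ∈ ({P} : Set X) → y = P := fun y _ hy => hy
      obtain ⟨e₁, he₁, -⟩ := exists_glue_point hsupp hP hVP ((ClSub.toSubscheme I).app V (show Γ(Coh.structureModule X, V) from (1 : Γ(X, V))))
      obtain ⟨e₂, he₂, -⟩ := exists_glue_point hsupp hP hVP ((ClSub.toSubscheme I).app V (show Γ(Coh.structureModule X, V) from a))
      refine finrank_h0_le_of_span k _ ![e₁, e₂] fun t => ?_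
      obtain ⟨f, hf⟩ := I.subschemeι_app_surjective ⟨V, hV⟩ (resM _ (le_top : V ≤ ⊤) t)
      obtain ⟨c, hc⟩ := exists_scalar_sub_mem k hP (X.presheaf.germ V P hPV f)
      obtain ⟨j, hj, uw, huw, hju⟩ := Submodule.mem_sup.1 (hsum.ge hc)
      obtain ⟨u', rfl⟩ := Ideal.mem_span_singleton'.1 huw
      obtain ⟨d, hd⟩ := exists_scalar_sub_mem k hP u'
      let cV : Γ(X, V) := X.presheaf.map (homOfLE (le_top (a := V))).op (baseHom k X c)
      let dV : Γ(X, V) := X.presheaf.map (homOfLE (le_top (a := V))).op (baseHom k X d)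
      refine ⟨![c, d], ?_⟩
      simp only [Fin.sum_univ_two, Matrix.cons_val_zero, Matrix.cons_val_one]
      have hmem : f - (cV + dV * a) ∈ I.ideal ⟨V, hV⟩ := by
        refine (hid ⟨V, hV⟩ _).2 fun h => ?_
        rw [map_sub, map_add, map_mul, ha,
          TopCat.Presheaf.germ_res_apply X.presheaf (homOfLE (le_top (a := V))) P h,
          TopCat.Presheaf.germ_res_apply X.presheaf (homOfLE (le_top (a := V))) P h]
        have e : X.presheaf.germ V P hPV f - (X.presheaf.germ ⊤ P trivial (baseHom k X c) + X.presheaf.germ ⊤ P trivial (baseHom k X d) * w₀) =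
            j + (u' - X.presheaf.germ ⊤ P trivial (baseHom k X d)) * w₀ := by
          rw [← sub_sub, ← hju]
          ring
        rw [e]
        exact J.add_mem hj (hJ2 (by rw [pow_two]; exact Ideal.mul_mem_mul hd hw₀))
      have h0 : (ClSub.toSubscheme I).app V (show Γ(Coh.structureModule X, V) from (f - (cV + dV * a) : Γ(X, V))) = 0 := by
        rw [← I.ker_subschemeι_app ⟨V, hV⟩] at hmem
        exact hmem
      refine (bijective_resM_of_support (ClSub.quotMod I) {P} hP hsupp (W := V) (Set.singleton_subset_iff.2 hPV)).1 ?_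
      rw [map_add, resM_smul, resM_smul, he₁, he₂, ← Scheme.Modules.Hom.app_smul, ← Scheme.Modules.Hom.app_smul, ← map_add, ← hf]
      show (ClSub.toSubscheme I).app V (show Γ(Coh.structureModule X, V) from f) =
        (ClSub.toSubscheme I).app V (show Γ(Coh.structureModule X, V) from (cV * 1 + dV * a : Γ(X, V)))
      rw [mul_one]
      exact sub_eq_zero.1 ((map_sub ((ClSub.toSubscheme I).app V).hom _ _).symm.trans h0)
    have h1 := H I (fun η hη hy => hpt P hP ((show η = P from hIs hy) ▸ hη)) hI0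
    have hVU : V ≤ U := fun y hy => (hVW hy).2
    obtain ⟨s, hsP, -⟩ := exists_section_lift k hL I h1 hP hPV hVu (a • resM L hVU g) J hIJ
    have hgerm : L.presheaf.germ V P hPV (a • resM L hVU g) = w₀ • L.presheaf.germ U P hPU g := by
      rw [QCohLoc.germ_smul', ha]
      exact congrArg (w₀ • ·) (TopCat.Presheaf.germ_res_apply L.presheaf (homOfLE hVU) P hPV g)
    rw [hgerm] at hsP
    have hbL := EmbLib24.bijective_smul_germ hg hPU
    obtain ⟨β, hβ⟩ := hbL.2 (L.presheaf.germ ⊤ P trivial s)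
    beta_reduce at hβ
    rw [← hβ, ← sub_smul, EmbLib24.mem_smul_top_iff _ hbL] at hsP
    have hβm : β ∈ IsLocalRing.maximalIdeal (X.presheaf.stalk P) := by
      have := Ideal.add_mem _ (hJm.le hsP) hw₀
      rwa [sub_add_cancel] at this
    obtain ⟨c, hc⟩ := hσ s
    let u := ∑ i, ProjUP.toGlobal pX (c i) • EmbLib24.sig r i
    have hgu : M.presheaf.germ ⊤ P trivial u = β • M.presheaf.germ U P hPU gM := by
      have h1 : u = τ.inv.app ⊤ s := by
        rw [← hc]
        exact (congrArg (fun φ => φ.app ⊤ u) τ.hom_inv_id).symm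
      rw [h1]
      refine ((stalk_map_germ τ.inv (W := ⊤) (y := P) trivial s).symm).trans ?_
      rw [← hβ]
      refine (map_smul ((DerSch.stalkFunctor X P).map τ.inv).hom β _).trans ?_
      exact congrArg (β • ·) (stalk_map_germ τ.inv hPU g)
    have hβJ : β ∈ J := hJ₀J ((hJ₀ β).2 (Submodule.mem_sup_left (Submodule.subset_span ⟨c, hgu.symm, by
      rw [EmbLib24.mem_smul_top_iff _ hb]; exact hβm⟩)))
    refine hw₀J ?_
    have := J.sub_mem hβJ hsP
    rwa [sub_sub_cancel] at this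
  intro w hw
  obtain ⟨a, rfl⟩ := hb.2 w
  rw [EmbLib24.mem_smul_top_iff _ hb] at hw
  exact hm a hw

end Groth.Agent.DualMod3
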