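import Groth.Agent.DualMod3.Invert
import Groth.Agent.CurveRR24.GenusZero
import Groth.Agent.CurveRR24.AlgClosed
import Groth.Agent.SerreDual.HomLinear

/-!
# Global functions of geometrically reduced and connected curves; maps out of positive line bundles
-/

set_option autoImplicit false
set_option linter.style.haveILetI false
set_option backward.isDefEq.respectTransparency.types false
set_option maxHeartbeats 1000000

universe u

open CategoryTheory CategoryTheory.Limits AlgebraicGeometry
open Groth.Agent.Coherent Groth.Agent.EulerLib Groth.Agent.CurveRR24 Groth.Agent.PicLib Groth.Agent.AmpleLib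

namespace Groth.Agent.DualMod3

variable (k : Type u) [Field k] {X : Scheme.{u}} [X.Over (Spec (CommRingCat.of k))]
  [IsProper (X ↘ Spec (CommRingCat.of k))]

/-- A geometrically reduced and geometrically connected proper scheme has only constant functions. -/
theorem h0_structure_of_geom [GeometricallyConnected (X ↘ Spec (CommRingCat.of k))]
    [GeometricallyReduced (X ↘ Spec (CommRingCat.of k))] :
    Module.finrank k (Coh.HH X (Coh.structureModule X) 0) = 1 := by
  haveI := EulerLib.isNoetherian_of_proper k (X := X)
  let q := X ↘ Spec (CommRingCat.of k)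
  let K := AlgebraicClosure k
  let X' := pullback q (Spec.map (CommRingCat.ofHom (algebraMap k K)))
  let gb : X' ⟶ X := pullback.fst _ _
  let _ : X'.Over (Spec (CommRingCat.of K)) := ⟨pullback.snd _ _⟩
  let q' := X' ↘ Spec (CommRingCat.of K)
  have hpb : IsPullback gb q' q (Spec.map (CommRingCat.ofHom (algebraMap k K))) :=
    IsPullback.of_hasPullback _ _
  haveI : IsProper q' := inferInstanceAs (IsProper (pullback.snd q (Spec.map (CommRingCat.ofHom (algebraMap k K)))))
  haveI : AlgebraicGeometry.IsReduced X' := GeometricallyReduced.geometrically_isReduced (f := q)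
    (Spec.map (CommRingCat.ofHom (algebraMap k K))) gb q' hpb
  haveI : ConnectedSpace X' := GeometricallyConnected.geometrically_connectedSpace (f := q)
    (Spec.map (CommRingCat.ofHom (algebraMap k K))) gb q' hpb
  haveI := EulerLib.isNoetherian_of_proper K (X := X')
  rw [← finrank_HH_structure_bc hpb 0]
  exact CurveRR24.h0_structure K

/-- An invertible module of positive degree with a monic section has no maps to `O`. -/
theorem hom_structure_eq_zero (h0 : Module.finrank k (Coh.HH X (Coh.structureModule X) 0) = 1) {L : X.Modules}
    (hL : PicF.IsInvertible L) (s : Coh.structureModule X ⟶ L) [Mono s]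
    (hdeg : 0 < Curv2.deg k X L 1) : ∀ r : L ⟶ Coh.structureModule X, r = 0 := by
  intro r
  by_contra hr
  by_cases hc : s ≫ r = 0
  · exact hr (eq_zero_of_section_comp hL s r hc)
  · have hiso : IsIso s := by
      have hfin : Module.finrank k (Coh.structureModule X ⟶ Coh.structureModule X) = 1 :=
        (SerreDual.homUnitHH k (Coh.structureModule X)).finrank_eq.trans h0
      obtain ⟨c, hcc⟩ := (finrank_eq_one_iff_of_nonzero' (s ≫ r) hc).1 hfin (𝟙 _)
      exact isIso_of_retraction hL s (c • r) (by rw [Linear.comp_smul]; exact hcc)
    haveI := hiso
    rw [← CurveRR24.deg_congr k (asIso s) 1, deg_structure] at hdeg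
    exact lt_irrefl _ hdeg

end Groth.Agent.DualMod3
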