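import Groth.Agent.CurveGor3.Invertible
import Groth.Agent.DualMod3.Vanish
import Groth.Agent.DualMod3.Apps
import Groth.Agent.DualLib.OmegaField

/-!
# The dualizing module of a Gorenstein curve, all of whose components are curves
-/

set_option autoImplicit false
set_option backward.isDefEq.respectTransparency false
set_option backward.defeqAttrib.useBackward true
set_option linter.style.haveILetI false
set_option synthInstance.maxHeartbeats 100000
set_option maxHeartbeats 1000000

universe u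

open CategoryTheory CategoryTheory.Limits DerivedCategory AlgebraicGeometry Opposite TopologicalSpace
open Groth.Agent.Coherent Groth.Agent.PicLib Groth.Agent.AmpleLib

attribute [local instance] HasDerivedCategory.standard

namespace Groth.Agent.DualMod3

theorem isInvertible_dualizingMod (k : Type u) [Field k] (X : Scheme.{u}) [X.Over (Spec (CommRingCat.of k))]
    [IsProper (X ↘ Spec (CommRingCat.of k))] (hequi : ∀ Z ∈ irreducibleComponents (X : Type u), topologicalKrullDim Z = 1)
    (hgor : ∀ x : X, LocCoh.IsGorensteinLocalRing (X.presheaf.stalk x))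
    [DCoh.HasRpush (X ↘ Spec (CommRingCat.of k))] (h : DCoh.RpushPreservesQCoh (X ↘ Spec (CommRingCat.of k)))
    [DCoh.HasShriek (X ↘ Spec (CommRingCat.of k)) h] (OY : DCoh.DQCoh (Spec (CommRingCat.of k)))
    (hOY : Nonempty (OY.obj ≅ DCoh.inD (Spec (CommRingCat.of k)) (Coh.structureModule (Spec (CommRingCat.of k))))) :
    PicF.IsInvertible (DCoh.dualizingMod (X ↘ Spec (CommRingCat.of k)) h OY 1) := by
  haveI := EulerLib.isNoetherian_of_proper k (X := X)
  haveI : ∀ (U V : Scheme.{u}) (j : U ⟶ V) [IsOpenImmersion j],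
      PreservesFiniteLimits (Scheme.Modules.restrictFunctor j) := fun U V j _ =>
    DCat.PullPerf.preservesFiniteLimits_restrict j
  haveI : ∀ (S : CommRingCat.{u}), PreservesFiniteLimits (tilde.functor S) :=
    AffSchLib.preservesFiniteLimits_tilde
  have hG := DualLib.OmegaStalk.isDualizingSch_over_field k X (X ↘ Spec (CommRingCat.of k)) h _ (DCoh.shriekAdj _ h) OY hOY
  have hI := Dual22Lib.invertible_of_gorenstein hG hgor
  intro x
  haveI : Nonempty X := ⟨x⟩
  have hd := DualLib.OmegaStalk.topologicalKrullDim_eq_of_components X 1 (fun Z hZ => by rw [hequi Z hZ]; rfl)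
  have hnt := ((DualLib.OmegaField.top_sheaf h _ (DCoh.shriekAdj _ h) OY hOY 1 hd x).2).2
    ⟨irreducibleComponent x, irreducibleComponent_mem_irreducibleComponents x,
      (hequi _ (irreducibleComponent_mem_irreducibleComponents x)).trans rfl, mem_irreducibleComponent⟩
  obtain ⟨U, n, hxU, ⟨eU⟩⟩ := hI x
  refine ⟨U, hxU, ?_⟩
  let A : DCoh.D X := DCoh.dualizingCx (X ↘ Spec (CommRingCat.of k)) h OY
  let R := Scheme.Modules.restrictFunctor U.ι
  let e2 : R.obj (DCoh.HD A (-((1 : ℕ) : ℤ))) ≅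
      (homologyFunctor (U : Scheme.{u}).Modules (-((1 : ℕ) : ℤ))).obj
        (((singleFunctor _ 0).obj (Coh.structureModule (U : Scheme.{u})))⟦n⟧) :=
    (DCat.SuppOpen.hdMapIso R A (-((1 : ℕ) : ℤ))).symm ≪≫ (homologyFunctor _ (-((1 : ℕ) : ℤ))).mapIso eU
  let e3 := e2 ≪≫ ((homologyFunctor (U : Scheme.{u}).Modules 0).shiftIso n (-((1 : ℕ) : ℤ)) (n + -((1 : ℕ) : ℤ)) rfl).app _
  by_cases hn : n + -((1 : ℕ) : ℤ) = 0
  · rw [hn] at e3
    exact ⟨e3 ≪≫ (singleFunctorCompHomologyFunctorIso _ 0).app _⟩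
  exfalso
  have hz : IsZero (R.obj (DCoh.HD A (-((1 : ℕ) : ℤ)))) := by
    refine IsZero.of_iso ?_ e3
    rcases lt_or_gt_of_ne hn with h' | h'
    · exact isZero_of_isGE _ 0 _ h'
    · exact isZero_of_isLE _ 0 _ h'
  let ω := DCoh.HD A (-((1 : ℕ) : ℤ))
  haveI : Nontrivial (ω.presheaf.stalk x) := hnt
  haveI : Subsingleton (ω.presheaf.stalk x) := subsingleton_of_forall_eq 0 fun v => by
    obtain ⟨V, hxV, s, rfl⟩ := TopCat.Presheaf.germ_exist ω.presheaf v
    let W : X.Opens := U.ι ''ᵁ (U.ι ⁻¹ᵁ V)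
    have hle : W ≤ V := U.ι.image_preimage_le V
    have hxW : x ∈ W := ⟨⟨x, hxU⟩, hxV, rfl⟩
    haveI : Subsingleton Γ(ω, W) := by
      refine subsingleton_of_forall_eq 0 fun a => ?_
      have h := congrArg (fun φ => Scheme.Modules.Hom.app φ (U.ι ⁻¹ᵁ V)) (hz.eq_of_src (𝟙 _) 0)
      exact congr($h a)
    rw [← TopCat.Presheaf.germ_res_apply ω.presheaf (homOfLE hle) x hxW]
    exact (congrArg _ (Subsingleton.elim _ (0 : Γ(ω, W)))).trans (map_zero (ω.presheaf.germ W x hxW).hom)
  exact false_of_nontrivial_of_subsingleton (ω.presheaf.stalk x)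

end Groth.Agent.DualMod3
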