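import Groth.Agent.DualMod3.AdjDeg
import Groth.Agent.CurveRR24.DegOneApps
import Groth.Agent.CurveRR24.Ample
import Groth.Agent.AmpleLib.Relative

/-!
# Vanishing on reduced curves from the degrees on connected subcurves
-/

set_option autoImplicit false
set_option backward.isDefEq.respectTransparency false
set_option linter.style.haveILetI false
set_option maxHeartbeats 1000000

universe u

open CategoryTheory CategoryTheory.Limits AlgebraicGeometry TopologicalSpace Opposite
open Groth.Agent.Coherent Groth.Agent.PicLib Groth.Agent.AmpleLib Groth.Agent.EulerLib Groth.Agent.CurveRR24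
open Groth.Agent.Subcurves24

namespace Groth.Agent.DualMod3

variable {X : Scheme.{u}}

/-- A nonzero section has nonempty generating locus. -/
theorem glocus_nonempty [IsReduced X] {M : X.Modules} (hM : PicF.IsInvertible M) {s : Γ(M, ⊤)} (hs : s ≠ 0) :
    ((glocus M s : X.Opens) : Set X).Nonempty := by
  by_contra h
  refine hs (eq_zero_of_van hM (T := Set.univ) ((van_iff_disjoint_glocus hM s).2 ?_) (Set.subset_univ _))
  rw [Set.not_nonempty_iff_eq_empty.1 h]
  exact Set.disjoint_empty _

/-- There is a section with connected support. -/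
theorem exists_section_connected [IsReduced X] [IsNoetherian X] {M : X.Modules} (hM : PicF.IsInvertible M)
    {s₀ : Γ(M, ⊤)} (hs₀ : s₀ ≠ 0) :
    ∃ s : Γ(M, ⊤), s ≠ 0 ∧ _root_.IsPreconnected (closure ((glocus M s : X.Opens) : Set X)) := by
  let Sup : Set (Closeds X) := {T | ∃ s : Γ(M, ⊤), s ≠ 0 ∧ (T : Set X) = closure ((glocus M s : X.Opens) : Set X)}
  obtain ⟨T, ⟨s, hs, hT⟩, hmin⟩ := wellFounded_lt.has_min Sup ⟨⟨_, isClosed_closure⟩, s₀, hs₀, rfl⟩
  refine ⟨s, hs, ?_⟩
  let G := glocus M s
  rw [isPreconnected_closed_iff]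
  intro a b ha hb hcov ⟨xa, hxa⟩ ⟨xb, hxb⟩
  by_contra hab
  rw [Set.not_nonempty_iff_eq_empty] at hab
  let U : Set X := closure (G : Set X)
  let A : Set X := U ∩ a
  let B : Set X := U ∩ b
  have hA : IsClosed A := isClosed_closure.inter ha
  have hB : IsClosed B := isClosed_closure.inter hb
  let cov : ULift.{u} Bool → X.Opens := fun c => if c.down then ⟨Bᶜ, hB.isOpen_compl⟩ else ⟨Aᶜ, hA.isOpen_compl⟩
  let sf : ∀ c, Γ(M, cov c) := fun c => match c with
    | ⟨true⟩ => resM M le_top s
    | ⟨false⟩ => 0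
  have hdis : ∀ z, z ∈ A → z ∈ B → False := fun z h1 h2 =>
    Set.eq_empty_iff_forall_notMem.1 hab z ⟨h1.1, h1.2, h2.2⟩
  have hzero : ∀ O : X.Opens, (∀ z ∈ O, z ∉ U) → resM M (le_top : O ≤ ⊤) s = 0 := fun O hO =>
    eq_zero_of_van hM (T := Uᶜ) (Van.res le_top ((van_iff_disjoint_glocus hM s).2
      (Set.disjoint_left.2 fun z hz hz' => hz (subset_closure hz')))) hO
  have hout : ∀ z : X, z ∉ A → z ∉ B → z ∉ U := fun z h1 h2 hz =>
    (hcov hz).elim (fun h => h1 ⟨hz, h⟩) (fun h => h2 ⟨hz, h⟩)
  obtain ⟨g, hg, -⟩ := TopCat.Sheaf.existsUnique_gluing' ⟨M.presheaf, M.isSheaf⟩ cov ⊤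
    (fun c => homOfLE le_top)
    (fun z _ => by
      by_cases hz : z ∈ A
      · exact Opens.mem_iSup.2 ⟨⟨true⟩, fun h => hdis z hz h⟩
      · exact Opens.mem_iSup.2 ⟨⟨false⟩, hz⟩)
    sf (fun c d => by
      obtain ⟨c⟩ := c
      obtain ⟨d⟩ := d
      cases c <;> cases d
      · rfl
      · show resM M inf_le_left (0 : Γ(M, cov ⟨false⟩)) = resM M inf_le_right (resM M le_top s)
        rw [map_zero, resM_resM]
        exact (hzero _ fun (z : X) (hz : z ∈ (cov ⟨false⟩ ⊓ cov ⟨true⟩ : X.Opens)) => hout z hz.1 hz.2).symm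
      · show resM M inf_le_left (resM M le_top s) = resM M inf_le_right (0 : Γ(M, cov ⟨false⟩))
        rw [map_zero, resM_resM]
        exact hzero _ fun z hz => hout z hz.2 hz.1
      · rfl)
  let VA : X.Opens := ⟨Bᶜ, hB.isOpen_compl⟩
  let VB : X.Opens := ⟨Aᶜ, hA.isOpen_compl⟩
  have hgA : resM M (le_top : VA ≤ ⊤) g = resM M le_top s := hg ⟨true⟩
  have hgB : resM M (le_top : VB ≤ ⊤) g = 0 := hg ⟨false⟩
  have hsub : (glocus M g : Set X) ⊆ (G : Set X) ∩ Bᶜ := by
    intro z hz
    have hzB : z ∉ B := fun hzB => by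
      let W : X.Opens := glocus M g ⊓ VB
      have hzW : z ∈ W := ⟨hz, fun h => hdis z h hzB⟩
      have hgen := (le_glocus_iff g W).1 inf_le_left
      have h0 : resM M (le_top : W ≤ ⊤) g = 0 := by
        rw [← resM_resM M (le_top : VB ≤ ⊤) (inf_le_right : W ≤ VB) g, hgB, map_zero]
      rw [h0] at hgen
      haveI : Nonempty W := ⟨⟨z, hzW⟩⟩
      exact zero_ne_one ((hgen W le_rfl).1 (a₁ := (0 : Γ(X, W))) (a₂ := 1) (by
        show (0 : Γ(X, W)) • resM M le_rfl (0 : Γ(M, W)) = (1 : Γ(X, W)) • resM M le_rfl (0 : Γ(M, W))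
        rw [map_zero, smul_zero, smul_zero]))
    let W : X.Opens := glocus M g ⊓ VA
    have hgen := (le_glocus_iff g W).1 inf_le_left
    have h0 : resM M (le_top : W ≤ ⊤) g = resM M le_top s := by
      rw [← resM_resM M (le_top : VA ≤ ⊤) (inf_le_right : W ≤ VA) g, hgA, resM_resM]
    rw [h0, ← le_glocus_iff] at hgen
    exact ⟨hgen ⟨hz, hzB⟩, hzB⟩
  have hsup : (G : Set X) ∩ Bᶜ ⊆ glocus M g := by
    intro z hz
    let W : X.Opens := G ⊓ VA
    have hgen := (le_glocus_iff s W).1 inf_le_left
    have h0 : resM M (le_top : W ≤ ⊤) g = resM M le_top s := by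
      rw [← resM_resM M (le_top : VA ≤ ⊤) (inf_le_right : W ≤ VA) g, hgA, resM_resM]
    rw [← h0, ← le_glocus_iff] at hgen
    exact hgen hz
  have hg0 : g ≠ 0 := fun h0 => by
    obtain ⟨z, hz1, hz2⟩ := mem_closure_iff.1 (show xa ∈ closure (G : Set X) from hxa.1) Bᶜ hB.isOpen_compl
      (fun h => hdis xa hxa h)
    have hz := hsup ⟨hz2, hz1⟩
    rw [h0] at hz
    let W : X.Opens := glocus M (0 : Γ(M, ⊤))
    have hgen := (le_glocus_iff (0 : Γ(M, ⊤)) W).1 le_rfl
    haveI : Nonempty W := ⟨⟨z, hz⟩⟩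
    exact zero_ne_one ((hgen W le_rfl).1 (a₁ := (0 : Γ(X, W))) (a₂ := 1) (by
      show (0 : Γ(X, W)) • resM M le_rfl _ = (1 : Γ(X, W)) • resM M le_rfl _
      rw [map_zero, map_zero, smul_zero, smul_zero]))
  have hGA : (glocus M g : Set X) ⊆ A := fun z hz =>
    (hcov (subset_closure (hsub hz).1)).elim (fun h => ⟨subset_closure (hsub hz).1, h⟩)
      (fun h => absurd (show z ∈ B from ⟨subset_closure (hsub hz).1, h⟩) (hsub hz).2)
  refine hmin ⟨closure (glocus M g : Set X), isClosed_closure⟩ ⟨g, hg0, rfl⟩ (lt_of_le_of_ne ?_ fun e => ?_)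
  · show closure (glocus M g : Set X) ⊆ (T : Set X)
    rw [hT]
    exact closure_mono fun z hz => (hsub hz).1
  · have e' : closure (glocus M g : Set X) = closure (G : Set X) := (congrArg SetLike.coe e).trans hT
    have : xb ∈ A := (hA.closure_subset_iff.2 hGA) (e'.symm ▸ (hxb.1 : xb ∈ closure (G : Set X)))
    exact hdis xb this hxb

variable (k : Type u) [Field k] [X.Over (Spec (CommRingCat.of k))] [IsProper (X ↘ Spec (CommRingCat.of k))]

/-- A section bounds the Euler characteristic of its support. -/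
theorem euler_le_of_section [IsReduced X] (hdim : topologicalKrullDim X ≤ 1) {M : X.Modules}
    (hM : PicF.IsInvertible M) (s : Γ(M, ⊤)) (T : Closeds X)
    (hT : (T : Set X) = closure ((glocus M s : X.Opens) : Set X)) :
    Curv2.euler k X (ClSub.quotMod (red T)) ≤ Curv2.euler k X (NT (compl (T : Set X)) M) := by
  haveI := EulerLib.isNoetherian_of_proper k (X := X)
  haveI : X.IsSeparated := EulerLib.isSeparated_of_proper (X := X) k
  let G := glocus M s
  let Z := compl (T : Set X)
  haveI : IsReduced (red T).subscheme := Props12.isReduced_subscheme_vanishingIdeal T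
  have hGT : (G : Set X) ⊆ T := hT ▸ subset_closure
  have hZG : Disjoint (Z : Set X) (G : Set X) := Set.disjoint_left.2 fun x hx hxG => by
    obtain ⟨y, hy, hy'⟩ := mem_closure_iff.1 (hx : x ∈ closure (T : Set X)ᶜ) _ G.2 hxG
    exact hy' (hGT hy)
  have hVZ : Van (Z : Set X) s := (van_iff_disjoint_glocus hM s).2 hZG
  let σ : Coh.structureModule X ⟶ NT Z M := kernel.lift _ (unitDesc M s)
    (comp_resT_eq_zero hM Z _ fun V r => by rw [unitDesc_app]; exact Van.smul (hVZ.res le_top) r)
  have hkill : ∀ (V : X.Opens) (r : Γ(X, V)),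
      (ClSub.toSubscheme (red T)).app V (show Γ(Coh.structureModule X, V) from r) = 0 →
        r • resM M (le_top : V ≤ ⊤) s = 0 := by
    intro V r hr
    refine sec_ext M _ _ fun y hy => ?_
    obtain ⟨U', hyU, g, hg⟩ := exists_isGen hM y
    have hg' := hg.restrict (inf_le_right : V ⊓ U' ≤ U')
    refine ⟨V ⊓ U', inf_le_left, ⟨hy, hyU⟩, ?_⟩
    let c : Γ(X, V ⊓ U') := hg'.coef le_rfl (resM M le_top s)
    let r' : Γ(X, V ⊓ U') := X.presheaf.map (homOfLE (inf_le_left : V ⊓ U' ≤ V)).op r
    have e := hg'.coef_spec le_rfl (resM M le_top s)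
    rw [resM_self] at e
    have hrc : r' * c = 0 := (basicOpen_eq_bot_iff _).1 (eq_bot_iff.2 fun z hz => by
      exfalso
      rw [Scheme.basicOpen_mul] at hz
      have hzG : z ∈ G := ((glocus_inf s hg').ge hz.2).1
      obtain ⟨w, rfl⟩ := (range_red T).superset (hGT hzG)
      have hw : w ∈ (red T).subschemeι ⁻¹ᵁ X.basicOpen r' := hz.1
      have h0 : (red T).subschemeι.app (V ⊓ U') r' = 0 := by
        have := congrArg (resM (ClSub.quotMod (red T)) (inf_le_left : V ⊓ U' ≤ V)) hr
        rw [map_zero, ← app_resM] at this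
        exact this
      rw [Scheme.preimage_basicOpen, h0, Scheme.basicOpen_zero] at hw
      exact hw)
    rw [map_zero, resM_smul, resM_resM, ← e, smul_smul]
    show (r' * c) • _ = 0
    rw [hrc, zero_smul]
  have hkill' : ClSub.idealModι (red T) ≫ σ = 0 := by
    rw [← cancel_mono (kernel.ι (resT Z M)), zero_comp, Category.assoc, kernel.lift_ι]
    refine Scheme.Modules.hom_ext _ _ fun V => ConcreteCategory.hom_ext _ _ fun m => ?_
    show (unitDesc M s).app V ((ClSub.idealModι (red T)).app V m) = (0 : Γ(M, V))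
    rw [unitDesc_app]
    exact hkill V _ (kernel_ι_app_zero (ClSub.toSubscheme (red T)) V m)
  let g : ClSub.quotMod (red T) ⟶ NT Z M :=
    (shortExact_ideal (red T)).gIsCokernel.desc (CokernelCofork.ofπ σ hkill')
  have hg : ClSub.toSubscheme (red T) ≫ g = σ := Cofork.IsColimit.π_desc (shortExact_ideal (red T)).gIsCokernel
  haveI : Mono g := by
    refine Preadditive.mono_of_cancel_zero g fun {A} a ha => ?_
    refine RelVALib.hom_ext_affine _ _ fun U hU x => ?_
    show a.app U x = (0 : Γ(ClSub.quotMod (red T), U))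
    obtain ⟨α, hα⟩ := (red T).subschemeι_app_surjective ⟨U, hU⟩ (a.app U x)
    have hαs : α • resM M (le_top : U ≤ ⊤) s = 0 := by
      have h1 : (kernel.ι (resT Z M)).app U (g.app U (a.app U x)) = 0 := by
        rw [show g.app U (a.app U x) = (a ≫ g).app U x from rfl, ha]
        exact map_zero ((kernel.ι (resT Z M)).app U).hom
      rw [← show (ClSub.toSubscheme (red T)).app U (show Γ(Coh.structureModule X, U) from α) = a.app U x from hα,
        show g.app U ((ClSub.toSubscheme (red T)).app U (show Γ(Coh.structureModule X, U) from α)) =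
          (ClSub.toSubscheme (red T) ≫ g).app U (show Γ(Coh.structureModule X, U) from α) from rfl, hg] at h1
      have h2 : (unitDesc M s).app U (show Γ(Coh.structureModule X, U) from α) = 0 := by
        rw [← kernel.lift_ι (resT Z M) (unitDesc M s)]
        exact h1
      rwa [unitDesc_app] at h2
    rw [← show (ClSub.toSubscheme (red T)).app U (show Γ(Coh.structureModule X, U) from α) = a.app U x from hα]
    have hαG : X.presheaf.map (homOfLE (inf_le_left : U ⊓ G ≤ U)).op α = 0 := by
      refine (((le_glocus_iff s (U ⊓ G)).1 inf_le_right) (U ⊓ G) le_rfl).1 ?_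
      show (X.presheaf.map (homOfLE (inf_le_left : U ⊓ G ≤ U)).op α : Γ(X, U ⊓ G)) • resM M le_rfl (resM M le_top s) =
        (0 : Γ(X, U ⊓ G)) • resM M le_rfl (resM M le_top s)
      rw [zero_smul, resM_self, ← resM_resM M (le_top : U ≤ ⊤) (inf_le_left : U ⊓ G ≤ U) s, ← resM_smul, hαs, map_zero]
    let f : Γ((red T).subscheme, (red T).subschemeι ⁻¹ᵁ U) := (red T).subschemeι.app U α
    show f = 0
    refine (basicOpen_eq_bot_iff f).1 (eq_bot_iff.2 fun z hz => ?_)
    exfalso
    have hz' : (red T).subschemeι z ∈ X.basicOpen α := by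
      rw [show f = (red T).subschemeι.app U α from rfl, ← Scheme.preimage_basicOpen] at hz
      exact hz
    obtain ⟨w, hw, hwG⟩ := mem_closure_iff.1
      (show (red T).subschemeι z ∈ closure (G : Set X) from hT ▸ (range_red T).subset ⟨z, rfl⟩)
      _ (X.basicOpen α).2 hz'
    have hw1 : w ∈ X.basicOpen (X.presheaf.map (homOfLE (inf_le_left : U ⊓ G ≤ U)).op α) := by
      rw [Scheme.basicOpen_res]
      exact ⟨⟨X.basicOpen_le _ hw, hwG⟩, hw⟩
    rw [hαG, Scheme.basicOpen_zero] at hw1
    exact hw1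
  have cq : Coh.IsCoh (ClSub.quotMod (red T)) := isCoh_quotMod _
  have cN : Coh.IsCoh (NT Z M) := isCoh_NT hM Z
  refine (TF7.euler_le_of_generic k hdim cq cN g fun η hη b => ?_).1
  have hηC : (closure ({η} : Set X)) ∈ irreducibleComponents X := hη
  obtain ⟨U, hηU, m, rfl⟩ := OmegaLib.exists_gm (NT Z M) b
  by_cases hηT : η ∈ (T : Set X)
  · have hint := mem_interior_of_subset (C := ⟨_, isClosed_closure⟩) hηC (η := η) rfl
      (closure_minimal (Set.singleton_subset_iff.2 hηT) T.isClosed)
    have hηG : η ∈ G := by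
      obtain ⟨w, hw, hwG⟩ := mem_closure_iff.1 (show η ∈ closure (G : Set X) from hT ▸ hηT)
        (interior (closure ({η} : Set X))) isOpen_interior (mem_interior_of_subset (C := ⟨_, isClosed_closure⟩)
          hηC (η := η) rfl subset_rfl)
      exact (specializes_iff_mem_closure.2 (interior_subset hw)).mem_open G.2 hwG
    let U' : X.Opens := U ⊓ G
    have hgen := (le_glocus_iff s U').1 inf_le_right
    obtain ⟨c, hc⟩ := (hgen U' le_rfl).2 ((kernel.ι (resT Z M)).app U' (resM (NT Z M) inf_le_left m))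
    refine ⟨OmegaLib.gm (ClSub.quotMod (red T)) U' η ⟨hηU, hηG⟩
      ((ClSub.toSubscheme (red T)).app U' (show Γ(Coh.structureModule X, U') from c)), ?_⟩
    rw [OmegaLib.map_gm]
    rw [← OmegaLib.gm_res (NT Z M) hηU (inf_le_left : U' ≤ U) ⟨hηU, hηG⟩]
    refine congrArg _ (app_injective_of_mono (kernel.ι (resT Z M)) U' ?_)
    rw [show g.app U' ((ClSub.toSubscheme (red T)).app U' (show Γ(Coh.structureModule X, U') from c)) =
          (ClSub.toSubscheme (red T) ≫ g).app U' (show Γ(Coh.structureModule X, U') from c) from rfl, hg,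
      show (kernel.ι (resT Z M)).app U' (σ.app U' (show Γ(Coh.structureModule X, U') from c)) =
          (σ ≫ kernel.ι (resT Z M)).app U' (show Γ(Coh.structureModule X, U') from c) from rfl, kernel.lift_ι,
      unitDesc_app, ← hc]
    show c • _ = c • resM M le_rfl _
    rw [resM_self]
  · let U' : X.Opens := U ⊓ ⟨(T : Set X)ᶜ, T.isClosed.isOpen_compl⟩
    refine ⟨0, ?_⟩
    rw [map_zero, ← OmegaLib.gm_res (NT Z M) hηU (inf_le_left : U' ≤ U) ⟨hηU, hηT⟩]
    have h0 : resM (NT Z M) (inf_le_left : U' ≤ U) m = 0 := by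
      refine app_injective_of_mono (kernel.ι (resT Z M)) U' ?_
      show (kernel.ι (resT Z M)).app U' _ = (kernel.ι (resT Z M)).app U' (0 : Γ(NT Z M, U'))
      rw [map_zero]
      exact eq_zero_of_van hM (van_app_ι hM Z _) fun z hz => subset_closure hz.2
    rw [h0, OmegaLib.gm_zero]

/-- No sections if the degree on each connected subcurve is less than the intersection number. -/
theorem subsingleton_h0_of_deg_lt_delta [IsReduced X] [ConnectedSpace X] (hdim : topologicalKrullDim X = 1)
    {M : X.Modules} (hM : PicF.IsInvertible M)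
    (h : ∀ J : X.IdealSheafData, IsReduced J.subscheme → ConnectedSpace J.subscheme →
      topologicalKrullDim J.subscheme = 1 →
      @Curv2.deg k _ J.subscheme ⟨J.subschemeι ≫ (X ↘ Spec (CommRingCat.of k))⟩
        ((Scheme.Modules.pullback J.subschemeι).obj M) 1 < (delta k J : ℤ)) :
    Subsingleton (Coh.HH X M 0) := by
  haveI := EulerLib.isNoetherian_of_proper k (X := X)
  haveI : X.IsSeparated := EulerLib.isSeparated_of_proper (X := X) k
  refine (CurveRR24.hhZero k M).toEquiv.subsingleton_congr.2 (subsingleton_of_forall_eq 0 fun (s₀ : Γ(M, ⊤)) => ?_)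
  by_contra hs₀
  obtain ⟨s, hs, hconn⟩ := exists_section_connected hM hs₀
  let T : Closeds X := ⟨closure ((glocus M s : X.Opens) : Set X), isClosed_closure⟩
  haveI hred : IsReduced (red T).subscheme := Props12.isReduced_subscheme_vanishingIdeal T
  obtain ⟨x, hx⟩ := glocus_nonempty hM hs
  haveI hcs : ConnectedSpace (red T).subscheme := by
    haveI := Subtype.connectedSpace (s := (T : Set X)) ⟨⟨x, subset_closure hx⟩, hconn⟩
    exact ((red T).subschemeι.isEmbedding.toHomeomorph.trans
      (Homeomorph.setCongr (range_red T))).symm.surjective.connectedSpace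
        ((red T).subschemeι.isEmbedding.toHomeomorph.trans (Homeomorph.setCongr (range_red T))).symm.continuous
  have hd : topologicalKrullDim (red T).subscheme = 1 := by
    rw [VarietyLib.topologicalKrullDim_vanishingIdeal]
    refine le_antisymm (Topology.IsInducing.subtypeVal.topologicalKrullDim_le.trans hdim.le) ?_
    obtain ⟨C, hC, hxC⟩ := exists_component x
    obtain ⟨η, hηC, hη⟩ := exists_genericPoint hC
    have hηG : η ∈ glocus M s := (hη.specializes hxC).mem_open (glocus M s).2 hx
    exact (one_le_dim_component k hdim hC).trans (dim_mono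
      (hη.def ▸ closure_minimal (Set.singleton_subset_iff.2 (subset_closure hηG)) T.isClosed))
  have hlt := h (red T) hred hcs hd
  have hle := euler_le_of_section k hdim.le hM s T rfl
  let Z := compl (T : Set X)
  change Curv2.euler k X (ClSub.quotMod (red T)) ≤ Curv2.euler k X (NT Z M) at hle
  have hred' := euler_red k hM Z
  unfold redOver at hred'
  rw [euler_quot_tensor k (red Z) hM] at hred'
  have hbot : red Z ⊓ red T = ⊥ := by
    rw [show red Z ⊓ red T = Scheme.IdealSheafData.vanishingIdeal (Z ⊔ T) from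
        (Scheme.IdealSheafData.vanishingIdeal_sup Z T).symm,
      show Z ⊔ T = ⊤ from Closeds.ext (Set.eq_univ_of_forall fun y =>
        or_iff_not_imp_right.2 fun hy => subset_closure hy),
      Scheme.IdealSheafData.vanishingIdeal_top]
    exact Scheme.nilradical_eq_bot (X := X)
  obtain ⟨q, hq⟩ := exists_toSup (red Z) (red T)
  have hEW := twistSeq_shortExact hM (shortExact_sup q hq hbot)
  have hSIW := twistSeq_shortExact hM (shortExact_ideal (red Z))
  have cI := isCoh_idealMod' (red Z)
  have e2 := euler_additive k X _ hEW (isCoh_twist hM cI) (isCoh_twist hM (isCoh_quotMod (red T)))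
    (isCoh_twist hM (isCoh_quotMod (red Z ⊔ red T)))
  have e4 := euler_additive k X _ hSIW (isCoh_twist hM cI) (isCoh_twist hM (isCoh_structureModule X))
    (isCoh_twist hM (isCoh_quotMod (red Z)))
  change Curv2.euler k X (CohB1.tensorMod (ClSub.quotMod (red T)) M) = Curv2.euler k X (CohB1.tensorMod (ClSub.idealMod (red Z)) M) + Curv2.euler k X (CohB1.tensorMod (ClSub.quotMod (red Z ⊔ red T)) M) at e2
  change Curv2.euler k X (CohB1.tensorMod (Coh.structureModule X) M) = Curv2.euler k X (CohB1.tensorMod (ClSub.idealMod (red Z)) M) + Curv2.euler k X (CohB1.tensorMod (ClSub.quotMod (red Z)) M) at e4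
  rw [euler_congr k X (unitTensorIso M)] at e4
  have hsT : ((red T).support : Set X) = (T : Set X) := Scheme.IdealSheafData.coe_support_vanishingIdeal T
  have hsupp : CohB1.support (ClSub.quotMod (red Z ⊔ red T)) ⊆ (T : Set X) ∩ Z := by
    refine (support_quotMod_subset _).trans fun y hy => ?_
    rw [Scheme.IdealSheafData.support_sup, Closeds.coe_inf, hsT,
      Scheme.IdealSheafData.coe_support_vanishingIdeal] at hy
    exact ⟨hy.2, hy.1⟩
  have hfin := dim_inter_compl hdim.le T
  have hsd := lt_of_le_of_lt (dim_mono hsupp) hfin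
  have cQ := isCoh_quotMod (red Z ⊔ red T)
  have hQW := euler_twist_of_small k cQ hM hsd
  have hQ1 : Subsingleton (Coh.HH X (ClSub.quotMod (red Z ⊔ red T)) 1) :=
    subsingleton_HH_of_support ⟨_, T.isClosed.inter Z.isClosed⟩ _ cQ.1 hsupp 1 hfin
  have hQe := euler_eq_h0_sub_h1 k hdim.le _ cQ.1
  rw [@Module.finrank_zero_of_subsingleton k (Coh.HH X (ClSub.quotMod (red Z ⊔ red T)) 1) _ _ _ _ hQ1] at hQe
  have hδ : delta k (red T) = Module.finrank k (Coh.HH X (ClSub.quotMod (red Z ⊔ red T)) 0) := by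
    have : (⟨closure (((red T).support : Set X)ᶜ), isClosed_closure⟩ : Closeds X) = Z :=
      Closeds.ext (by show closure _ = closure _; rw [hsT])
    rw [delta, this, sup_comm]
  simp only [Curv2.deg, Nat.cast_one, one_mul] at hlt
  rw [euler_quot_tensor k (red T) hM, euler_quot k (red T)] at hlt
  omega

/-- Degree of a tensor product on a subcurve. -/
theorem deg_sub_tensor (hdim : topologicalKrullDim X ≤ 1) (J : X.IdealSheafData) {A B : X.Modules}
    (hA : PicF.IsInvertible A) (hB : PicF.IsInvertible B) :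
    @Curv2.deg k _ J.subscheme ⟨J.subschemeι ≫ (X ↘ Spec (CommRingCat.of k))⟩
        ((Scheme.Modules.pullback J.subschemeι).obj (CohB1.tensorMod A B)) 1 =
      @Curv2.deg k _ J.subscheme ⟨J.subschemeι ≫ (X ↘ Spec (CommRingCat.of k))⟩
          ((Scheme.Modules.pullback J.subschemeι).obj A) 1 +
        @Curv2.deg k _ J.subscheme ⟨J.subschemeι ≫ (X ↘ Spec (CommRingCat.of k))⟩
          ((Scheme.Modules.pullback J.subschemeι).obj B) 1 := by
  letI : J.subscheme.Over (Spec (CommRingCat.of k)) := ⟨J.subschemeι ≫ (X ↘ Spec (CommRingCat.of k))⟩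
  haveI : IsProper (J.subscheme ↘ Spec (CommRingCat.of k)) :=
    inferInstanceAs (IsProper (J.subschemeι ≫ (X ↘ Spec (CommRingCat.of k))))
  obtain ⟨e⟩ := exists_pullTensorIso J.subschemeι hA hB
  rw [deg_congr k e 1]
  exact deg_tensor k (J.subschemeι.isEmbedding.isInducing.topologicalKrullDim_le.trans hdim)
    (PicLoc.isInvertible_pullback _ hA) (PicLoc.isInvertible_pullback _ hB)

/-- The structure module has degree zero on a subcurve. -/
theorem deg_sub_structure (J : X.IdealSheafData) :
    @Curv2.deg k _ J.subscheme ⟨J.subschemeι ≫ (X ↘ Spec (CommRingCat.of k))⟩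
        ((Scheme.Modules.pullback J.subschemeι).obj (Coh.structureModule X)) 1 = 0 := by
  letI : J.subscheme.Over (Spec (CommRingCat.of k)) := ⟨J.subschemeι ≫ (X ↘ Spec (CommRingCat.of k))⟩
  obtain ⟨e⟩ := exists_pullStructureIso (X := X) J.subschemeι
  rw [deg_congr k e 1]
  exact deg_structure k

/-- Degree of a power on a subcurve. -/
theorem deg_sub_pow (hdim : topologicalKrullDim X ≤ 1) (J : X.IdealSheafData) {A : X.Modules}
    (hA : PicF.IsInvertible A) : ∀ n : ℕ,
    @Curv2.deg k _ J.subscheme ⟨J.subschemeι ≫ (X ↘ Spec (CommRingCat.of k))⟩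
        ((Scheme.Modules.pullback J.subschemeι).obj (CohB1.tensorPow A n)) 1 =
      n * @Curv2.deg k _ J.subscheme ⟨J.subschemeι ≫ (X ↘ Spec (CommRingCat.of k))⟩
          ((Scheme.Modules.pullback J.subschemeι).obj A) 1
  | 0 => by
    rw [Nat.cast_zero, zero_mul]
    exact deg_sub_structure k J
  | n + 1 => by
    refine (deg_sub_tensor k hdim J (isInvertible_tensorPow hA n) hA).trans ?_
    rw [deg_sub_pow hdim J hA n, Nat.cast_add, Nat.cast_one, add_mul, one_mul]

/-- `H¹` vanishes when the degree on each connected subcurve exceeds `2g - 2`. -/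
theorem subsingleton_h1_of_deg_subcurves [IsAlgClosed k] [IsReduced X] [ConnectedSpace X]
    (hdim : topologicalKrullDim X = 1) {W : X.Modules} (hW : PicF.IsInvertible W) (t : Coh.HH X W 1 →ₗ[k] k)
    (hrep : ∀ F : X.Modules, Coh.IsQCoh F → SerreDual.Rep t F)
    (hWe : Curv2.euler k X W = - Curv2.euler k X (Coh.structureModule X))
    {L : X.Modules} (hL : PicF.IsInvertible L)
    (h : ∀ J : X.IdealSheafData, IsReduced J.subscheme → ConnectedSpace J.subscheme →
      topologicalKrullDim J.subscheme = 1 →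
      2 * (@Curv2.genus k _ J.subscheme ⟨J.subschemeι ≫ (X ↘ (Spec (CommRingCat.of k)))⟩ : ℤ) - 1 ≤
        @Curv2.deg k _ J.subscheme ⟨J.subschemeι ≫ (X ↘ (Spec (CommRingCat.of k)))⟩
          ((Scheme.Modules.pullback J.subschemeι).obj L) 1) :
    Subsingleton (Coh.HH X L 1) := by
  haveI := EulerLib.isNoetherian_of_proper k (X := X)
  obtain ⟨L', hL', ⟨e⟩⟩ := exists_inverse k hL
  have hM : PicF.IsInvertible (CohB1.tensorMod W L') := isInvertible_tensorMod hW hL'
  have h0 : Subsingleton (Coh.HH X (CohB1.tensorMod W L') 0) := by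
    refine subsingleton_h0_of_deg_lt_delta k hdim hM fun J hJr hJc hJ => ?_
    have h1 := h J hJr hJc hJ
    have h2 := deg_adjunction k hdim.le hW t hrep hWe J hJ
    have h3 := euler_structure_sub k J hJ
    have h4 := deg_sub_tensor k hdim.le J hW hL'
    have h5 := deg_sub_tensor k hdim.le J hL hL'
    letI : J.subscheme.Over (Spec (CommRingCat.of k)) := ⟨J.subschemeι ≫ (X ↘ Spec (CommRingCat.of k))⟩
    rw [deg_congr k ((Scheme.Modules.pullback J.subschemeι).mapIso e) 1] at h5
    have h6 := deg_sub_structure k J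
    omega
  have hq : Coh.IsQCoh L := isQCoh_of_isInvertible hL
  haveI : Subsingleton (Coh.structureModule X ⟶ CohB1.tensorMod W L') :=
    (SerreDual.homUnitHH k (CohB1.tensorMod W L')).toEquiv.subsingleton_congr.2 h0
  haveI : Subsingleton (L ⟶ W) := by
    have hinj := SerreDual.tensorRightHom_injective k L W hL'
    refine subsingleton_of_forall_eq 0 fun f => hinj ?_
    rw [map_zero]
    exact (cancel_epi e.inv).1 (Subsingleton.elim (α := Coh.structureModule X ⟶ CohB1.tensorMod W L') _ _)
  haveI : Subsingleton (Module.Dual k (Coh.HH X L 1)) :=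
    (SerreDual.dualEquiv t (hrep L hq)).symm.toEquiv.subsingleton_congr.2 inferInstance
  refine subsingleton_of_forall_eq 0 fun v => ?_
  haveI : Module.Free k (Coh.HH X L 1) := Module.Free.of_divisionRing k _
  exact (Module.forall_dual_apply_eq_zero_iff k v).1 fun l => by
    rw [Subsingleton.elim l 0]; rfl

end Groth.Agent.DualMod3
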