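import Groth.Agent.DualMod3.SubNum
import Groth.Agent.DualMod3.H1Vanish
import Groth.Agent.EmbLib24.Criterion
import Groth.Agent.Coherent.FibreVanish
import Groth.Agent.AmpleLib.FTIdeal

/-!
# Maps from ideals of finite colength into invertible modules on reduced curves
-/

set_option autoImplicit false
set_option backward.isDefEq.respectTransparency false
set_option linter.style.haveILetI false
set_option maxHeartbeats 1000000

universe u

open CategoryTheory CategoryTheory.Limits AlgebraicGeometry TopologicalSpace Opposite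
open Groth.Agent.Coherent Groth.Agent.PicLib Groth.Agent.AmpleLib Groth.Agent.EulerLib Groth.Agent.CurveRR24
open Groth.Agent.Subcurves24

namespace Groth.Agent.DualMod3

variable {X : Scheme.{u}}

local notation "St" => DerSch.stalkFunctor X

theorem exists_generic_mem (B : X.Opens) {z : X} (hz : z ∈ B) :
    ∃ η ∈ genericPoints X, η ∈ B ∧ η ⤳ z := by
  obtain ⟨C, hC, hzC⟩ := exists_component z
  obtain ⟨η, hηC, hη⟩ := exists_genericPoint hC
  refine ⟨η, ?_, (hη.specializes hzC).mem_open B.2 hz, hη.specializes hzC⟩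
  show closure ({η} : Set X) ∈ irreducibleComponents X
  rw [hη.def]
  exact hC

theorem smul_gen_eq_zero_iff [IsReduced X] {M : X.Modules} {U : X.Opens} {g : Γ(M, U)} (hg : IsGen M U g)
    {η : X} (hη : η ∈ genericPoints X) (hηU : η ∈ U) (c : Γ(X, U)) :
    OmegaLib.gm M U η hηU (c • g) = 0 ↔ η ∉ X.basicOpen c := by
  rw [OmegaLib.gm_smul, X.mem_basicOpen c η hηU]
  have hb := (EmbLib24.bijective_smul_germ hg hηU).1
  refine ⟨fun h hu => hu.ne_zero (hb ?_), fun h => ?_⟩
  · show X.presheaf.germ U η hηU c • M.presheaf.germ U η hηU g = (0 : X.presheaf.stalk η) • M.presheaf.germ U η hηU g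
    rw [zero_smul]
    exact h
  · letI := (TF7.isField_stalk hη).toField
    rw [not_not.1 (fun h' => h (isUnit_iff_ne_zero.2 h')), zero_smul]

theorem eq_zero_of_gm [IsReduced X] {M : X.Modules} (hM : PicF.IsInvertible M) {V : X.Opens} (m : Γ(M, V))
    (h : ∀ (η : X) (hη : η ∈ V), η ∈ genericPoints X → OmegaLib.gm M V η hη m = 0) : m = 0 := by
  refine sec_ext M _ _ fun y hy => ?_
  obtain ⟨U', hyU, g, hg⟩ := exists_isGen hM y
  have hg' := hg.restrict (inf_le_right : V ⊓ U' ≤ U')
  refine ⟨V ⊓ U', inf_le_left, ⟨hy, hyU⟩, ?_⟩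
  have e := hg'.coef_spec le_rfl (resM M (inf_le_left : V ⊓ U' ≤ V) m)
  rw [resM_self] at e
  rw [map_zero, ← e]
  suffices hc : hg'.coef le_rfl (resM M (inf_le_left : V ⊓ U' ≤ V) m) = 0 by rw [hc]; exact zero_smul _ _
  refine (basicOpen_eq_bot_iff _).1 (eq_bot_iff.2 fun z hz => ?_)
  obtain ⟨η, hη, hηB, -⟩ := exists_generic_mem _ hz
  have hηV : η ∈ V ⊓ U' := X.basicOpen_le _ hηB
  refine absurd hηB ((smul_gen_eq_zero_iff hg' hη hηV _).1 ?_)
  rw [e]
  exact (OmegaLib.gm_res M hηV.1 inf_le_left hηV m).trans (h η hηV.1 hη)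

theorem hom_eq_zero_of_gm [IsReduced X] {F M : X.Modules} (hM : PicF.IsInvertible M) (f : F ⟶ M)
    (h : ∀ (V : X.Opens) (x : Γ(F, V)) (η : X) (hη : η ∈ V), η ∈ genericPoints X →
      OmegaLib.gm M V η hη (f.app V x) = 0) : f = 0 :=
  Scheme.Modules.hom_ext _ _ fun V => ConcreteCategory.hom_ext _ _ fun x => eq_zero_of_gm hM _ (h V x)

variable (k : Type u) [Field k] [X.Over (Spec (CommRingCat.of k))] [IsProper (X ↘ Spec (CommRingCat.of k))]

/-- A nonzero map from an ideal of finite colength into an invertible module bounds its degree below. -/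
theorem exists_delta_le_of_hom [IsReduced X] [ConnectedSpace X] (hdim : topologicalKrullDim X = 1)
    {M : X.Modules} (hM : PicF.IsInvertible M) (I : X.IdealSheafData)
    (hI : ∀ η ∈ genericPoints X, η ∉ (I.support : Set X)) (φ : ClSub.idealMod I ⟶ M) (hφ : φ ≠ 0) :
    ∃ T : Closeds X, Nonempty (red T).subscheme ∧ topologicalKrullDim (red T).subscheme = 1 ∧
      (delta k (red T) : ℤ) ≤ @Curv2.deg k _ (red T).subscheme ⟨(red T).subschemeι ≫ (X ↘ Spec (CommRingCat.of k))⟩
          ((Scheme.Modules.pullback (red T).subschemeι).obj M) 1 +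
        (Module.finrank k (Coh.HH X (ClSub.quotMod I) 0) : ℤ) := by
  classical
  haveI := EulerLib.isNoetherian_of_proper k (X := X)
  haveI : X.IsSeparated := EulerLib.isSeparated_of_proper (X := X) k
  let U₀ : X.Opens := ⟨(I.support : Set X)ᶜ, I.support.2.isOpen_compl⟩
  obtain ⟨k₁, hk₁⟩ := exists_idealModι_eq_one I
  let ι := ClSub.idealModι I
  haveI : Mono ι := inferInstanceAs (Mono (kernel.ι (ClSub.toSubscheme I)))
  let s₀ : Γ(M, U₀) := φ.app U₀ k₁
  -- the value of `φ` at a generic point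
  have key : ∀ (W : X.Opens) (x : Γ(ClSub.idealMod I, W)) (η : X) (hW : η ∈ W) (hη : η ∈ genericPoints X),
      OmegaLib.gm M W η hW (φ.app W x) =
        X.presheaf.germ W η hW (show Γ(X, W) from ι.app W x) • OmegaLib.gm M U₀ η (hI η hη) s₀ := by
    intro W x η hW hη
    let W' := W ⊓ U₀
    have hW' : η ∈ W' := ⟨hW, hI η hη⟩
    let r : Γ(X, W') := X.presheaf.map (homOfLE (inf_le_left : W' ≤ W)).op (show Γ(X, W) from ι.app W x)
    have hx : resM (ClSub.idealMod I) (inf_le_left : W' ≤ W) x = r • resM (ClSub.idealMod I) (inf_le_right : W' ≤ U₀) k₁ := by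
      apply app_injective_of_mono ι W'
      rw [app_resM, Scheme.Modules.Hom.app_smul, app_resM, hk₁]
      show r = r * X.presheaf.map (homOfLE (inf_le_right : W' ≤ U₀)).op (1 : Γ(X, U₀))
      rw [map_one, mul_one]
    rw [← OmegaLib.gm_res M hW (inf_le_left : W' ≤ W) hW']
    show OmegaLib.gm M W' η hW' (resM M inf_le_left (φ.app W x)) = _
    rw [← app_resM, hx, Scheme.Modules.Hom.app_smul, OmegaLib.gm_smul, app_resM]
    exact congrArg₂ (fun (a : X.presheaf.stalk η) (b : (St η).obj M) => a • b)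
      (TopCat.Presheaf.germ_res_apply X.presheaf (homOfLE (inf_le_left : W' ≤ W)) η hW' _)
      (OmegaLib.gm_res M (hI η hη) (inf_le_right : W' ≤ U₀) hW' _)
  let A : Set X := {η | ∃ hη : η ∈ genericPoints X, OmegaLib.gm M U₀ η (hI η hη) s₀ ≠ 0}
  let T : Closeds X := ⟨closure A, isClosed_closure⟩
  let Z := compl (T : Set X)
  have hmemT : ∀ η ∈ genericPoints X, η ∈ (T : Set X) → η ∈ A := fun η hη hηT => by
    obtain ⟨η', hη'i, hη'A⟩ := mem_closure_iff.1 hηT (interior (closure ({η} : Set X))) isOpen_interior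
      (mem_interior_of_subset (C := ⟨_, isClosed_closure⟩) hη (η := η) rfl subset_rfl)
    rwa [TF7.eq_of_specializes_generic hη'A.1 (specializes_iff_mem_closure.2 (interior_subset hη'i))]
  have hnotZ : ∀ η ∈ A, η ∉ (Z : Set X) := fun η hη =>
    genericPoint_not_mem_compl T (C := ⟨_, isClosed_closure⟩) hη.1 (η := η) rfl (subset_closure hη)
  have hdense : (T : Set X) ⊆ closure ((T : Set X) ∩ (Z : Set X)ᶜ) :=
    closure_mono fun η hη => ⟨subset_closure hη, hnotZ η hη⟩
  haveI : IsReduced (red T).subscheme := Props12.isReduced_subscheme_vanishingIdeal T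
  -- nonempty, of dimension one
  obtain ⟨η₀, hη₀⟩ : A.Nonempty := by
    by_contra hA
    refine hφ (hom_eq_zero_of_gm hM φ fun V x η hV hη => ?_)
    rw [key V x η hV hη, not_not.1 fun h => hA ⟨η, hη, h⟩, smul_zero]
  have hne : Nonempty (red T).subscheme := by
    obtain ⟨w, -⟩ := (range_red T).superset (subset_closure hη₀)
    exact ⟨w⟩
  have hd : topologicalKrullDim (red T).subscheme = 1 := by
    rw [VarietyLib.topologicalKrullDim_vanishingIdeal]
    refine le_antisymm (Topology.IsInducing.subtypeVal.topologicalKrullDim_le.trans hdim.le) ?_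
    exact (one_le_dim_component k hdim (C := ⟨_, isClosed_closure⟩) hη₀.1).trans
      (dim_mono (closure_minimal (Set.singleton_subset_iff.2 (subset_closure hη₀)) T.isClosed))
  -- restriction to `T`
  let r : ClSub.idealMod I ⟶ ClSub.quotMod (red T) := ι ≫ ClSub.toSubscheme (red T)
  have hr0 : ∀ (V : X.Opens) (x : Γ(ClSub.idealMod I, V)), r.app V x = 0 →
      ∀ η ∈ genericPoints X, η ∈ (T : Set X) → η ∉ X.basicOpen (show Γ(X, V) from ι.app V x) := by
    intro V x hx η hη hηT hηB
    obtain ⟨w, rfl⟩ := (range_red T).superset hηT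
    have h1 : w ∈ (red T).subschemeι ⁻¹ᵁ X.basicOpen (show Γ(X, V) from ι.app V x) := hηB
    rw [Scheme.preimage_basicOpen, show (red T).subschemeι.app V (show Γ(X, V) from ι.app V x) = 0 from hx,
      Scheme.basicOpen_zero] at h1
    exact h1
  have hKφ : kernel.ι r ≫ φ = 0 := by
    refine hom_eq_zero_of_gm hM _ fun V x η hV hη => ?_
    show OmegaLib.gm M V η hV (φ.app V ((kernel.ι r).app V x)) = 0
    rw [key V _ η hV hη]
    by_cases hηA : η ∈ A
    · have h := hr0 V _ (kernel_ι_app_zero r V x) η hη (subset_closure hηA)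
      rw [X.mem_basicOpen _ η hV] at h
      letI := (TF7.isField_stalk hη).toField
      rw [not_not.1 (fun h' => h (isUnit_iff_ne_zero.2 h')), zero_smul]
    · rw [not_not.1 fun h => hηA ⟨hη, h⟩, smul_zero]
  have hφr : kernel.ι φ ≫ r = 0 := by
    refine Scheme.Modules.hom_ext _ _ fun V => ConcreteCategory.hom_ext _ _ fun x => ?_
    let y : Γ(ClSub.idealMod I, V) := (kernel.ι φ).app V x
    show (red T).subschemeι.app V (show Γ(X, V) from ι.app V y) = 0
    refine (basicOpen_eq_bot_iff _).1 (eq_bot_iff.2 fun w hw => ?_)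
    exfalso
    rw [← Scheme.preimage_basicOpen] at hw
    obtain ⟨η, hηB, hηA⟩ := mem_closure_iff.1 (show (red T).subschemeι w ∈ closure A from (range_red T).subset ⟨w, rfl⟩)
      _ (X.basicOpen _).2 hw
    have hηV : η ∈ V := X.basicOpen_le _ hηB
    have h1 := key V y η hηV hηA.1
    rw [show φ.app V y = 0 from kernel_ι_app_zero φ V x, OmegaLib.gm_zero] at h1
    obtain ⟨b, hb⟩ := ((X.mem_basicOpen _ η hηV).1 hηB).exists_left_inv
    refine hηA.2 ?_
    have h2 := congrArg (fun v : (St η).obj M => b • v) h1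
    simp only [smul_zero] at h2
    rw [smul_smul, hb, one_smul] at h2
    exact h2.symm
  let γ : Abelian.coimage r ⟶ M := cokernel.desc (kernel.ι r) φ hKφ
  haveI : Mono γ := by
    let a : Abelian.coimage r ⟶ Abelian.coimage φ := cokernel.desc (kernel.ι r) (cokernel.π (kernel.ι φ))
      (by rw [← kernel.lift_ι φ (kernel.ι r) hKφ, Category.assoc, cokernel.condition, comp_zero])
    let b : Abelian.coimage φ ⟶ Abelian.coimage r := cokernel.desc (kernel.ι φ) (cokernel.π (kernel.ι r))
      (by rw [← kernel.lift_ι r (kernel.ι φ) hφr, Category.assoc, cokernel.condition, comp_zero])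
    have hab : a ≫ b = 𝟙 _ := by
      rw [← cancel_epi (cokernel.π (kernel.ι r))]
      simp [a, b]
    haveI : IsSplitMono a := IsSplitMono.mk' ⟨b, hab⟩
    have hγ : γ = a ≫ Abelian.factorThruCoimage φ := by
      rw [← cancel_epi (cokernel.π (kernel.ι r))]
      simp [γ, a, Abelian.factorThruCoimage]
    rw [hγ]
    infer_instance
  have hvan : φ ≫ resT Z M = 0 := comp_resT_eq_zero hM Z φ fun V x W hW g hg y hy hyb => by
    obtain ⟨z, hzB, hzT⟩ := mem_closure_iff.1 (hy : y ∈ closure (T : Set X)ᶜ) _ (X.basicOpen _).2 hyb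
    obtain ⟨η, hη, hηB, hηz⟩ := exists_generic_mem _ hzB
    have hηW : η ∈ W := X.basicOpen_le _ hηB
    refine absurd hηB ((smul_gen_eq_zero_iff hg hη hηW _).1 ?_)
    have e := hg.coef_spec le_rfl (resM M hW (φ.app V x))
    rw [resM_self] at e
    rw [e]
    refine (OmegaLib.gm_res M (hW hηW) hW hηW _).trans ?_
    rw [key V x η (hW hηW) hη, not_not.1 fun h => hzT (hηz.mem_closed T.isClosed (subset_closure (show η ∈ A from ⟨hη, h⟩))),
      smul_zero]
  let γ' : Abelian.coimage r ⟶ NT Z M := kernel.lift (resT Z M) γ (by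
    rw [← cancel_epi (cokernel.π (kernel.ι r))]
    simp only [γ, cokernel.π_desc_assoc, comp_zero]
    exact hvan)
  haveI : Mono γ' := by
    haveI : Mono (γ' ≫ kernel.ι (resT Z M)) := by rw [kernel.lift_ι]; infer_instance
    exact mono_of_mono γ' (kernel.ι (resT Z M))
  -- coherence
  have cI := isCoh_idealMod' I
  have cq : Coh.IsCoh (ClSub.quotMod (red T)) := isCoh_quotMod _
  have cK : Coh.IsCoh (kernel r) := isCoh_kernel r cI cq.1
  haveI := cK.1
  have cC : Coh.IsCoh (Abelian.coimage r) := isCoh_cokernel (kernel.ι r) cK.1 cI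
  have cN : Coh.IsCoh (NT Z M) := isCoh_NT hM Z
  have hle1 := (TF7.euler_le_of_generic k hdim.le cC cN γ' fun η hη b => by
    obtain ⟨U, hηU, m, rfl⟩ := OmegaLib.exists_gm (NT Z M) b
    have hinj := (ModuleCat.mono_iff_injective ((St η).map (kernel.ι (resT Z M)))).1 inferInstance
    by_cases hηA : η ∈ A
    · obtain ⟨U', hηU', g, hg⟩ := exists_isGen hM η
      obtain ⟨α, hα⟩ := (EmbLib24.bijective_smul_germ hg hηU').2 (OmegaLib.gm M U₀ η (hI η hη) s₀)
      obtain ⟨β, hβ⟩ := (EmbLib24.bijective_smul_germ hg hηU').2 ((St η).map (kernel.ι (resT Z M)) (OmegaLib.gm (NT Z M) U η hηU m))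
      letI := (TF7.isField_stalk hη).toField
      have hα0 : α ≠ 0 := fun h => hηA.2 (by rw [← hα, h]; exact zero_smul _ _)
      obtain ⟨W, hW, f, hf⟩ := TopCat.Presheaf.exists_germ_eq X.presheaf (β * α⁻¹ : X.presheaf.stalk η)
      let W' := W ⊓ U₀
      have hW' : η ∈ W' := ⟨hW, hI η hη⟩
      let x : Γ(ClSub.idealMod I, W') := X.presheaf.map (homOfLE (inf_le_left : W' ≤ W)).op f •
        resM (ClSub.idealMod I) (inf_le_right : W' ≤ U₀) k₁
      refine ⟨OmegaLib.gm (Abelian.coimage r) W' η hW' ((cokernel.π (kernel.ι r)).app W' x), hinj ?_⟩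
      rw [OmegaLib.map_gm, OmegaLib.map_gm]
      refine (show OmegaLib.gm M W' η hW' ((cokernel.π (kernel.ι r) ≫ γ' ≫ kernel.ι (resT Z M)).app W' x) = _ from ?_)
      rw [kernel.lift_ι, cokernel.π_desc]
      rw [← hβ]
      show OmegaLib.gm M W' η hW' (φ.app W' x) = _
      rw [Scheme.Modules.Hom.app_smul, OmegaLib.gm_smul, app_resM]
      refine (congrArg₂ (fun (a : X.presheaf.stalk η) (v : (St η).obj M) => a • v)
        ((TopCat.Presheaf.germ_res_apply X.presheaf (homOfLE (inf_le_left : W' ≤ W)) η hW' f).trans hf)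
        ((OmegaLib.gm_res M (hI η hη) (inf_le_right : W' ≤ U₀) hW' _).trans hα.symm)).trans ?_
      show (β * α⁻¹) • (α • _) = β • _
      rw [smul_smul, mul_assoc, inv_mul_cancel₀ hα0, mul_one]
    · refine ⟨0, ?_⟩
      rw [map_zero]
      refine hinj ?_
      rw [map_zero, OmegaLib.map_gm]
      obtain ⟨U', hηU', g, hg⟩ := exists_isGen hM η
      have hgW := hg.restrict (inf_le_right : U ⊓ U' ≤ U')
      have e := hgW.coef_spec le_rfl (resM M (inf_le_left : U ⊓ U' ≤ U) ((kernel.ι (resT Z M)).app U m))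
      rw [resM_self] at e
      rw [← OmegaLib.gm_res M hηU (inf_le_left : U ⊓ U' ≤ U) ⟨hηU, hηU'⟩]
      refine Eq.symm ((congrArg (OmegaLib.gm M (U ⊓ U') η ⟨hηU, hηU'⟩) e.symm).trans ?_)
      exact (smul_gen_eq_zero_iff hgW hη ⟨hηU, hηU'⟩ _).2
        (van_app_ι hM Z m (U ⊓ U') inf_le_left _ hgW η (subset_closure fun h => hηA (hmemT η hη h)))).1
  -- the cokernel of the restriction
  let rr := Abelian.factorThruCoimage r
  let π := cokernel.π rr
  have cR : Coh.IsCoh (cokernel rr) := isCoh_cokernel rr cC.1 cq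
  have hw : ι ≫ ClSub.toSubscheme (red T) ≫ π = 0 := by
    rw [← Category.assoc, show ι ≫ ClSub.toSubscheme (red T) = cokernel.π (kernel.ι r) ≫ rr from (cokernel.π_desc _ _ _).symm,
      Category.assoc, cokernel.condition, comp_zero]
  let q : ClSub.quotMod I ⟶ cokernel rr :=
    (shortExact_ideal I).gIsCokernel.desc (CokernelCofork.ofπ (ClSub.toSubscheme (red T) ≫ π) hw)
  have hq : ClSub.toSubscheme I ≫ q = ClSub.toSubscheme (red T) ≫ π :=
    Cofork.IsColimit.π_desc (shortExact_ideal I).gIsCokernel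
  haveI : Epi (ClSub.toSubscheme (red T)) := (shortExact_ideal (red T)).epi_g
  haveI : Epi (ClSub.toSubscheme I ≫ q) := by rw [hq]; infer_instance
  haveI : Epi q := epi_of_epi (ClSub.toSubscheme I) q
  have hsd : topologicalKrullDim (I.support : Set X) < ((1 : ℕ) : WithBot ℕ∞) :=
    dim_lt_one_of_noGeneric hdim.le I.support.2 fun C hC η hη hηI =>
      hI η (show closure ({η} : Set X) ∈ irreducibleComponents X by rw [hη.def]; exact hC) hηI
  have cQ : Coh.IsCoh (ClSub.quotMod I) := isCoh_quotMod _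
  have cKq : Coh.IsCoh (kernel q) := isCoh_kernel q cQ cR.1
  have hK1 : Subsingleton (Coh.HH X (kernel q) 1) := subsingleton_HH_of_support ⟨_, I.support.2⟩ _ cKq.1
    ((support_subset_of_mono (kernel.ι q)).trans (support_quotMod_subset I)) 1 hsd
  have hsq : (ShortComplex.mk (kernel.ι q) q (kernel.condition q)).ShortExact :=
    { exact := ShortComplex.exact_kernel q }
  haveI := CurveRR24.finite_HH_of_isCoh k cQ 0
  have hh0 : Module.finrank k (Coh.HH X (cokernel rr) 0) ≤ Module.finrank k (Coh.HH X (ClSub.quotMod I) 0) :=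
    LinearMap.finrank_le_finrank_of_surjective (SerreDual.hmap_surjective_of_shortExact k hsq 0 hK1)
  have hRe : Curv2.euler k X (cokernel rr) ≤ (Module.finrank k (Coh.HH X (ClSub.quotMod I) 0) : ℤ) := by
    rw [euler_eq_h0_sub_h1 k hdim.le _ cR.1]
    omega
  have hadd := euler_additive k X (ShortComplex.mk rr π (cokernel.condition rr))
    { exact := ShortComplex.exact_cokernel rr } cC cq cR
  change Curv2.euler k X (ClSub.quotMod (red T)) = Curv2.euler k X (Abelian.coimage r) + Curv2.euler k X (cokernel rr) at hadd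
  -- degrees
  have hbot : red Z ⊓ red T = ⊥ := by
    rw [show red Z ⊓ red T = Scheme.IdealSheafData.vanishingIdeal (Z ⊔ T) from
        (Scheme.IdealSheafData.vanishingIdeal_sup Z T).symm,
      show Z ⊔ T = ⊤ from Closeds.ext (Set.eq_univ_of_forall fun y =>
        or_iff_not_imp_right.2 fun hy => subset_closure hy),
      Scheme.IdealSheafData.vanishingIdeal_top]
    exact Scheme.nilradical_eq_bot (X := X)
  obtain ⟨q', hq'⟩ := exists_toSup (red Z) (red T)
  have hred' := euler_red k hM Z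
  unfold redOver at hred'
  rw [euler_quot_tensor k (red Z) hM] at hred'
  have hEW := twistSeq_shortExact hM (shortExact_sup q' hq' hbot)
  have hSIW := twistSeq_shortExact hM (shortExact_ideal (red Z))
  have cIZ := isCoh_idealMod' (red Z)
  have e2 := euler_additive k X _ hEW (isCoh_twist hM cIZ) (isCoh_twist hM cq)
    (isCoh_twist hM (isCoh_quotMod (red Z ⊔ red T)))
  have e4 := euler_additive k X _ hSIW (isCoh_twist hM cIZ) (isCoh_twist hM (isCoh_structureModule X))
    (isCoh_twist hM (isCoh_quotMod (red Z)))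
  change Curv2.euler k X (CohB1.tensorMod (ClSub.quotMod (red T)) M) = Curv2.euler k X (CohB1.tensorMod (ClSub.idealMod (red Z)) M) + Curv2.euler k X (CohB1.tensorMod (ClSub.quotMod (red Z ⊔ red T)) M) at e2
  change Curv2.euler k X (CohB1.tensorMod (Coh.structureModule X) M) = Curv2.euler k X (CohB1.tensorMod (ClSub.idealMod (red Z)) M) + Curv2.euler k X (CohB1.tensorMod (ClSub.quotMod (red Z)) M) at e4
  rw [euler_congr k X (unitTensorIso M)] at e4
  have hsT : ((red T).support : Set X) = (T : Set X) := Scheme.IdealSheafData.coe_support_vanishingIdeal T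
  have hsupp : CohB1.support (ClSub.quotMod (red Z ⊔ red T)) ⊆ (T : Set X) ∩ Z := by
    refine (support_quotMod_subset _).trans fun y hy => ?_
    rw [Scheme.IdealSheafData.support_sup, Closeds.coe_inf, hsT,
      Scheme.IdealSheafData.coe_support_vanishingIdeal] at hy
    exact ⟨hy.2, hy.1⟩
  have hfin := dim_inter_compl hdim.le T
  have cQ2 := isCoh_quotMod (red Z ⊔ red T)
  have hQW := euler_twist_of_small k cQ2 hM (lt_of_le_of_lt (dim_mono hsupp) hfin)
  have hQ1 : Subsingleton (Coh.HH X (ClSub.quotMod (red Z ⊔ red T)) 1) :=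
    subsingleton_HH_of_support ⟨_, T.isClosed.inter Z.isClosed⟩ _ cQ2.1 hsupp 1 hfin
  have hQe := euler_eq_h0_sub_h1 k hdim.le _ cQ2.1
  rw [@Module.finrank_zero_of_subsingleton k (Coh.HH X (ClSub.quotMod (red Z ⊔ red T)) 1) _ _ _ _ hQ1] at hQe
  have hδ : delta k (red T) = Module.finrank k (Coh.HH X (ClSub.quotMod (red Z ⊔ red T)) 0) := by
    have : (⟨closure (((red T).support : Set X)ᶜ), isClosed_closure⟩ : Closeds X) = Z :=
      Closeds.ext (by show closure _ = closure _; rw [hsT])
    rw [delta, this, sup_comm]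
  refine ⟨T, hne, hd, ?_⟩
  simp only [Curv2.deg, Nat.cast_one, one_mul]
  rw [euler_quot_tensor k (red T) hM, euler_quot k (red T)]
  omega

end Groth.Agent.DualMod3
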