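import Groth.Agent.PicLib.PullbackGen
import Groth.Agent.AmpleLib.Power
import Groth.Agent.Coherent.FiniteType

/-!
# Sections of invertible modules and their retractions
-/

set_option autoImplicit false
set_option backward.isDefEq.respectTransparency.types false

universe u

open CategoryTheory CategoryTheory.Limits AlgebraicGeometry
open Groth.Agent.Coherent Groth.Agent.PicLib Groth.Agent.AmpleLib

namespace Groth.Agent.DualMod3

variable {X : Scheme.{u}} {L : X.Modules}

/-- A map out of an invertible module killing a monic section vanishes. -/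
theorem eq_zero_of_section_comp (hL : PicF.IsInvertible L) (s : Coh.structureModule X ⟶ L) [Mono s]
    (r : L ⟶ Coh.structureModule X) (hc : s ≫ r = 0) : r = 0 := by
  refine Scheme.Modules.hom_ext _ _ fun U => ConcreteCategory.hom_ext _ _ fun x => ?_
  show r.app U x = (0 : Γ(Coh.structureModule X, U))
  refine sec_ext (Coh.structureModule X) _ _ fun y hy => ?_
  obtain ⟨V, hyV, e, he⟩ := exists_isGen hL y
  refine ⟨U ⊓ V, inf_le_left, ⟨hy, hyV⟩, ?_⟩
  rw [map_zero, ← app_resM]
  let e' := resM L (inf_le_right : U ⊓ V ≤ V) e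
  have hs1 := he.coef_spec (inf_le_right : U ⊓ V ≤ V) (s.app (U ⊓ V) (oneSec (U ⊓ V)))
  have h1 : r.app (U ⊓ V) (s.app (U ⊓ V) (oneSec (U ⊓ V))) = 0 :=
    congrArg (fun φ : Coh.structureModule X ⟶ Coh.structureModule X => φ.app (U ⊓ V) (oneSec (U ⊓ V))) hc
  let a : Γ(X, U ⊓ V) := he.coef (inf_le_right : U ⊓ V ≤ V) (s.app (U ⊓ V) (oneSec (U ⊓ V)))
  let b : Γ(X, U ⊓ V) := r.app (U ⊓ V) e'
  have hab : a * b = 0 := by
    rw [← hs1, Scheme.Modules.Hom.app_smul] at h1
    exact h1
  have hb : b = 0 := by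
    have h2 : s.app (U ⊓ V) (b • oneSec (U ⊓ V)) = 0 := by
      rw [Scheme.Modules.Hom.app_smul, ← hs1, smul_smul]
      show (b * a) • e' = 0
      rw [mul_comm, hab, zero_smul]
    have h3 := app_injective_of_mono s (U ⊓ V) (h2.trans (map_zero _).symm)
    exact (mul_one b).symm.trans h3
  have hx := he.coef_spec (inf_le_right : U ⊓ V ≤ V) (resM L (inf_le_left : U ⊓ V ≤ U) x)
  rw [← hx, Scheme.Modules.Hom.app_smul]
  show he.coef _ _ • r.app (U ⊓ V) e' = 0
  rw [show r.app (U ⊓ V) e' = 0 from hb, smul_zero]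

/-- A monic section of an invertible module with a retraction is an isomorphism. -/
theorem isIso_of_retraction (hL : PicF.IsInvertible L) (s : Coh.structureModule X ⟶ L) [Mono s]
    (r : L ⟶ Coh.structureModule X) (hid : s ≫ r = 𝟙 _) : IsIso s := by
  haveI : Epi s := by
    refine epi_of_locally_surjective s fun W x y hy => ?_
    obtain ⟨V, hyV, e, he⟩ := exists_isGen hL y
    refine ⟨W ⊓ V, inf_le_left, ⟨hy, hyV⟩, ?_⟩
    let e' := resM L (inf_le_right : W ⊓ V ≤ V) e
    let a : Γ(X, W ⊓ V) := he.coef (inf_le_right : W ⊓ V ≤ V) (s.app (W ⊓ V) (oneSec (W ⊓ V)))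
    let b : Γ(X, W ⊓ V) := r.app (W ⊓ V) e'
    have hs1 : a • e' = s.app (W ⊓ V) (oneSec (W ⊓ V)) :=
      he.coef_spec (inf_le_right : W ⊓ V ≤ V) (s.app (W ⊓ V) (oneSec (W ⊓ V)))
    have hab : a * b = 1 := by
      have h1 : r.app (W ⊓ V) (s.app (W ⊓ V) (oneSec (W ⊓ V))) = oneSec (W ⊓ V) :=
        congrArg (fun φ : Coh.structureModule X ⟶ Coh.structureModule X => φ.app (W ⊓ V) (oneSec (W ⊓ V))) hid
      rw [← hs1, Scheme.Modules.Hom.app_smul] at h1
      exact h1
    let z : Γ(X, W ⊓ V) := he.coef (inf_le_right : W ⊓ V ≤ V) (resM L (inf_le_left : W ⊓ V ≤ W) x)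
    refine ⟨(z * b) • oneSec (W ⊓ V), ?_⟩
    rw [Scheme.Modules.Hom.app_smul, ← hs1, smul_smul]
    show (z * b * a) • e' = _
    rw [mul_assoc, mul_comm b, hab, mul_one]
    exact he.coef_spec (inf_le_right : W ⊓ V ≤ V) _
  exact isIso_of_mono_of_epi s

end Groth.Agent.DualMod3
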