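import Groth.Agent.DualMod3.AdjDeg
import Groth.Agent.NodeLib7.ClosedSub
import Groth.Agent.NodeLib7.NodalStalks

/-!
# A subcurve meets its complement transversally at the nodes
-/

set_option autoImplicit false
set_option backward.isDefEq.respectTransparency false
set_option linter.style.haveILetI false
set_option maxHeartbeats 1000000

universe u

open CategoryTheory CategoryTheory.Limits AlgebraicGeometry TopologicalSpace IsLocalRing
open Groth.Agent.Subcurves24 Groth.Agent.EulerLib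

attribute [local instance] Curv2.stalkAlgebra Curv2.resAlgebra

namespace Groth.Agent.DualMod3

/-- Two ideals with zero product, neither inside `m²`, span the maximal ideal of a node. -/
theorem branches_span {A : Type u} [CommRing A] [IsLocalRing A] (p q : Ideal A)
    (hpm : p ≤ maximalIdeal A) (hqm : q ≤ maximalIdeal A)
    (hprod : ∀ z ∈ p, ∀ w ∈ q, z * w = 0) (hp : ¬ p ≤ maximalIdeal A ^ 2) (hq : ¬ q ≤ maximalIdeal A ^ 2)
    {x y a b c : A} (hd : NodeLib7.NodeData A x y a b c)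
    (hrel : ∀ r s t : A, r * x ^ 2 + s * x * y + t * y ^ 2 ∈ maximalIdeal A ^ 3 →
      ∃ l : A, residue A r = residue A (l * a) ∧ residue A s = residue A (l * b) ∧
        residue A t = residue A (l * c)) :
    maximalIdeal A ≤ p ⊔ q := by
  obtain ⟨z, hz, hz2⟩ := SetLike.not_le_iff_exists.1 hp
  obtain ⟨w, hw, hw2⟩ := SetLike.not_le_iff_exists.1 hq
  obtain ⟨r, s, hrs⟩ := Ideal.mem_span_pair.1 (hd.span ▸ hpm hz : z ∈ Ideal.span {x, y})
  obtain ⟨r', s', hrs'⟩ := Ideal.mem_span_pair.1 (hd.span ▸ hqm hw : w ∈ Ideal.span {x, y})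
  have hxm : x ∈ maximalIdeal A := hd.span ▸ Ideal.subset_span (by simp)
  have hym : y ∈ maximalIdeal A := hd.span ▸ Ideal.subset_span (by simp)
  have h0 : r * r' * x ^ 2 + (r * s' + r' * s) * x * y + s * s' * y ^ 2 ∈ maximalIdeal A ^ 3 := by
    have : r * r' * x ^ 2 + (r * s' + r' * s) * x * y + s * s' * y ^ 2 = z * w := by rw [← hrs, ← hrs']; ring
    rw [this, hprod z hz w hw]
    exact zero_mem _
  obtain ⟨l, h1, h2, h3⟩ := hrel _ _ _ h0
  simp only [map_mul, map_add] at h1 h2 h3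
  have hunit : IsUnit (r * s' - r' * s) := by
    rw [← IsLocalRing.notMem_maximalIdeal, ← residue_eq_zero_iff]
    intro hD
    simp only [map_sub, map_mul] at hD
    have hlin : ∀ u v : A, residue A u = 0 → residue A v = 0 → u * x + v * y ∈ maximalIdeal A ^ 2 := fun u v hu hv => by
      rw [pow_two]
      exact Ideal.add_mem _ (Ideal.mul_mem_mul ((residue_eq_zero_iff u).1 hu) hxm)
        (Ideal.mul_mem_mul ((residue_eq_zero_iff v).1 hv) hym)
    have hz' : residue A r ≠ 0 ∨ residue A s ≠ 0 := by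
      by_contra hh
      push Not at hh
      exact hz2 (hrs ▸ hlin r s hh.1 hh.2)
    have hw' : residue A r' ≠ 0 ∨ residue A s' ≠ 0 := by
      by_contra hh
      push Not at hh
      exact hw2 (hrs' ▸ hlin r' s' hh.1 hh.2)
    have hdisc := hd.disc
    simp only [map_sub, map_mul, map_pow, map_ofNat] at hdisc
    generalize residue A r = R at *
    generalize residue A r' = R' at *
    generalize residue A s = S at *
    generalize residue A s' = S' at *
    generalize residue A l = L at *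
    generalize residue A a = a₀ at *
    generalize residue A b = b₀ at *
    generalize residue A c = c₀ at *
    have hl : L = 0 := by
      have : L * L * (4 * a₀ * c₀ - b₀ ^ 2) = 0 := by
        linear_combination (-(R * S' - R' * S)) * hD - 4 * L * c₀ * h1 + (R * S' + R' * S + L * b₀) * h2 - 4 * R * R' * h3
      rcases mul_eq_zero.1 this with h | h
      · exact mul_self_eq_zero.1 h
      · exact absurd h hdisc
    rw [hl, zero_mul] at h1 h2 h3
    rcases mul_eq_zero.1 h1 with hR | hR' <;> rcases mul_eq_zero.1 h3 with hS | hS'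
    · exact hz'.elim (fun h => h hR) (fun h => h hS)
    · subst hR
      subst hS'
      have : R' * S = 0 := by linear_combination h2
      rcases mul_eq_zero.1 this with h | h
      · exact hw'.elim (fun g => g h) (fun g => g rfl)
      · exact hz'.elim (fun g => g rfl) (fun g => g h)
    · subst hR'
      subst hS
      have : R * S' = 0 := by linear_combination h2
      rcases mul_eq_zero.1 this with h | h
      · exact hz'.elim (fun g => g h) (fun g => g rfl)
      · exact hw'.elim (fun g => g rfl) (fun g => g h)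
    · exact hw'.elim (fun h => h hR') (fun h => h hS')
  obtain ⟨v, hv⟩ := hunit.exists_right_inv
  have hzp : z ∈ p ⊔ q := Ideal.mem_sup_left hz
  have hwp : w ∈ p ⊔ q := Ideal.mem_sup_right hw
  rw [← hd.span, Ideal.span_le, Set.insert_subset_iff, Set.singleton_subset_iff]
  refine ⟨?_, ?_⟩
  · have : x = v * s' * z - v * s * w := by
      linear_combination (-x) * hv + v * s' * hrs - v * s * hrs'
    rw [this]
    exact sub_mem (Ideal.mul_mem_left _ _ hzp) (Ideal.mul_mem_left _ _ hwp)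
  · have : y = v * r * w - v * r' * z := by
      linear_combination (-y) * hv + v * r * hrs' - v * r' * hrs
    rw [this]
    exact sub_mem (Ideal.mul_mem_left _ _ hwp) (Ideal.mul_mem_left _ _ hzp)

variable (k : Type u) [Field k] {X : Scheme.{u}} [X.Over (Spec (CommRingCat.of k))]
  [IsProper (X ↘ Spec (CommRingCat.of k))]

/-- The points of a subcurve lie on components inside it. -/
theorem exists_component_subset [IsNoetherian X] (T : Closeds X) {x : X}
    (hx : x ∈ closure ((T : Set X) ∩ (compl (T : Set X) : Set X)ᶜ)) :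
    ∃ (C : Closeds X) (η : X), (C : Set X) ∈ irreducibleComponents X ∧ IsGenericPoint η (C : Set X) ∧
      x ∈ C ∧ η ∈ (T : Set X) := by
  let 𝒞 : Set (Closeds X) := {C | (C : Set X) ∈ irreducibleComponents X ∧ (C : Set X) ⊆ T}
  have hfin : 𝒞.Finite := finite_components.subset fun C hC => hC.1
  have hsub : closure ((T : Set X) ∩ (compl (T : Set X) : Set X)ᶜ) ⊆ ⋃ C ∈ 𝒞, (C : Set X) := by
    refine closure_minimal (fun z hz => ?_) (hfin.isClosed_biUnion fun C _ => C.isClosed)
    obtain ⟨C, hC, hzC⟩ := exists_component z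
    obtain ⟨η, -, hη⟩ := exists_genericPoint hC
    have hηT : η ∉ closure (T : Set X)ᶜ := (hη.specializes hzC).mem_open isClosed_closure.isOpen_compl hz.2
    refine Set.mem_iUnion₂.2 ⟨C, ⟨hC, ?_⟩, hzC⟩
    exact hη.def ▸ closure_minimal (Set.singleton_subset_iff.2 (not_not.1 fun h => hηT (subset_closure h))) T.isClosed
  obtain ⟨C, ⟨hC, hCT⟩, hxC⟩ := Set.mem_iUnion₂.1 (hsub hx)
  obtain ⟨η, hηC, hη⟩ := exists_genericPoint hC
  exact ⟨C, η, hC, hη, hxC, hCT hηC⟩

theorem mem_vanishing_iff (T : Closeds X) (U : X.affineOpens) (r : Γ(X, U.1)) :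
    r ∈ (red T).ideal U ↔ ∀ y : PrimeSpectrum Γ(X, U.1), U.2.fromSpec y ∈ (T : Set X) → r ∈ y.asIdeal := by
  rw [Scheme.IdealSheafData.vanishingIdeal_ideal, PrimeSpectrum.mem_vanishingIdeal]
  rfl

theorem exists_not_mem (T : Closeds X) (U : X.affineOpens) (y : PrimeSpectrum Γ(X, U.1))
    (hy : U.2.fromSpec y ∉ (T : Set X)) : ∃ i ∈ (red T).ideal U, i ∉ y.asIdeal := by
  by_contra hh
  push Not at hh
  refine hy ?_
  have hc : IsClosed (U.2.fromSpec ⁻¹' (T : Set X)) := T.isClosed.preimage U.2.fromSpec.continuous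
  show y ∈ U.2.fromSpec ⁻¹' (T : Set X)
  rw [← hc.closure_eq, ← PrimeSpectrum.zeroLocus_vanishingIdeal_eq_closure]
  intro i hi
  exact hh i (by rw [Scheme.IdealSheafData.vanishingIdeal_ideal]; exact hi)

theorem sup_vanishing_eq [IsAlgClosed k] [IsReduced X] (hdim : topologicalKrullDim X = 1)
    (hequi : ∀ Z ∈ irreducibleComponents (X : Type u), topologicalKrullDim Z = 1)
    (hX : Curv2.AtWorstNodal k X) (T : Closeds X)
    (hT : (T : Set X) ⊆ closure ((T : Set X) ∩ (compl (T : Set X) : Set X)ᶜ)) :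
    red T ⊔ red (compl (T : Set X)) = red (T ⊓ compl (T : Set X)) := by
  haveI := EulerLib.isNoetherian_of_proper k (X := X)
  let Z := compl (T : Set X)
  refine le_antisymm (sup_le (Scheme.IdealSheafData.vanishingIdeal_antimono inf_le_left)
    (Scheme.IdealSheafData.vanishingIdeal_antimono inf_le_right)) fun U α hα => ?_
  let I := (red T).ideal U
  let I' := (red Z).ideal U
  show α ∈ (red T ⊔ red Z).ideal U
  rw [Scheme.IdealSheafData.ideal_sup]
  show α ∈ I ⊔ I'
  by_contra hnot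
  let N : Ideal Γ(X, U.1) := (I ⊔ I').colon {α}
  have hNtop : N ≠ ⊤ := fun h => hnot (by
    have := Submodule.mem_colon_singleton.1 (h ▸ Submodule.mem_top : (1 : Γ(X, U.1)) ∈ N)
    simpa using this)
  obtain ⟨𝔪, h𝔪, hN𝔪⟩ := Ideal.exists_le_maximal N hNtop
  let y : PrimeSpectrum Γ(X, U.1) := ⟨𝔪, h𝔪.isPrime⟩
  let x : X := U.2.fromSpec y
  have hxU : x ∈ U.1 := U.2.range_fromSpec.le ⟨y, rfl⟩
  have hkill : ∀ (T' : Closeds X), (red T').ideal U ≤ I ⊔ I' → x ∈ (T' : Set X) := fun T' hle => by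
    by_contra hxT
    obtain ⟨i, hi, hi'⟩ := exists_not_mem T' U y hxT
    exact hi' (hN𝔪 (Submodule.mem_colon_singleton.2 (hle (Ideal.mul_mem_right α _ hi))))
  have hxT : x ∈ (T : Set X) := hkill T le_sup_left
  have hxZ : x ∈ (Z : Set X) := hkill Z le_sup_right
  have hyx : U.2.primeIdealOf ⟨x, hxU⟩ = y :=
    U.2.fromSpec.isOpenEmbedding.injective (U.2.fromSpec_primeIdealOf ⟨x, hxU⟩)
  have hnogen : ∀ (C : Closeds X), (C : Set X) ∈ irreducibleComponents X → ∀ η, IsGenericPoint η (C : Set X) → η ≠ x :=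
    fun C hC η hη e => genericPoint_not_mem_compl T hC hη (e ▸ hxT) (e ▸ hxZ)
  have hxc : IsClosed ({x} : Set X) := TF7.isClosed_singleton_of_notGeneric hdim.le fun hg =>
    hnogen ⟨closure {x}, isClosed_closure⟩ hg x rfl rfl
  -- the local ring
  letI : Algebra Γ(X, U.1) (X.presheaf.stalk x) := TopCat.Presheaf.algebra_section_stalk X.presheaf ⟨x, hxU⟩
  haveI hloc : IsLocalization.AtPrime (X.presheaf.stalk x) 𝔪 := by
    have := U.2.isLocalization_stalk ⟨x, hxU⟩
    rwa [hyx] at this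
  let A := X.presheaf.stalk x
  let p := I.map (algebraMap Γ(X, U.1) A)
  let q := I'.map (algebraMap Γ(X, U.1) A)
  have hαP : ∀ i ∈ I, ∀ j ∈ I', i * j = 0 := fun i hi j hj => by
    have hb : red T ⊓ red Z = ⊥ := by
      rw [show red T ⊓ red Z = Scheme.IdealSheafData.vanishingIdeal (T ⊔ Z) from
          (Scheme.IdealSheafData.vanishingIdeal_sup T Z).symm,
        show T ⊔ Z = ⊤ from Closeds.ext (Set.eq_univ_of_forall fun y =>
          or_iff_not_imp_left.2 fun hy => subset_closure hy),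
        Scheme.IdealSheafData.vanishingIdeal_top]
      exact Scheme.nilradical_eq_bot (X := X)
    have : i * j ∈ (red T ⊓ red Z).ideal U := ⟨Ideal.mul_mem_right j _ hi, Ideal.mul_mem_left _ i hj⟩
    rw [hb] at this
    exact (Submodule.mem_bot _).1 this
  have hprod : ∀ z ∈ p, ∀ w ∈ q, z * w = 0 := fun z hz w hw => by
    have h : p * q = ⊥ := by
      rw [← Ideal.map_mul, show I * I' = ⊥ from le_bot_iff.1 (Ideal.mul_le.2 fun i hi j hj =>
        (Submodule.mem_bot _).2 (hαP i hi j hj)), Ideal.map_bot]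
    exact (Submodule.mem_bot _).1 (h ▸ Ideal.mul_mem_mul hz hw)
  have hpm : ∀ (T' : Closeds X), x ∈ (T' : Set X) →
      ((red T').ideal U).map (algebraMap Γ(X, U.1) A) ≤ maximalIdeal A := fun T' hx' => by
    rw [Ideal.map_le_iff_le_comap]
    intro i hi
    exact (IsLocalization.AtPrime.to_map_mem_maximal_iff A 𝔪 i).2 ((mem_vanishing_iff T' U i).1 hi y hx')
  -- a component inside each side
  have hside : ∀ (T' : Closeds X), x ∈ (T' : Set X) →
      (∃ (C : Closeds X) (η : X), (C : Set X) ∈ irreducibleComponents X ∧ IsGenericPoint η (C : Set X) ∧ x ∈ C ∧ η ∈ (T' : Set X)) →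
      (∃ (C : Closeds X) (η : X), (C : Set X) ∈ irreducibleComponents X ∧ IsGenericPoint η (C : Set X) ∧ x ∈ C ∧ η ∉ (T' : Set X)) →
      ((red T').ideal U).map (algebraMap Γ(X, U.1) A) ≠ ⊥ ∧
        ¬ IsField (A ⧸ ((red T').ideal U).map (algebraMap Γ(X, U.1) A)) := by
    rintro T' hx' ⟨C, η, hC, hη, hxC, hηT⟩ ⟨D, ζ, hD, hζ, hxD, hζT⟩
    have hP : ∀ ξ : X, ξ ⤳ x → ∃ P : PrimeSpectrum Γ(X, U.1), U.2.fromSpec P = ξ ∧ P.asIdeal ≤ 𝔪 := fun ξ hξ => by
      obtain ⟨P, hP⟩ := U.2.range_fromSpec.ge (hξ.mem_open U.1.2 hxU)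
      refine ⟨P, hP, ?_⟩
      have hs : P ⤳ y := by
        rw [← U.2.fromSpec.isOpenEmbedding.isInducing.specializes_iff, hP]
        exact hξ
      exact (PrimeSpectrum.le_iff_specializes P y).2 hs
    constructor
    · intro hbot
      obtain ⟨P, hP1, hP2⟩ := hP ζ (hζ.specializes hxD)
      obtain ⟨i, hi, hiP⟩ := exists_not_mem T' U P (hP1.symm ▸ hζT)
      have h0 : algebraMap Γ(X, U.1) A i = 0 := (Submodule.mem_bot _).1 (hbot ▸ Ideal.mem_map_of_mem _ hi)
      obtain ⟨s, hs⟩ := (IsLocalization.map_eq_zero_iff 𝔪.primeCompl A i).1 h0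
      rcases P.isPrime.mem_or_mem (show (s : Γ(X, U.1)) * i ∈ P.asIdeal by rw [hs]; exact zero_mem _) with h | h
      · exact s.2 (hP2 h)
      · exact hiP h
    · intro hF
      have hmax := Ideal.Quotient.maximal_of_isField _ hF
      obtain ⟨P, hP1, hP2⟩ := hP η (hη.specializes hxC)
      have hne : P.asIdeal ≠ 𝔪 := fun e => hnogen C hC η hη (by
        rw [← hP1, show P = y from PrimeSpectrum.ext e])
      obtain ⟨g, hg, hgP⟩ := SetLike.not_le_iff_exists.1 fun h => hne (le_antisymm hP2 h)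
      have hgm : algebraMap Γ(X, U.1) A g ∈ maximalIdeal A := (IsLocalization.AtPrime.to_map_mem_maximal_iff A 𝔪 g).2 hg
      rw [← eq_maximalIdeal hmax, IsLocalization.algebraMap_mem_map_algebraMap_iff 𝔪.primeCompl] at hgm
      obtain ⟨s, hs, hsg⟩ := hgm
      rcases P.isPrime.mem_or_mem ((mem_vanishing_iff T' U _).1 hsg P (hP1.symm ▸ hηT)) with h | h
      · exact hs (hP2 h)
      · exact hgP h
  obtain ⟨C, η, hC, hη, hxC, hηT⟩ := exists_component_subset T (hT hxT)
  have hηZ := genericPoint_not_mem_compl T hC hη hηT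
  obtain ⟨D, ζ, hD, hζ, hxD, hζZ, hζT⟩ : ∃ (D : Closeds X) (ζ : X), (D : Set X) ∈ irreducibleComponents X ∧
      IsGenericPoint ζ (D : Set X) ∧ x ∈ D ∧ ζ ∈ (Z : Set X) ∧ ζ ∉ (T : Set X) := by
    obtain ⟨D, ζ, hD, hζ, hxD, hζZ⟩ := exists_component_subset Z (x := x) (closure_mono
      (show (T : Set X)ᶜ ⊆ (Z : Set X) ∩ (compl (Z : Set X) : Set X)ᶜ from fun z hz => ⟨subset_closure hz, fun h => by
        obtain ⟨w, hw, hw'⟩ := mem_closure_iff.1 (h : z ∈ closure (Z : Set X)ᶜ) _ T.isClosed.isOpen_compl hz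
        exact hw' (subset_closure hw)⟩) hxZ)
    exact ⟨D, ζ, hD, hζ, hxD, hζZ, fun h => genericPoint_not_mem_compl T hD hζ h hζZ⟩
  obtain ⟨hp0, hpF⟩ := hside T hxT ⟨C, η, hC, hη, hxC, hηT⟩ ⟨D, ζ, hD, hζ, hxD, hζT⟩
  obtain ⟨hq0, hqF⟩ := hside Z hxZ ⟨D, ζ, hD, hζ, hxD, hζZ⟩ ⟨C, η, hC, hη, hxC, hηZ⟩
  rcases hX x hxc with ⟨V, hxV, hV⟩ | hnode
  · haveI : IsRegularLocalRing (V.toScheme.presheaf.stalk ⟨x, hxV⟩) :=
      VarietyLib.isRegularLocalRing_stalk_of_smooth k V.toScheme (V.ι ≫ (X ↘ Spec (CommRingCat.of k))) _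
    haveI : IsRegularLocalRing A := IsRegularLocalRing.of_ringEquiv (V.stalkIso ⟨x, hxV⟩).commRingCatIsoToRingEquiv
    haveI := CAlgH3.isDomain_of_isRegularLocalRing A
    obtain ⟨z, hz, hz0⟩ := Submodule.exists_mem_ne_zero_of_ne_bot hp0
    obtain ⟨w, hw, hw0⟩ := Submodule.exists_mem_ne_zero_of_ne_bot hq0
    exact mul_ne_zero hz0 hw0 (hprod z hz w hw)
  · have hpt := ((NodeLib7.isNode_iff k X x).1 hnode).2
    haveI := NodeLib7.isNoetherianRing_stalk k X x
    haveI := hpt.1
    haveI : Algebra.FormallyEtale k (ResidueField A) := Algebra.FormallyEtale.of_isSeparable _ _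
    obtain ⟨a₀, b₀, c₀, hdisc, e, -⟩ := NodeLib7.exists_completion_of_isNodePt k X hpt
    obtain ⟨-, x₁, y₁, a, b, c, hd, hrel⟩ := NodeLib7.nodeData_of_completion hdisc e
    have hnle : ∀ (T' : Closeds X), ((red T').ideal U).map (algebraMap Γ(X, U.1) A) ≠ ⊥ →
        ¬ IsField (A ⧸ ((red T').ideal U).map (algebraMap Γ(X, U.1) A)) →
        x ∈ (T' : Set X) →
        ¬ ((red T').ideal U).map (algebraMap Γ(X, U.1) A) ≤ maximalIdeal A ^ 2 := by
      intro T' h0 hF hx' hle
      have hr : (((red T').ideal U).map (algebraMap Γ(X, U.1) A)).IsRadical := by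
        have : ((red T').ideal U).IsRadical := by
          rw [Scheme.IdealSheafData.vanishingIdeal_ideal]; exact PrimeSpectrum.isRadical_vanishingIdeal _
        show Ideal.radical _ ≤ _
        rw [← IsLocalization.map_radical 𝔪.primeCompl, this.radical]
      haveI : _root_.IsReduced (A ⧸ ((red T').ideal U).map (algebraMap Γ(X, U.1) A)) :=
        (Ideal.isRadical_iff_quotient_reduced _).1 hr
      haveI : Nontrivial (A ⧸ ((red T').ideal U).map (algebraMap Γ(X, U.1) A)) :=
        Ideal.Quotient.nontrivial_iff.2 fun h => (maximalIdeal.isMaximal A).ne_top (top_le_iff.1 (h ▸ hpm T' hx'))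
      haveI : IsLocalRing (A ⧸ ((red T').ideal U).map (algebraMap Γ(X, U.1) A)) :=
        IsLocalRing.of_surjective' _ Ideal.Quotient.mk_surjective
      have hinj := NodeLib7.injective_of_nodeData (k := k) (Ideal.Quotient.mk _) Ideal.Quotient.mk_surjective hF hd
        (by rw [Ideal.mk_ker]; exact hle)
      rw [RingHom.injective_iff_ker_eq_bot, Ideal.mk_ker] at hinj
      exact h0 hinj
    have hspan := branches_span p q (hpm T hxT) (hpm Z hxZ) hprod (hnle T hp0 hpF hxT) (hnle Z hq0 hqF hxZ) hd hrel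
    have hαm : algebraMap Γ(X, U.1) A α ∈ (I ⊔ I').map (algebraMap Γ(X, U.1) A) := by
      rw [Ideal.map_sup]
      exact hspan ((IsLocalization.AtPrime.to_map_mem_maximal_iff A 𝔪 α).2
        ((mem_vanishing_iff (T ⊓ Z) U α).1 hα y ⟨hxT, hxZ⟩))
    obtain ⟨s, hs, hsα⟩ := (IsLocalization.algebraMap_mem_map_algebraMap_iff 𝔪.primeCompl A (I ⊔ I') α).1 hαm
    exact hs (hN𝔪 (Submodule.mem_colon_singleton.2 hsα))

end Groth.Agent.DualMod3
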