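import Mathlib

/-!
# Arithmetic of balanced degrees
-/

set_option autoImplicit false

namespace Groth.Agent.DualMod3

variable {g gJ δ : ℕ} {d l w G : ℤ}

theorem num_nef (hg : 2 ≤ g) (hd : (g : ℤ) - 1 < d) (hw : w = 2 * (gJ : ℤ) - 2 + (δ : ℤ))
    (h0 : δ = 0 → gJ = g ∧ l = d)
    (hb : -((2 * (g : ℤ) - 2) * (δ : ℤ)) ≤ 2 * (2 * (g : ℤ) - 2) * l - 2 * d * w ∧
      2 * (2 * (g : ℤ) - 2) * l - 2 * d * w ≤ (2 * (g : ℤ) - 2) * (δ : ℤ)) :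
    (0 ≤ l → 0 ≤ w ∧ (w = 0 → l = 0 ∨ l = 1)) ∧ (0 ≤ w ∧ (w = 0 → l = 0 ∨ l = 1) → 0 ≤ l) := by
  rcases Nat.eq_zero_or_pos δ with hδ | hδ
  · obtain ⟨e1, e2⟩ := h0 hδ
    exact ⟨fun _ => ⟨by omega, fun _ => by omega⟩, fun _ => by omega⟩
  have hδ' : (1 : ℤ) ≤ δ := by exact_mod_cast hδ
  have hg' : (2 : ℤ) ≤ g := by exact_mod_cast hg
  refine ⟨fun hl => ⟨?_, fun hw0 => ?_⟩, fun ⟨hw', h1⟩ => ?_⟩
  · by_contra hneg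
    obtain ⟨e1, e2⟩ : gJ = 0 ∧ δ = 1 := by omega
    subst e1 e2
    norm_num at hw
    subst hw
    push_cast at hb
    nlinarith
  · obtain ⟨-, e2⟩ : gJ = 0 ∧ δ = 2 := by omega
    subst e2
    rw [hw0] at hb
    push_cast at hb
    have : l ≤ 1 := by nlinarith
    omega
  · rcases hw'.lt_or_eq with hp | hp
    · have h2 : (2 * (g : ℤ) - 2) * (-1) < (2 * (g : ℤ) - 2) * l := by
        have h3 : (2 * (g : ℤ) - 2) * w < 2 * d * w := by nlinarith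
        nlinarith
      have := (mul_lt_mul_iff_of_pos_left (show (0 : ℤ) < 2 * (g : ℤ) - 2 by omega)).1 h2
      omega
    · rcases h1 hp.symm with e | e <;> omega

theorem num_amp (hg : 2 ≤ g) (hd : (g : ℤ) - 1 ≤ d) (hw : w = 2 * (gJ : ℤ) - 2 + (δ : ℤ))
    (h0 : δ = 0 → gJ = g ∧ l = d)
    (hb : -((2 * (g : ℤ) - 2) * (δ : ℤ)) ≤ 2 * (2 * (g : ℤ) - 2) * l - 2 * d * w ∧
      2 * (2 * (g : ℤ) - 2) * l - 2 * d * w ≤ (2 * (g : ℤ) - 2) * (δ : ℤ)) (hl : 0 < l) :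
    0 ≤ w ∧ (w = 0 → l = 1) := by
  rcases Nat.eq_zero_or_pos δ with hδ | hδ
  · obtain ⟨e1, e2⟩ := h0 hδ
    exact ⟨by omega, fun _ => by omega⟩
  refine ⟨?_, fun hw0 => ?_⟩
  · by_contra hneg
    obtain ⟨e1, e2⟩ : gJ = 0 ∧ δ = 1 := by omega
    subst e1 e2
    norm_num at hw
    subst hw
    push_cast at hb
    nlinarith
  · obtain ⟨-, e2⟩ : gJ = 0 ∧ δ = 2 := by omega
    subst e2
    rw [hw0] at hb
    push_cast at hb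
    have : l ≤ 1 := by nlinarith
    omega

theorem num_gl (hg : 2 ≤ g) (hd : 3 * ((g : ℤ) - 1) < d) (hw : w = 2 * (gJ : ℤ) - 2 + (δ : ℤ))
    (h0 : δ = 0 → gJ = g ∧ l = d)
    (hb : -((2 * (g : ℤ) - 2) * (δ : ℤ)) ≤ 2 * (2 * (g : ℤ) - 2) * l - 2 * d * w ∧
      2 * (2 * (g : ℤ) - 2) * l - 2 * d * w ≤ (2 * (g : ℤ) - 2) * (δ : ℤ)) (hl : 0 ≤ l) :
    2 * (gJ : ℤ) ≤ l := by
  rcases Nat.eq_zero_or_pos δ with hδ | hδ
  · obtain ⟨e1, e2⟩ := h0 hδ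
    omega
  have hw' := ((num_nef hg (by omega) hw h0 hb).1 hl).1
  rcases hw'.lt_or_eq with hp | hp
  · have h3 : 6 * ((g : ℤ) - 1) * w < 2 * d * w := by nlinarith
    have h2 : (2 * (g : ℤ) - 2) * (3 * w - δ) < (2 * (g : ℤ) - 2) * (2 * l) := by nlinarith
    have := (mul_lt_mul_iff_of_pos_left (show (0 : ℤ) < 2 * (g : ℤ) - 2 by omega)).1 h2
    omega
  · omega

theorem num_h1 (hg : 2 ≤ g) (hd : 2 * (g : ℤ) - 2 < d) (hw : w = 2 * (gJ : ℤ) - 2 + (δ : ℤ))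
    (h0 : δ = 0 → gJ = g ∧ l = d)
    (hb : -((2 * (g : ℤ) - 2) * (δ : ℤ)) ≤ 2 * (2 * (g : ℤ) - 2) * l - 2 * d * w ∧
      2 * (2 * (g : ℤ) - 2) * l - 2 * d * w ≤ (2 * (g : ℤ) - 2) * (δ : ℤ)) (hw' : 0 ≤ w) :
    2 * (gJ : ℤ) - 1 ≤ l := by
  rcases Nat.eq_zero_or_pos δ with hδ | hδ
  · obtain ⟨e1, e2⟩ := h0 hδ
    omega
  rcases hw'.lt_or_eq with hp | hp
  · have h3 : 2 * (2 * (g : ℤ) - 2) * w < 2 * d * w := by nlinarith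
    have h2 : (2 * (g : ℤ) - 2) * (2 * w - δ) < (2 * (g : ℤ) - 2) * (2 * l) := by nlinarith
    have := (mul_lt_mul_iff_of_pos_left (show (0 : ℤ) < 2 * (g : ℤ) - 2 by omega)).1 h2
    omega
  · obtain ⟨e1, e2⟩ : gJ = 0 ∧ δ = 2 := by omega
    subst e1 e2
    rw [← hp] at hb
    push_cast at hb
    have : -1 ≤ l := by nlinarith
    omega

theorem num_va (hg : 2 ≤ g) (hd : 5 * ((g : ℤ) - 1) < d) (hw : w = 2 * (gJ : ℤ) - 2 + (δ : ℤ))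
    (h0 : δ = 0 → gJ = g ∧ l = d)
    (hb : -((2 * (g : ℤ) - 2) * (δ : ℤ)) ≤ 2 * (2 * (g : ℤ) - 2) * l - 2 * d * w ∧
      2 * (2 * (g : ℤ) - 2) * l - 2 * d * w ≤ (2 * (g : ℤ) - 2) * (δ : ℤ)) (hl : 0 < l) :
    2 * (gJ : ℤ) < l := by
  rcases Nat.eq_zero_or_pos δ with hδ | hδ
  · obtain ⟨e1, e2⟩ := h0 hδ
    omega
  have hw' := (num_amp hg (by omega) hw h0 hb hl).1
  rcases hw'.lt_or_eq with hp | hp
  · have h3 : 10 * ((g : ℤ) - 1) * w < 2 * d * w := by nlinarith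
    have h2 : (2 * (g : ℤ) - 2) * (5 * w - δ) < (2 * (g : ℤ) - 2) * (2 * l) := by nlinarith
    have := (mul_lt_mul_iff_of_pos_left (show (0 : ℤ) < 2 * (g : ℤ) - 2 by omega)).1 h2
    omega
  · omega

theorem num_va' (hg : 2 ≤ g) (hd : 3 * ((g : ℤ) - 1) < d) (hd' : 2 * (g : ℤ) < d)
    (hw : w = 2 * (gJ : ℤ) - 2 + (δ : ℤ)) (h0 : δ = 0 → gJ = g ∧ l = d)
    (hb : -((2 * (g : ℤ) - 2) * (δ : ℤ)) ≤ 2 * (2 * (g : ℤ) - 2) * l - 2 * d * w ∧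
      2 * (2 * (g : ℤ) - 2) * l - 2 * d * w ≤ (2 * (g : ℤ) - 2) * (δ : ℤ)) (hl : 0 < l)
    (hno : gJ = 1 → δ = 1 → False) : 2 * (gJ : ℤ) < l := by
  rcases Nat.eq_zero_or_pos δ with hδ | hδ
  · obtain ⟨e1, e2⟩ := h0 hδ
    omega
  have hw' := (num_amp hg (by omega) hw h0 hb hl).1
  rcases hw'.lt_or_eq with hp | hp
  · have h3 : 6 * ((g : ℤ) - 1) * w < 2 * d * w := by nlinarith
    have h2 : (2 * (g : ℤ) - 2) * (3 * w - δ) < (2 * (g : ℤ) - 2) * (2 * l) := by nlinarith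
    have := (mul_lt_mul_iff_of_pos_left (show (0 : ℤ) < 2 * (g : ℤ) - 2 by omega)).1 h2
    by_cases hh : gJ = 1 ∧ δ = 1
    · exact (hno hh.1 hh.2).elim
    omega
  · omega

theorem num_amp' (hg : 2 ≤ g) (hd : 3 * ((g : ℤ) - 1) < d) (hw : w = 2 * (gJ : ℤ) - 2 + (δ : ℤ))
    (h0 : δ = 0 → gJ = g ∧ l = d)
    (hb : -((2 * (g : ℤ) - 2) * (δ : ℤ)) ≤ 2 * (2 * (g : ℤ) - 2) * l - 2 * d * w ∧
      2 * (2 * (g : ℤ) - 2) * l - 2 * d * w ≤ (2 * (g : ℤ) - 2) * (δ : ℤ)) (hw' : 0 ≤ w)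
    (hl : w = 0 → l = 1) : 0 < l := by
  rcases Nat.eq_zero_or_pos δ with hδ | hδ
  · obtain ⟨e1, e2⟩ := h0 hδ
    omega
  rcases hw'.lt_or_eq with hp | hp
  · have h3 : 6 * ((g : ℤ) - 1) * w < 2 * d * w := by nlinarith
    have h2 : (2 * (g : ℤ) - 2) * (3 * w - δ) < (2 * (g : ℤ) - 2) * (2 * l) := by nlinarith
    have := (mul_lt_mul_iff_of_pos_left (show (0 : ℤ) < 2 * (g : ℤ) - 2 by omega)).1 h2
    omega
  · have := hl hp.symm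
    omega

end Groth.Agent.DualMod3
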