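import Groth.Agent.DualMod3.SubNum
import Groth.Agent.Coherent.FlatBaseChangeMain
import Groth.Agent.CurveRR24.BCField
import Groth.Agent.SerreDual.Projective
import Groth.Agent.SerreDual.HomLinear
import Groth.Agent.Desc19b.AmpleQuot

/-!
# Invertible dualizing modules under an extension of the ground field
-/

set_option autoImplicit false
set_option backward.isDefEq.respectTransparency false
set_option linter.style.haveILetI false
set_option maxHeartbeats 1000000

universe u

open CategoryTheory CategoryTheory.Limits AlgebraicGeometry Opposite TopologicalSpace TensorProduct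
open Groth.Agent.Coherent Groth.Agent.PicLib Groth.Agent.AmpleLib

namespace Groth.Agent.DualMod3

variable {X X' : Scheme.{u}}

theorem hhTop_natural {M N : X.Modules} (f : M ⟶ N) (n : ℕ) (y : Coh.HH X M n) :
    HHTopEquiv N n (Sheaf.H.map ((SheafOfModules.toSheaf X.ringCatSheaf).map f) n y) =
      postH (X := X.toTopCat) (F := Coh.toAb M) (G := Coh.toAb N) ((toAbFunctor X).map f) n (⊤ : X.Opens)
        (HHTopEquiv M n y) := by
  obtain ⟨z, rfl⟩ := (H'TopEquiv (X := X.toTopCat) (Coh.toAb M) n).surjective y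
  refine (congrArg (H'TopEquiv (X := X.toTopCat) (Coh.toAb N) n).symm
    (H'TopEquiv_naturality (X := X.toTopCat) ((toAbFunctor X).map f) n z).symm).trans ?_
  refine ((H'TopEquiv (X := X.toTopCat) (Coh.toAb N) n).symm_apply_apply _).trans ?_
  exact congrArg (postH (X := X.toTopCat) (F := Coh.toAb M) (G := Coh.toAb N) ((toAbFunctor X).map f) n (⊤ : X.Opens))
    ((H'TopEquiv (X := X.toTopCat) (Coh.toAb M) n).symm_apply_apply z).symm

variable {k K : Type u} [Field k] [Field K] [Algebra k K]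
  [X.Over (Spec (CommRingCat.of k))] [X'.Over (Spec (CommRingCat.of K))] (g : X' ⟶ X)

/-- Base change of cohomology to a field extension, natural in the module. -/
theorem exists_bcEquiv [CompactSpace X] [QuasiSeparatedSpace X]
    (h : IsPullback g (X' ↘ Spec (CommRingCat.of K)) (X ↘ Spec (CommRingCat.of k))
      (Spec.map (CommRingCat.ofHom (algebraMap k K)))) (q : ℕ) :
    ∃ E : ∀ (M : X.Modules), Coh.IsQCoh M → (K ⊗[k] Coh.HH X M q ≃ₗ[K] Coh.HH X' ((Scheme.Modules.pullback g).obj M) q),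
      ∀ (M N : X.Modules) (hM : Coh.IsQCoh M) (hN : Coh.IsQCoh N) (f : M ⟶ N) (x : Coh.HH X M q),
        Sheaf.H.map ((SheafOfModules.toSheaf X'.ringCatSheaf).map ((Scheme.Modules.pullback g).map f)) q
            (E M hM (1 ⊗ₜ x)) =
          E N hN (1 ⊗ₜ Sheaf.H.map ((SheafOfModules.toSheaf X.ringCatSheaf).map f) q x) := by
  have : IsAffineHom g := MorphismProperty.IsStableUnderBaseChange.of_isPullback
    (P := @IsAffineHom) h.flip inferInstance
  let φ₀ := Coh.toGlobal (X ↘ Spec (CommRingCat.of k))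
  let β₀ := Coh.toGlobal (X' ↘ Spec (CommRingCat.of K))
  have hc : ∀ a, g.appTop (φ₀ a) = β₀ (algebraMap k K a) := appTop_toGlobal g h
  let eM : ∀ M : X.Modules, Coh.HH X M q ≃ₗ[k] HA φ₀ M (⊤ : X.Opens) q := fun M =>
    { (HHLinEquiv M q).toAddEquiv with
      map_smul' := fun a x => (HHLinEquiv M q).map_smul (φ₀ a) x }
  have hq : ∀ M : X.Modules, Coh.IsQCoh M → Coh.IsQCoh (bcSheaf g M) := fun M hM => by
    haveI := hM
    exact EGA43.InjFibre.isQCoh_pullback g M
  let eN : ∀ M : X.Modules, Coh.IsQCoh M → (Coh.HH X' (bcSheaf g M) q ≃+ BCMod g M β₀ (⊤ : X.Opens) q) :=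
    fun M hM =>
      haveI := hq M hM
      (HHTopEquiv (bcSheaf g M) q).trans (H'AffinePushEquiv g (bcSheaf g M) ⊤ q)
  let eN' : ∀ (M : X.Modules) (_ : Coh.IsQCoh M), Coh.HH X' (bcSheaf g M) q ≃ₗ[K] BCMod g M β₀ (⊤ : X.Opens) q :=
    fun M hM =>
    haveI := hq M hM
    { eN M hM with
      map_smul' := fun b x => by
        obtain ⟨z, rfl⟩ := (HHTopEquiv (bcSheaf g M) q).symm.surjective x
        show eN M hM ((β₀ b) • (HHTopEquiv (bcSheaf g M) q).symm z : Coh.HH X' (bcSheaf g M) q) =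
          b • eN M hM ((HHTopEquiv (bcSheaf g M) q).symm z)
        rw [smul_HH_eq]
        simp only [eN, AddEquiv.trans_apply, AddEquiv.apply_symm_apply]
        exact H'PushEquiv_naturality (X := X'.toTopCat) (Y := X.toTopCat) (f := g.base)
          X.isBasis_affineOpens (acyclicOverBasis_affine g (bcSheaf g M))
          (acyclicOverBasis_affine g (bcSheaf g M)) (smulEndAb (bcSheaf g M) (β₀ b)) ⊤ q z }
  let eT : ∀ (M : X.Modules), Coh.IsQCoh M → (K ⊗[k] HA φ₀ M (⊤ : X.Opens) q ≃ₗ[K] BCMod g M β₀ (⊤ : X.Opens) q) :=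
    fun M hM =>
      haveI := hM
      LinearEquiv.ofBijective (bcMap g φ₀ β₀ M hc ⊤ q)
        (bijective_bcMap g φ₀ β₀ M hc (fun U hU => isBCPushout_of_isPullback g h hU)
          (U := ⊤) isCompact_univ q)
  let E : ∀ (M : X.Modules), Coh.IsQCoh M → (K ⊗[k] Coh.HH X M q ≃ₗ[K] Coh.HH X' ((Scheme.Modules.pullback g).obj M) q) :=
    fun M hM => ((LinearEquiv.baseChange k K _ _ (eM M)).trans (eT M hM)).trans (eN' M hM).symm
  refine ⟨E, fun M N hM hN f x => ?_⟩
  haveI := hq M hM
  haveI := hq N hN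
  have hE : ∀ (P : X.Modules) (hP : Coh.IsQCoh P) (y : Coh.HH X P q), eN P hP (E P hP (1 ⊗ₜ y)) =
      postH (X := X.toTopCat) ((toAbFunctor X).map (bcUnit g P)) q (⊤ : X.Opens) (eM P y) := fun P hP y => by
    refine ((eN' P hP).apply_symm_apply _).trans ?_
    show bcMap g φ₀ β₀ P hc ⊤ q (LinearEquiv.baseChange k K _ _ (eM P) (1 ⊗ₜ y)) = _
    rw [LinearEquiv.baseChange_tmul, bcMap, LinearMap.liftBaseChange_tmul, one_smul]
    rfl
  apply (eN N hN).injective
  rw [hE N hN]
  let F' := (Scheme.Modules.pullback g).map f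
  let z := E M hM (1 ⊗ₜ x)
  have h1 : eN N hN (Sheaf.H.map ((SheafOfModules.toSheaf X'.ringCatSheaf).map F') q z) =
      postH (X := X.toTopCat) ((toAbFunctor X).map ((Coh.push g).map F')) q (⊤ : X.Opens) (eN M hM z) := by
    refine (congrArg (H'AffinePushEquiv g (bcSheaf g N) ⊤ q) (hhTop_natural F' q z)).trans ?_
    exact H'PushEquiv_naturality (X := X'.toTopCat) (Y := X.toTopCat) (f := g.base)
      X.isBasis_affineOpens (acyclicOverBasis_affine g (bcSheaf g M))
      (acyclicOverBasis_affine g (bcSheaf g N)) ((toAbFunctor X').map F') ⊤ q _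
  refine h1.trans ?_
  rw [hE M hM x]
  refine (postH_comp (X := X.toTopCat) _ _ q (⊤ : X.Opens) _).symm.trans ?_
  rw [← Functor.map_comp, show bcUnit g M ≫ (Coh.push g).map F' = f ≫ bcUnit g N from
    ((Scheme.Modules.pullbackPushforwardAdjunction g).unit.naturality f).symm, Functor.map_comp]
  refine (postH_comp (X := X.toTopCat) _ _ q (⊤ : X.Opens) _).trans ?_
  exact congrArg (postH (X := X.toTopCat) ((toAbFunctor X).map (bcUnit g N)) q (⊤ : X.Opens))
    (hhTop_natural f q x).symm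

variable [IsProper (X ↘ Spec (CommRingCat.of k))] [IsProper (X' ↘ Spec (CommRingCat.of K))]

/-- An invertible dualizing module stays dualizing after an extension of the field. -/
theorem exists_rep_pullback (h : IsPullback g (X' ↘ Spec (CommRingCat.of K)) (X ↘ Spec (CommRingCat.of k))
      (Spec.map (CommRingCat.ofHom (algebraMap k K)))) {d : ℕ} (hd : topologicalKrullDim X' ≤ d)
    {W : X.Modules} (hW : PicF.IsInvertible W) (t : Coh.HH X W d →ₗ[k] k)
    (hrep : ∀ F : X.Modules, Coh.IsQCoh F → SerreDual.Rep t F)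
    {L : X.Modules} (hL : CohB1.IsAmple L) :
    ∃ t' : Coh.HH X' ((Scheme.Modules.pullback g).obj W) d →ₗ[K] K,
      ∀ F : X'.Modules, Coh.IsQCoh F → SerreDual.Rep t' F := by
  classical
  haveI := EulerLib.isNoetherian_of_proper k (X := X)
  haveI := EulerLib.isNoetherian_of_proper K (X := X')
  haveI : X.IsSeparated := EulerLib.isSeparated_of_proper (X := X) k
  haveI : IsAffineHom g := MorphismProperty.IsStableUnderBaseChange.of_isPullback
    (P := @IsAffineHom) h.flip inferInstance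
  let G := Scheme.Modules.pullback g
  have hL' : CohB1.IsAmple (G.obj L) := AmpleLib.isAmple_pullback_of_isAffineHom g hL
  obtain ⟨W', tW, hW'c, hrep'⟩ := SerreDual.exists_coh_dualizing K hL' hd
  obtain ⟨E, hE⟩ := exists_bcEquiv g h d
  have hWq : Coh.IsQCoh W := isQCoh_of_isInvertible hW
  have hW'i : PicF.IsInvertible (G.obj W) := PicLoc.isInvertible_pullback g hW
  have hGq : ∀ M : X.Modules, PicF.IsInvertible M → Coh.IsQCoh (G.obj M) := fun M hM =>
    isQCoh_of_isInvertible (PicLoc.isInvertible_pullback g hM)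
  -- the functional extending `t`
  let t₁ : Coh.HH X' (G.obj W) d →ₗ[K] K :=
    ((Algebra.linearMap k K ∘ₗ t).liftBaseChange K) ∘ₗ (E W hWq).symm.toLinearMap
  obtain ⟨φ, hφ⟩ := (hrep' (G.obj W) (hGq W hW)).2 t₁
  let C : ∀ M : X.Modules, (G.obj M ⟶ G.obj W) →ₗ[K] (G.obj M ⟶ W') := fun M => Linear.rightComp K (G.obj M) φ
  have key : ∀ (M : X.Modules), PicF.IsInvertible M → Function.Surjective (C M) := fun M hM f' => by
    have hMq : Coh.IsQCoh M := isQCoh_of_isInvertible hM
    haveI := CurveRR24.finite_HH_of_isCoh k (CurveRR24.isCoh_of_isInvertible k hM) d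
    let b := Module.Free.chooseBasis k (Coh.HH X M d)
    choose f hf using fun i => (hrep M hMq).2 (b.coord i)
    let ψ := SerreDual.thetaLin tW (G.obj M) f'
    refine ⟨∑ i, ψ (E M hMq (1 ⊗ₜ b i)) • G.map (f i), ?_⟩
    refine (hrep' (G.obj M) (hGq M hM)).1 ?_
    show SerreDual.thetaLin tW (G.obj M) _ = ψ
    apply LinearMap.ext
    intro y
    obtain ⟨z, rfl⟩ := (E M hMq).surjective y
    revert z
    suffices hz : ∀ j, SerreDual.thetaLin tW (G.obj M) (C M (∑ i, ψ (E M hMq (1 ⊗ₜ b i)) • G.map (f i)))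
        (E M hMq (1 ⊗ₜ b j)) = ψ (E M hMq (1 ⊗ₜ b j)) by
      intro z
      have := (b.baseChange K).ext (f₁ := (SerreDual.thetaLin tW (G.obj M)
          (C M (∑ i, ψ (E M hMq (1 ⊗ₜ b i)) • G.map (f i)))) ∘ₗ (E M hMq).toLinearMap)
        (f₂ := ψ ∘ₗ (E M hMq).toLinearMap) fun j => by
          rw [Module.Basis.baseChange_apply]; exact hz j
      exact LinearMap.congr_fun this z
    intro j
    have h1 : ∀ i, SerreDual.thetaLin tW (G.obj M) (C M (G.map (f i))) (E M hMq (1 ⊗ₜ b j)) =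
        if i = j then 1 else 0 := fun i => by
      show SerreDual.theta tW (G.obj M) (G.map (f i) ≫ φ) (E M hMq (1 ⊗ₜ b j)) = _
      rw [SerreDual.theta_comp, LinearMap.comp_apply, hφ, SerreDual.hmap_eq, hE M W hMq hWq (f i) (b j)]
      show ((Algebra.linearMap k K ∘ₗ t).liftBaseChange K) ((E W hWq).symm ((E W hWq) _)) = _
      rw [LinearEquiv.symm_apply_apply, LinearMap.liftBaseChange_tmul, one_smul]
      show algebraMap k K (t _) = _
      rw [← SerreDual.theta_apply, hf i, b.coord_apply, Module.Basis.repr_self, Finsupp.single_apply]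
      simp only [eq_comm (a := j)]
      split <;> simp
    simp only [map_sum, map_smul, LinearMap.sum_apply, LinearMap.smul_apply, h1, smul_eq_mul, mul_ite,
      mul_one, mul_zero, Finset.sum_ite_eq', Finset.mem_univ, if_true]
  -- injectivity by counting
  have inj : ∀ (M : X.Modules), PicF.IsInvertible M → Function.Injective (C M) := fun M hM => by
    obtain ⟨N, hN, ⟨e⟩⟩ := CurveRR24.exists_inverse k hM
    have hMq : Coh.IsQCoh M := isQCoh_of_isInvertible hM
    have hN' : PicF.IsInvertible (G.obj N) := PicLoc.isInvertible_pullback g hN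
    have hM' : PicF.IsInvertible (G.obj M) := PicLoc.isInvertible_pullback g hM
    obtain ⟨a⟩ := AmpleLib.exists_pullTensorIso g hM hN
    obtain ⟨o⟩ := exists_pullStructureIso (X := X) g
    let e' : CohB1.tensorMod (G.obj M) (G.obj N) ≅ Coh.structureModule X' := a.symm ≪≫ G.mapIso e ≪≫ o
    obtain ⟨a2⟩ := AmpleLib.exists_pullTensorIso g hW hN
    haveI := CurveRR24.finite_HH_of_isCoh k (CurveRR24.isCoh_of_isInvertible k hM) d
    haveI : Module.Finite k (M ⟶ W) := Module.Finite.equiv (SerreDual.dualEquiv t (hrep M hMq)).symm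
    haveI := CurveRR24.finite_HH_of_isCoh K (CurveRR24.isCoh_of_isInvertible K hM') d
    haveI : Module.Finite K (G.obj M ⟶ W') :=
      Module.Finite.equiv (SerreDual.dualEquiv tW (hrep' _ (hGq M hM))).symm
    haveI := CurveRR24.finite_HH_of_isCoh K
      (CurveRR24.isCoh_of_isInvertible K (isInvertible_tensorMod hW'i hN')) 0
    haveI : Module.Finite K (G.obj M ⟶ G.obj W) := by
      let fwd : (G.obj M ⟶ G.obj W) →ₗ[K] Coh.HH X' (CohB1.tensorMod (G.obj W) (G.obj N)) 0 :=
        ((Linear.homCongr K e' (Iso.refl _)).trans (SerreDual.homUnitHH K _)).toLinearMap ∘ₗ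
          SerreDual.tensorRightHom K (G.obj M) (G.obj W) (G.obj N)
      exact Module.Finite.of_injective fwd fun x y hxy => SerreDual.tensorRightHom_injective K _ _ hN'
        (((Linear.homCongr K e' (Iso.refl _)).trans (SerreDual.homUnitHH K _)).injective hxy)
    have d1 : Module.finrank K (G.obj M ⟶ G.obj W) = Module.finrank K (G.obj M ⟶ W') := by
      haveI : Coh.IsQCoh (CohB1.tensorMod W N) := isQCoh_of_isInvertible (isInvertible_tensorMod hW hN)
      haveI := hMq
      rw [← (SerreDual.finrank_hom_eq K (G.obj W) hM' hN' e').2,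
        CurveRR24.finrank_HH_congr K a2.symm 0, CurveRR24.finrank_HH_bc h (CohB1.tensorMod W N) 0,
        (SerreDual.finrank_hom_eq k W hM hN e).2,
        (SerreDual.dualEquiv t (hrep M hMq)).finrank_eq, Subspace.dual_finrank_eq,
        (SerreDual.dualEquiv tW (hrep' _ (hGq M hM))).finrank_eq, Subspace.dual_finrank_eq,
        CurveRR24.finrank_HH_bc h M d]
    exact (LinearMap.injective_iff_surjective_of_finrank_eq_finrank d1).2 (key M hM)
  -- generation by pulled back invertible modules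
  have hgen : ∀ F : X'.Modules, Coh.IsCoh F → ∃ (n : ℕ) (N : Fin n → X'.Modules) (π : ⨁ N ⟶ F), Epi π ∧
      ∀ j, ∃ M : X.Modules, PicF.IsInvertible M ∧ Nonempty (N j ≅ G.obj M) := fun F hF => by
    have hcov : ∀ x : X', ∃ (P : X'.Modules) (a : Γ(P, ⊤)),
        (∃ Q : X.Modules, PicF.IsInvertible Q ∧ P = G.obj Q) ∧ PicF.IsInvertible P ∧
          x ∈ glocus P a ∧ IsAffineOpen (glocus P a) := fun x => by
      obtain ⟨-, -, hc⟩ := isAmple_iff_affGlocus.1 hL
      obtain ⟨r, -, s, hxs, -, hs⟩ := hc (g x)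
      refine ⟨G.obj (CohB1.tensorPow L r), pullSec g (U := ⊤) s,
        ⟨_, AmpleLib.isInvertible_tensorPow hL.1 r, rfl⟩,
        PicLoc.isInvertible_pullback g (AmpleLib.isInvertible_tensorPow hL.1 r), ?_, ?_⟩
      · rw [glocus_pullSec g (AmpleLib.isInvertible_tensorPow hL.1 r)]
        exact hxs
      · rw [glocus_pullSec g (AmpleLib.isInvertible_tensorPow hL.1 r)]
        exact hs.preimage g
    obtain ⟨n, N, π, hπ, hN⟩ := Desc19b.exists_epi_negPow _ hcov F hF
    refine ⟨n, N, π, hπ, fun j => ?_⟩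
    obtain ⟨hNi, P, r, ⟨Q, hQ, rfl⟩, -, ⟨eN⟩⟩ := hN j
    obtain ⟨M, hM, ⟨eM⟩⟩ := CurveRR24.exists_inverse k (AmpleLib.isInvertible_tensorPow hQ r)
    have hQr := AmpleLib.isInvertible_tensorPow hQ r
    obtain ⟨ep⟩ := AmpleLib.exists_pullPowIso g hQ r
    obtain ⟨ea⟩ := AmpleLib.exists_pullTensorIso g hQr hM
    obtain ⟨o⟩ := exists_pullStructureIso (X := X) g
    have hPr : PicF.IsInvertible (G.obj (CohB1.tensorPow Q r)) := PicLoc.isInvertible_pullback g hQr
    obtain ⟨as⟩ := EulerLib.exists_assocIso' (N j) hPr (PicLoc.isInvertible_pullback g hM)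
    let eNQ : CohB1.tensorMod (N j) (G.obj (CohB1.tensorPow Q r)) ≅ Coh.structureModule X' :=
      AmpleLib.tensorIso (Iso.refl (N j)) ep ≪≫ eN
    refine ⟨M, hM, ⟨?_⟩⟩
    exact (tensorComm _ _ ≪≫ unitTensorIso (N j)).symm ≪≫
      AmpleLib.tensorIso (Iso.refl (N j)) (ea.symm ≪≫ G.mapIso eM ≪≫ o).symm ≪≫ as.symm ≪≫
      AmpleLib.tensorIso eNQ (Iso.refl _) ≪≫ unitTensorIso _
  -- the map is an isomorphism
  haveI : Epi φ := by
    obtain ⟨n, N, π, hπ, hN⟩ := hgen W' hW'c
    refine ⟨fun a b hab => ?_⟩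
    rw [← cancel_epi π]
    refine biproduct.hom_ext' _ _ fun j => ?_
    obtain ⟨M, hM, ⟨e⟩⟩ := hN j
    obtain ⟨f, hf⟩ := key M hM (e.inv ≫ biproduct.ι N j ≫ π)
    rw [← cancel_epi e.inv]
    simp only [← Category.assoc]
    have hf' : f ≫ φ = (e.inv ≫ biproduct.ι N j) ≫ π := by rw [Category.assoc]; exact hf
    rw [← hf', Category.assoc, Category.assoc, hab]
  haveI : Mono φ := by
    obtain ⟨n, N, π, hπ, hN⟩ := hgen (kernel φ)
      (isCoh_kernel φ (CurveRR24.isCoh_of_isInvertible K hW'i) hW'c.1)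
    refine Preadditive.mono_of_kernel_zero ?_
    rw [← cancel_epi π, comp_zero]
    refine biproduct.hom_ext' _ _ fun j => ?_
    obtain ⟨M, hM, ⟨e⟩⟩ := hN j
    rw [comp_zero, ← cancel_epi e.inv, comp_zero]
    refine inj M hM ?_
    rw [map_zero]
    show (e.inv ≫ biproduct.ι N j ≫ π ≫ kernel.ι φ) ≫ φ = 0
    simp
  haveI : IsIso φ := isIso_of_mono_of_epi φ
  refine ⟨t₁, fun F hF => ⟨fun a b hab => ?_, fun ψ => ?_⟩⟩
  · rw [← cancel_mono φ]
    refine (hrep' F hF).1 ?_
    rw [SerreDual.theta_comp, SerreDual.theta_comp, hφ]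
    exact hab
  · obtain ⟨f, hf⟩ := (hrep' F hF).2 ψ
    refine ⟨f ≫ inv φ, ?_⟩
    rw [← hf]
    show SerreDual.theta t₁ F (f ≫ inv φ) = _
    conv_rhs => rw [← Category.comp_id f, ← IsIso.inv_hom_id φ, ← Category.assoc, SerreDual.theta_comp, hφ]
    rfl

end Groth.Agent.DualMod3
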