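import Groth.Agent.DualMod3.Vanish
import Groth.Agent.GrSectLib.DenseSubring
import Groth.Agent.DualLib.Gorenstein

/-!
# The rank of the dualizing module at the generic point of an integral curve
-/

set_option autoImplicit false
set_option backward.isDefEq.respectTransparency false
set_option backward.defeqAttrib.useBackward true
set_option linter.style.haveILetI false
set_option maxHeartbeats 1000000

universe u

open CategoryTheory CategoryTheory.Limits AlgebraicGeometry DerivedCategory
open Groth.Agent.Coherent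

attribute [local instance] HasDerivedCategory.standard

namespace Groth.Agent.DualMod3

variable (k : Type u) [Field k] (X : Scheme.{u}) [X.Over (Spec (CommRingCat.of k))]
  [IsProper (X ↘ Spec (CommRingCat.of k))] [IsIntegral X]
  [DCoh.HasRpush (X ↘ Spec (CommRingCat.of k))]
  (h : DCoh.RpushPreservesQCoh (X ↘ Spec (CommRingCat.of k))) [DCoh.HasShriek (X ↘ Spec (CommRingCat.of k)) h]
  (OY : DCoh.DQCoh (Spec (CommRingCat.of k)))
  (hOY : Nonempty (OY.obj ≅ DCoh.inD (Spec (CommRingCat.of k)) (Coh.structureModule (Spec (CommRingCat.of k)))))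

include hOY

/-- The stalk of `ω` at the generic point is a line. -/
theorem exists_smul_eq_generic (hd : topologicalKrullDim X = 1)
    (h0 : Module.finrank k (Coh.HH X (Coh.structureModule X) 0) = 1)
    (a b : (DCoh.dualizingMod (X ↘ Spec (CommRingCat.of k)) h OY 1).presheaf.stalk (genericPoint X)) (ha : a ≠ 0) :
    ∃ r : X.presheaf.stalk (genericPoint X), r • a = b := by
  suffices main : ∀ x : X, x = genericPoint X →
      ∀ a b : (DCoh.dualizingMod (X ↘ Spec (CommRingCat.of k)) h OY 1).presheaf.stalk x, a ≠ 0 →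
        ∃ r : X.presheaf.stalk x, r • a = b from main _ rfl a b ha
  clear ha a b
  intro x hx
  have hfield : IsField (X.presheaf.stalk x) := by
    subst hx
    exact Field.toIsField X.functionField
  haveI : ∀ (U V : Scheme.{u}) (j : U ⟶ V) [IsOpenImmersion j],
      PreservesFiniteLimits (Scheme.Modules.restrictFunctor j) := fun U V j _ =>
    DCat.PullPerf.preservesFiniteLimits_restrict j
  haveI : ∀ (S : CommRingCat.{u}), PreservesFiniteLimits (tilde.functor S) :=
    AffSchLib.preservesFiniteLimits_tilde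
  haveI := EulerLib.isNoetherian_of_proper k (X := X)
  have hnt := nontrivial_stalk_dualizingMod k X h OY hOY hd h0 x
  have hG := DualLib.OmegaStalk.isDualizingSch_over_field k X (X ↘ Spec (CommRingCat.of k)) h _ (DCoh.shriekAdj _ h) OY hOY
  obtain ⟨B, _, j, _, ω, y, hy, hω, ⟨e⟩⟩ := DualLib.OmegaStalk.exists_chart hG x
  haveI := hω.isNoetherianRing
  haveI : PreservesFiniteColimits (tilde.functor (CommRingCat.of B)) :=
    haveI := (tilde.adjunction (R := CommRingCat.of B)).leftAdjoint_preservesColimits
    inferInstance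
  obtain ⟨ν⟩ := DQCoh.nonempty_homology_natIso (tilde.functor (CommRingCat.of B)) (-((1 : ℕ) : ℤ))
  let H := (homologyFunctor (ModuleCat.{u} B) (-((1 : ℕ) : ℤ))).obj ω
  let G := DCoh.dualizingCx (X ↘ Spec (CommRingCat.of k)) h OY
  let eM : (DCoh.HD G (-((1 : ℕ) : ℤ))).restrict j ≅ tilde (R := CommRingCat.of B) H :=
    (DCat.SuppOpen.hdMapIso (Scheme.Modules.restrictFunctor j) _ _).symm ≪≫ (homologyFunctor _ _).mapIso e ≪≫ ν.app _
  obtain ⟨σ, Φ, hΦ⟩ := DualLib.ChartStalk.exists_stalk_semilinear j _ H eM y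
  let B' := Localization.AtPrime y.asIdeal
  have hB' : IsField B' := by
    have h1 : IsField (X.presheaf.stalk (j y)) := by
      rw [hy]
      exact hfield
    exact MulEquiv.isField h1 σ.toMulEquiv
  letI := hB'.toField
  haveI : IsNoetherianRing B' := IsLocalization.isNoetherianRing y.asIdeal.primeCompl B' inferInstance
  haveI : IsRegularLocalRing B' := inferInstance
  obtain ⟨i, hi, ⟨ei⟩⟩ := (DualLib.gorenstein_iff hω y).1 (GrSectLib.gorenstein_of_regular B')
  have hn' : Nontrivial ((DCoh.HD G (-((1 : ℕ) : ℤ))).presheaf.stalk (j y)) := by rw [hy]; exact hnt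
  have hsupp := (Dual22Lib.nontrivial_stalk_iff j e y _).1 hn'
  obtain rfl : i = -((1 : ℕ) : ℤ) := by
    by_contra hne
    exact hi _ (Ne.symm hne) hsupp
  let L : LocalizedModule y.asIdeal.primeCompl H ≃ₗ[B'] B' :=
    LocalizedModule.equivTensorProduct y.asIdeal.primeCompl H ≪≫ₗ ei
  have key : ∀ a b : (DCoh.HD G (-((1 : ℕ) : ℤ))).presheaf.stalk (j y), a ≠ 0 → ∃ r : X.presheaf.stalk (j y), r • a = b := by
    intro a b ha
    refine ⟨σ (L (Φ.symm b) * (L (Φ.symm a))⁻¹), ?_⟩
    apply Φ.symm.injective
    have hne : L (Φ.symm a) ≠ 0 := fun h0' => ha (Φ.symm.injective (L.injective (by rw [h0', map_zero, map_zero])))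
    obtain ⟨a', rfl⟩ := Φ.surjective a
    rw [← hΦ, AddEquiv.symm_apply_apply]
    apply L.injective
    rw [map_smul, smul_eq_mul, AddEquiv.symm_apply_apply]
    rw [AddEquiv.symm_apply_apply] at hne
    rw [mul_assoc, inv_mul_cancel₀ hne, mul_one]
  subst hy
  exact fun a b ha => key a b ha

end Groth.Agent.DualMod3
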