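import Groth.Agent.DualLib.DualizingCoherent
import Groth.Agent.DualLib.Nonvanishing
import Groth.Agent.Dual22Lib.RepLib
import Groth.Agent.DQCoh.AffinePush
import Groth.Agent.DCat.Trunc
import Groth.Prelude.Def_DDual2

/-!
# `DCoh.dualizingMod` is a dualizing module

For `f : X → Spec k` proper with `dim X ≤ d`, the sheaf `H^{-d}` of any object representing
`Hom(Rf_*(-), O)` (in particular `DCoh.dualizingMod f h OY d`), with its trace, is a Serre dualizing pair.
-/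

set_option autoImplicit false
set_option backward.isDefEq.respectTransparency false
set_option backward.defeqAttrib.useBackward true
set_option linter.style.haveILetI false
set_option maxHeartbeats 1000000

universe u

open CategoryTheory CategoryTheory.Limits DerivedCategory AlgebraicGeometry Opposite TopologicalSpace
open Groth.Agent.Coherent Groth.Agent.DCat

attribute [local instance] HasDerivedCategory.standard

namespace Groth.Agent.DualMod3

variable (k : Type u) [Field k]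

/-- The opens of the spectrum of a field. -/
theorem opens_eq (U : (Spec (CommRingCat.of k)).Opens) : U = ⊤ ∨ U = ⊥ := by
  rcases Classical.em (∃ x, x ∈ U) with ⟨x, hx⟩ | h
  · exact Or.inl (eq_top_iff.2 fun y _ => Subsingleton.elim x y ▸ hx)
  · exact Or.inr (eq_bot_iff.2 fun y hy => (h ⟨y, hy⟩).elim)

/-- Maps of modules on the spectrum of a field are seen on global sections. -/
theorem hom_eq_zero_of_top {M N : (Spec (CommRingCat.of k)).Modules} (g : M ⟶ N)
    (h : ∀ y : (freeModOn (Spec (CommRingCat.of k))).obj ⊤ ⟶ M, y ≫ g = 0) : g = 0 := by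
  refine Scheme.Modules.hom_ext _ _ fun U => ConcreteCategory.hom_ext _ _ fun a => ?_
  rcases opens_eq k U with rfl | rfl
  · obtain ⟨y, rfl⟩ := (freeModOnEquiv ⊤ M).surjective a
    rw [← freeModOnEquiv_comp, h y]
    have h0 := freeModOnEquiv_comp ⊤ (0 : (freeModOn (Spec (CommRingCat.of k))).obj ⊤ ⟶ M) (0 : M ⟶ N)
    rw [zero_comp] at h0
    exact h0.trans rfl
  · let F : TopCat.Sheaf Ab (Spec (CommRingCat.of k)) := ⟨N.presheaf, N.isSheaf⟩
    exact TopCat.Presheaf.section_ext F _ _ _ fun x hx => (hx : False).elim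

/-- Every endomorphism of `O` of the base is a scalar. -/
theorem exists_coef : ∃ ℓ : (DualLib.DualCoh.PS k ⟶ DualLib.DualCoh.PS k) →ₗ[k] k,
    ∀ x, x = ℓ x • 𝟙 (DualLib.DualCoh.PS k) := by
  haveI := AffSchLib.preservesFiniteLimits_tilde (CommRingCat.of k)
  have hne : 𝟙 (DualLib.DualCoh.PS k) ≠ 0 := fun h =>
    DualLib.DualCoh.not_isZero_PS k ((IsZero.iff_id_eq_zero _).2 h)
  obtain ⟨L, hL⟩ : ∃ L : Module.Dual k (DualLib.DualCoh.PS k ⟶ DualLib.DualCoh.PS k),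
      L (𝟙 (DualLib.DualCoh.PS k)) ≠ 0 := by
    by_contra hcon
    push Not at hcon
    exact hne ((Module.forall_dual_apply_eq_zero_iff k _).1 hcon)
  let ℓ : (DualLib.DualCoh.PS k ⟶ DualLib.DualCoh.PS k) →ₗ[k] k := (L (𝟙 (DualLib.DualCoh.PS k)))⁻¹ • L
  have h1 : ℓ (𝟙 (DualLib.DualCoh.PS k)) = 1 := by
    simp only [ℓ, LinearMap.smul_apply, smul_eq_mul]
    exact inv_mul_cancel₀ hL
  obtain ⟨φ, hφ⟩ := DualLib.FieldFun.exists_functional (DualLib.DualCoh.PS k)
    (fun i => ((DualLib.DualCoh.isCohD_PS k) i).1) ℓ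
  refine ⟨ℓ, fun x => ?_⟩
  have h := hφ (𝟙 _)
  rw [Category.id_comp, h1, one_smul] at h
  rw [← hφ x, h, Category.comp_id]

/-- A map into `O` killed by all maps from `O` vanishes. -/
theorem eq_zero_of_comp {G : DCoh.D (Spec (CommRingCat.of k))} (hG : DCoh.IsQCohD G) [G.IsLE 0]
    (φ : G ⟶ DualLib.DualCoh.PS k) (h : ∀ x : DualLib.DualCoh.PS k ⟶ G, x ≫ φ = 0) : φ = 0 := by
  haveI : (DualLib.DualCoh.PS k).IsGE 0 := (inferInstance :
    ((singleFunctor (Spec (CommRingCat.of k)).Modules 0).obj ((freeModOn _).obj ⊤)).IsGE 0)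
  haveI : (DualLib.DualCoh.PS k).IsLE 0 := (inferInstance :
    ((singleFunctor (Spec (CommRingCat.of k)).Modules 0).obj ((freeModOn _).obj ⊤)).IsLE 0)
  have h0 : (homologyFunctor (Spec (CommRingCat.of k)).Modules 0).map φ = 0 := by
    refine hom_eq_zero_of_top k _ fun y => ?_
    obtain ⟨z, hz⟩ := (DQCoh.bijective_θ G hG (isAffineOpen_top _)).2 y
    rw [← hz]
    refine ((DQCoh.sec (Spec (CommRingCat.of k))).θ_comp z φ).symm.trans ?_
    rw [h z]
    simp [SiteDer16.Sections.θ]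
  let t₀ := DerivedCategory.TStructure.t (C := (Spec (CommRingCat.of k)).Modules)
  haveI : (t₀.truncLT 0 |>.obj G).IsLE (-1) := t₀.isLE_truncLT_obj _ _ _ (by omega)
  obtain ⟨ψ, hψ⟩ := Pretriangulated.Triangle.yoneda_exact₂ _ (t₀.triangleLTGE_distinguished 0 G) φ
    (t₀.zero (X := (t₀.truncLT 0).obj G) _ (-1) 0 (by omega))
  dsimp at ψ hψ
  haveI : (t₀.truncGE 0 |>.obj G).IsLE 0 := inferInstance
  haveI : Epi ((homologyFunctor (Spec (CommRingCat.of k)).Modules 0).map ((t₀.truncGEπ 0).app G)) :=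
    epi_homology_truncGEπ G 0 0
  have hψ0 : (homologyFunctor (Spec (CommRingCat.of k)).Modules 0).map ψ = 0 := by
    rw [← cancel_epi ((homologyFunctor (Spec (CommRingCat.of k)).Modules 0).map ((t₀.truncGEπ 0).app G)),
      comp_zero, ← Functor.map_comp, ← hψ, h0]
  rw [hψ, DCat.eq_zero_of_homology_map_eq_zero ψ 0 hψ0, comp_zero]

variable {X : Scheme.{u}} [X.Over (Spec (CommRingCat.of k))] [IsProper (X ↘ Spec (CommRingCat.of k))]
  [DCoh.HasRpush (X ↘ Spec (CommRingCat.of k))]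

/-- `Rf_*(M[d])` lives in degrees `≤ 0`. -/
theorem isLE_gS_zero {d : ℕ} (hd : topologicalKrullDim X ≤ d) (M : X.Modules) [Coh.IsQCoh M] :
    (DualLib.DualCoh.gS k M d).IsLE 0 := by
  obtain ⟨_, _⟩ := exists_commShift_Rpush (X ↘ Spec (CommRingCat.of k))
  let w : (DualLib.DualCoh.gS k M d)⟦(1 : ℤ)⟧ ≅ DualLib.DualCoh.gS k M (d + 1) :=
    ((DCoh.Rpush (X ↘ Spec (CommRingCat.of k))).commShiftIso (1 : ℤ)).symm.app _ ≪≫
      (DCoh.Rpush _).mapIso ((shiftFunctorAdd' (DCoh.D X) (d : ℤ) 1 ((d + 1 : ℕ) : ℤ) (by omega)).symm.app _)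
  haveI := DualLib.DualCoh.isLE_gS (k := k) hd M (n := d + 1) (by omega)
  haveI h1 : ((DualLib.DualCoh.gS k M d)⟦(1 : ℤ)⟧).IsLE (-1) :=
    DerivedCategory.TStructure.t.isLE_of_iso w.symm (-1)
  haveI h2 : (((DualLib.DualCoh.gS k M d)⟦(1 : ℤ)⟧)⟦(-1 : ℤ)⟧).IsLE 0 :=
    DerivedCategory.TStructure.t.isLE_shift _ (-1) (-1) 0 (by omega)
  haveI : ((shiftFunctor (DCoh.D (Spec (CommRingCat.of k))) (1 : ℤ) ⋙
      shiftFunctor (DCoh.D (Spec (CommRingCat.of k))) (-1 : ℤ)).obj (DualLib.DualCoh.gS k M d)).IsLE 0 := h2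
  exact DerivedCategory.TStructure.t.isLE_of_iso
    ((shiftFunctorCompIsoId (DCoh.D (Spec (CommRingCat.of k))) (1 : ℤ) (-1) (by omega)).app _) 0

variable (X)

/-- `H^{-d}` of a representing object, with its trace, is a dualizing pair. -/
theorem exists_rep_of_repObj {d : ℕ} (hd : topologicalKrullDim X ≤ d) {A : DCoh.D X}
    (hA : Dual22Lib.RepLib.RepObj (X ↘ Spec (CommRingCat.of k)) (DualLib.DualCoh.PS k) A) :
    ∃ t : Coh.HH X (DCoh.HD A (-(d : ℤ))) d →ₗ[k] k,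
      ∀ F : X.Modules, Coh.IsQCoh F → SerreDual.Rep t F := by
  haveI := EulerLib.isNoetherian_of_proper (k := k) (X := X)
  haveI : X.IsSeparated := EulerLib.isSeparated_of_proper (X := X) k
  haveI := AffSchLib.preservesFiniteLimits_tilde (CommRingCat.of k)
  obtain ⟨_, _⟩ := exists_commShift_Rpush (X ↘ Spec (CommRingCat.of k))
  let R := DCoh.Rpush (X ↘ Spec (CommRingCat.of k))
  haveI hAGE := DualLib.DualCoh.isGE_rep k X hd hA
  obtain ⟨hAq, ε, hε⟩ := hA.out
  obtain ⟨ℓ, hℓ⟩ := exists_coef k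
  obtain ⟨e, he⟩ := DualLib.DualCoh.exists_eLin (k := k) (X := X)
  let A₀ := A⟦(-(d : ℤ))⟧
  haveI : A₀.IsGE 0 := DerivedCategory.TStructure.t.isGE_shift A (-(d : ℤ)) (-(d : ℤ)) 0 (by omega)
  let W := DCoh.HD A (-(d : ℤ))
  haveI : Coh.IsQCoh W := hAq (-(d : ℤ))
  -- the map from `W` to `A₀`
  let t₀ := DerivedCategory.TStructure.t (C := X.Modules)
  haveI : (t₀.truncLT 1 |>.obj A₀).IsLE 0 := t₀.isLE_truncLT_obj _ _ _ (by omega)
  haveI : (t₀.truncLT 1 |>.obj A₀).IsGE 0 := inferInstance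
  haveI hι : IsIso ((homologyFunctor X.Modules 0).map ((t₀.truncLTι 1).app A₀)) := by
    haveI := mono_homology_truncLTι A₀ 1 0
    haveI : Epi ((homologyFunctor X.Modules 0).map ((t₀.truncLTι 1).app A₀)) :=
      (HomologySequence.epi_homologyMap_mor₁_iff _ (t₀.triangleLTGE_distinguished 1 A₀) 0).2
        ((isZero_of_isGE (t₀.truncGE 1 |>.obj A₀) 1 0 (by omega)).eq_of_tgt _ _)
    exact isIso_of_mono_of_epi _
  obtain ⟨M, ⟨eM⟩⟩ := exists_iso_singleFunctor_obj_of_isGE_of_isLE (t₀.truncLT 1 |>.obj A₀) 0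
  let w : M ≅ W := ((singleFunctorCompHomologyFunctorIso X.Modules 0).app M).symm ≪≫
    (homologyFunctor X.Modules 0).mapIso eM.symm ≪≫ asIso ((homologyFunctor X.Modules 0).map ((t₀.truncLTι 1).app A₀)) ≪≫
    DualLib.Nonvanish.hdShift A (-(d : ℤ))
  let ι₀ : (singleFunctor X.Modules 0).obj W ⟶ A₀ :=
    (singleFunctor X.Modules 0).map w.inv ≫ eM.inv ≫ (t₀.truncLTι 1).app A₀
  haveI hι₀ : IsIso ((homologyFunctor X.Modules 0).map ι₀) := by
    simp only [ι₀, Functor.map_comp]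
    infer_instance
  -- `Hom(F, W) = Hom(F[0], A₀)`
  have hB : ∀ F : X.Modules, Function.Bijective
      fun g : F ⟶ W => (singleFunctor X.Modules 0).map g ≫ ι₀ := fun F => by
    refine ⟨fun g g' hgg => ?_, fun y => ?_⟩
    · have h1 := congrArg ((homologyFunctor X.Modules 0).map) hgg
      simp only [Functor.map_comp, cancel_mono] at h1
      have hn := fun q : F ⟶ W => NatIso.naturality_1 (singleFunctorCompHomologyFunctorIso X.Modules 0) q
      dsimp at hn
      rw [← hn g, ← hn g', h1]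
    · obtain ⟨y', hy'⟩ := Pretriangulated.Triangle.coyoneda_exact₂ _ (t₀.triangleLTGE_distinguished 1 A₀) y
        (t₀.zero _ 0 1 (by omega))
      dsimp at y' hy'
      obtain ⟨g, hg⟩ := (singleFunctor X.Modules 0).map_surjective (y' ≫ eM.hom)
      refine ⟨g ≫ w.hom, ?_⟩
      simp only [ι₀, ← Functor.map_comp_assoc, Category.assoc, Iso.hom_inv_id, Category.comp_id, hg,
        Iso.hom_inv_id_assoc]
      exact hy'.symm
  -- `Hom(F[0], A₀) = Hom(F[d], A)`
  let c := (shiftFunctorCompIsoId (DCoh.D X) (-(d : ℤ)) (d : ℤ) (by omega)).hom.app A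
  let η : ((singleFunctor X.Modules 0).obj W)⟦(d : ℤ)⟧ ⟶ A := ι₀⟦(d : ℤ)⟧' ≫ c
  let ψ : DualLib.DualCoh.gS k W d ⟶ DualLib.DualCoh.PS k := R.map η ≫ ε
  let t : Coh.HH X W d →ₗ[k] k := ℓ ∘ₗ
    (Linear.rightComp k (DualLib.DualCoh.PS k) ψ) ∘ₗ (e W d).symm.toLinearMap
  refine ⟨t, fun F hF => ?_⟩
  haveI := hF
  have key : ∀ (g : F ⟶ W) (x : DualLib.DualCoh.PS k ⟶ DualLib.DualCoh.gS k F d),
      SerreDual.theta t F g (e F d x) =
        ℓ (x ≫ R.map ((((singleFunctor X.Modules 0).map g) ≫ ι₀)⟦(d : ℤ)⟧' ≫ c) ≫ ε) := fun g x => by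
    rw [SerreDual.theta_apply, ← he F W g d x]
    show ℓ (((e W d).symm (e W d (x ≫ R.map (((singleFunctor X.Modules 0).map g)⟦(d : ℤ)⟧')))) ≫ ψ) = _
    rw [LinearEquiv.symm_apply_apply]
    simp only [ψ, η, Category.assoc, Functor.map_comp]
  have hq : DCoh.IsQCohD (((singleFunctor X.Modules 0).obj F)⟦(d : ℤ)⟧) :=
    DQCoh.isQCohD_shift (FlatBC14.isQCohD_inD F) _
  constructor
  · intro g g' hgg
    apply (hB F).1
    apply (shiftFunctor (DCoh.D X) (d : ℤ)).map_injective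
    refine (cancel_mono c).1 ((hε _ hq).1 ?_)
    haveI := isLE_gS_zero k (X := X) hd F
    refine sub_eq_zero.1 (eq_zero_of_comp k (DualLib.DualCoh.isQCohD_gS F d) _ fun x => ?_)
    rw [Preadditive.comp_sub, sub_eq_zero]
    have h12 := (key g x).symm.trans ((LinearMap.congr_fun hgg (e F d x)).trans (key g' x))
    exact (hℓ _).trans ((congrArg (fun a : k => a • 𝟙 (DualLib.DualCoh.PS k)) h12).trans (hℓ _).symm)
  · intro Λ
    obtain ⟨φ, hφ⟩ := DualLib.FieldFun.exists_functional (DualLib.DualCoh.gS k F d)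
      (DualLib.DualCoh.isQCohD_gS F d) (Λ ∘ₗ (e F d).toLinearMap)
    obtain ⟨y, hy⟩ := (hε _ hq).2 φ
    obtain ⟨y₀, hy₀⟩ := (shiftFunctor (DCoh.D X) (d : ℤ)).map_surjective
      (y ≫ (shiftFunctorCompIsoId (DCoh.D X) (-(d : ℤ)) (d : ℤ) (by omega)).inv.app A)
    obtain ⟨g, hg⟩ := (hB F).2 y₀
    refine ⟨g, LinearMap.ext fun z => ?_⟩
    obtain ⟨x, rfl⟩ := (e F d).surjective z
    rw [key]
    have hgc : (((singleFunctor X.Modules 0).map g) ≫ ι₀)⟦(d : ℤ)⟧' ≫ c = y := by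
      rw [show (singleFunctor X.Modules 0).map g ≫ ι₀ = y₀ from hg, hy₀, Category.assoc,
        Iso.inv_hom_id_app]
      exact Category.comp_id y
    rw [hgc]
    have hy' : R.map y ≫ ε = φ := hy
    rw [hy']
    have h1 := hℓ (x ≫ φ)
    have h2 := hφ x
    have h3 : (ℓ (x ≫ φ) - (Λ ∘ₗ (e F d).toLinearMap) x) • 𝟙 (DualLib.DualCoh.PS k) = 0 := by
      rw [sub_smul, ← h1, ← h2, sub_self]
    exact sub_eq_zero.1 (DualLib.DualCoh.eq_zero_of_smul_id h3)

end Groth.Agent.DualMod3
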