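import Groth.Agent.CurveRR24.VeryAmple
import Groth.Agent.EmbLib24.Criterion
import Groth.Agent.AmpleLib.FTIdeal
import Groth.Agent.SerreDual.Trace

/-!
# Very ampleness on singular curves from `H¹(I ⊗ L) = 0` for ideals of colength at most two
-/

set_option autoImplicit false
set_option backward.isDefEq.respectTransparency false
set_option linter.style.haveILetI false
set_option maxHeartbeats 1000000

universe u

open CategoryTheory CategoryTheory.Limits AlgebraicGeometry TopologicalSpace Opposite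
open Groth.Agent.Coherent Groth.Agent.PicLib Groth.Agent.AmpleLib Groth.Agent.EulerLib Groth.Agent.CurveRR24

namespace Groth.Agent.DualMod3

variable {X : Scheme.{u}}

/-- A section on an open meeting the support in a point, extended by zero. -/
theorem exists_glue_point {N : X.Modules} {T : Set X} (hN : CohB1.support N ⊆ T) {V : X.Opens} {x : X}
    (hx : IsClosed ({x} : Set X)) (hVT : ∀ y ∈ V, y ∈ T → y = x) (τ : Γ(N, V)) :
    ∃ z : Γ(N, ⊤), resM N (le_top : V ≤ ⊤) z = τ ∧
      ∀ O : X.Opens, x ∉ O → resM N (le_top : O ≤ ⊤) z = 0 := by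
  let B : X.Opens := ⟨({x} : Set X)ᶜ, hx.isOpen_compl⟩
  have hsub : ∀ W : X.Opens, W ≤ V → W ≤ B → Subsingleton Γ(N, W) := fun W h1 h2 =>
    subsingleton_sections_of_disjoint N W (Set.disjoint_left.2 fun y hy hys => h2 hy (hVT y (h1 hy) (hN hys)))
  let cov : ULift.{u} Bool → X.Opens := fun b => if b.down then V else B
  let sf : ∀ b, Γ(N, cov b) := fun b => match b with
    | ⟨true⟩ => τ
    | ⟨false⟩ => 0
  by_cases hxV : x ∈ V
  · obtain ⟨g, hg, -⟩ := TopCat.Sheaf.existsUnique_gluing' ⟨N.presheaf, N.isSheaf⟩ cov ⊤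
      (fun b => homOfLE le_top)
      (fun y _ => by
        by_cases hy : y = x
        · exact Opens.mem_iSup.2 ⟨⟨true⟩, hy ▸ hxV⟩
        · exact Opens.mem_iSup.2 ⟨⟨false⟩, hy⟩)
      sf (fun a b => by
        obtain ⟨a⟩ := a
        obtain ⟨b⟩ := b
        cases a <;> cases b
        · rfl
        · exact (hsub _ inf_le_right inf_le_left).elim _ _
        · exact (hsub _ inf_le_left inf_le_right).elim _ _
        · rfl)
    refine ⟨g, hg ⟨true⟩, fun O hO => ?_⟩
    have hOB : O ≤ B := fun y hy hyx => hO (Set.mem_singleton_iff.1 hyx ▸ hy)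
    rw [← resM_resM N (le_top : B ≤ ⊤) hOB g, show resM N (le_top : B ≤ ⊤) g = 0 from hg ⟨false⟩, map_zero]
  · refine ⟨0, ?_, fun O _ => map_zero _⟩
    rw [map_zero]
    exact (hsub V le_rfl fun y hy hyx => hxV (Set.mem_singleton_iff.1 hyx ▸ hy)).elim _ _

variable (k : Type u) [Field k] [X.Over (Spec (CommRingCat.of k))]

include k in
/-- Lifting a germ modulo an ideal with `H¹(I ⊗ L) = 0`. -/
theorem exists_section_lift {L : X.Modules} (hL : PicF.IsInvertible L) (I : X.IdealSheafData)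
    (h1 : Subsingleton (Coh.HH X (CohB1.tensorMod (ClSub.idealMod I) L) 1))
    {x : X} (hx : IsClosed ({x} : Set X)) {V : X.Opens} (hxV : x ∈ V)
    (hVI : ∀ y ∈ V, y ∈ (I.support : Set X) → y = x) (v : Γ(L, V))
    (J : Ideal (X.presheaf.stalk x))
    (hJ : ∀ (W : X.Opens) (f : Γ(X, W)) (hxW : x ∈ W), I.subschemeι.app W f = 0 → X.presheaf.germ W x hxW f ∈ J) :
    ∃ s : Γ(L, ⊤),
      L.presheaf.germ ⊤ x trivial s - L.presheaf.germ V x hxV v ∈ J • (⊤ : Submodule (X.presheaf.stalk x) (L.presheaf.stalk x)) ∧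
      ∀ y ∈ (I.support : Set X), y ≠ x → L.presheaf.germ ⊤ y trivial s ∈
        IsLocalRing.maximalIdeal (X.presheaf.stalk y) • (⊤ : Submodule (X.presheaf.stalk y) (L.presheaf.stalk y)) := by
  let S := twistSeq (ShortComplex.mk (ClSub.idealModι I) (ClSub.toSubscheme I) (kernel.condition _)) L
  have hS : S.ShortExact := twistSeq_shortExact hL (shortExact_ideal I)
  have hsupp : CohB1.support S.X₃ ⊆ (I.support : Set X) :=
    (support_twist hL (ClSub.quotMod I)).subset.trans (support_quotMod_subset I)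
  let e : S.X₂ ≅ L := unitTensorIso L
  let v' : Γ(S.X₂, V) := e.inv.app V v
  obtain ⟨z, hzV, hzO⟩ := exists_glue_point hsupp hx hVI (S.g.app V v')
  obtain ⟨w, hw⟩ := SerreDual.hmap_surjective_of_shortExact k hS 0 h1 ((hhZero k S.X₃).symm z)
  let s' : Γ(S.X₂, ⊤) := hhZero k S.X₂ w
  have hs' : S.g.app ⊤ s' = z := by
    have h2 := congrArg (hhZero k S.X₃) hw
    rw [LinearEquiv.apply_symm_apply] at h2
    refine Eq.trans ?_ h2
    rw [SerreDual.hmap_eq]
    show S.g.app ⊤ (secA (baseHom k X) S.X₂ (HHBaseEquiv k S.X₂ 0 w)) =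
      secA (baseHom k X) S.X₃ (HHBaseEquiv k S.X₃ 0 _)
    rw [SerreDual.hhBaseEquiv_natural k S.g 0 w, secA_natural]
    rfl
  let s : Γ(L, ⊤) := e.hom.app ⊤ s'
  -- sections killed by `S.g` are products with the ideal
  have key : ∀ (W : X.Opens) (u : Γ(S.X₂, W)), S.g.app W u = 0 → ∀ (y : X) (hy : y ∈ W) (J' : Ideal (X.presheaf.stalk y)),
      (∀ (W' : X.Opens) (f : Γ(X, W')) (hyW : y ∈ W'), I.subschemeι.app W' f = 0 → X.presheaf.germ W' y hyW f ∈ J') →
      L.presheaf.germ W y hy (e.hom.app W u) ∈ J' • (⊤ : Submodule (X.presheaf.stalk y) (L.presheaf.stalk y)) := by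
    intro W u hu y hy J' hJ'
    haveI := hS.mono_f
    obtain ⟨a, ha⟩ : ∃ a, S.f.app W a = u := by
      obtain ⟨a', ha'⟩ := kernel_sections_exact S.g (U := W) u hu
      refine ⟨(hS.exact.lift (kernel.ι S.g) (kernel.condition _)).app W a', ?_⟩
      refine Eq.trans ?_ ha'
      exact congrArg (fun φ => φ.app W a') (hS.exact.lift_f (kernel.ι S.g) (kernel.condition _))
    obtain ⟨U, hyU, g, hg⟩ := exists_isGen hL y
    obtain ⟨b, hb⟩ := (bijective_tmul_gen (M := ClSub.idealMod I) hg (W ⊓ U) inf_le_right).2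
      (resM S.X₁ (inf_le_left : W ⊓ U ≤ W) a)
    have hu' : resM L (inf_le_left : W ⊓ U ≤ W) (e.hom.app W u) =
        (show Γ(X, W ⊓ U) from (ClSub.idealModι I).app (W ⊓ U) b) • resM L inf_le_right g := by
      rw [← ha, ← app_resM, ← app_resM, ← hb]
      exact twistMul_tmul I (L := L) (W ⊓ U) b _
    rw [← TopCat.Presheaf.germ_res_apply L.presheaf (homOfLE (inf_le_left : W ⊓ U ≤ W)) y ⟨hy, hyU⟩]
    show L.presheaf.germ (W ⊓ U) y ⟨hy, hyU⟩ (resM L inf_le_left (e.hom.app W u)) ∈ _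
    rw [hu', QCohLoc.germ_smul']
    exact Submodule.smul_mem_smul (hJ' _ _ _ (kernel_ι_app_zero (ClSub.toSubscheme I) (W ⊓ U) b)) Submodule.mem_top
  have hid : ∀ (W : X.Opens) (r : Γ(L, W)), e.hom.app W (e.inv.app W r) = r := fun W r =>
    congrArg (fun φ => φ.app W r) e.inv_hom_id
  refine ⟨s, ?_, fun y hy hyx => ?_⟩
  · have h3 := key V (resM S.X₂ le_top s' - v') (by rw [map_sub, app_resM, hs', hzV, sub_self]) x hxV J hJ
    rw [map_sub, app_resM, map_sub] at h3
    rw [hid V v] at h3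
    rwa [show L.presheaf.germ V x hxV (resM L (le_top : V ≤ ⊤) s) = L.presheaf.germ ⊤ x trivial s from
      TopCat.Presheaf.germ_res_apply L.presheaf (homOfLE (le_top (a := V))) x hxV s] at h3
  · let O : X.Opens := ⟨({x} : Set X)ᶜ, hx.isOpen_compl⟩
    have h3 := key O (resM S.X₂ le_top s') (by rw [app_resM, hs', hzO O fun h => h rfl]) y hyx
      (IsLocalRing.maximalIdeal _) fun W' f hyW hf => by
        intro hu
        obtain ⟨c, hc⟩ := (mem_range_idealModι I W' f).2 hf
        exact basicOpen_idealModι_le (I := I) W' c (show y ∈ X.basicOpen _ by rw [hc]; exact (X.mem_basicOpen f y hyW).2 hu) hy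
    rw [app_resM] at h3
    rwa [show L.presheaf.germ O y hyx (resM L (le_top : O ≤ ⊤) s) = L.presheaf.germ ⊤ y trivial s from
      TopCat.Presheaf.germ_res_apply L.presheaf (homOfLE (le_top (a := O))) y hyx s] at h3

/-- A bound for the sections of a quotient. -/
theorem finrank_h0_le_of_span (N : X.Modules) {n : ℕ} (e : Fin n → Γ(N, ⊤))
    (he : ∀ t : Γ(N, ⊤), ∃ c : Fin n → k, t = ∑ i, baseHom k X (c i) • e i) :
    Module.finrank k (Coh.HH X N 0) ≤ n := by
  rw [(hhZero k N).finrank_eq]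
  let F : (Fin n → k) →ₗ[k] GA (baseHom k X) N :=
    Fintype.linearCombination k (fun i => (show GA (baseHom k X) N from e i))
  have hF : Function.Surjective F := fun t => by
    obtain ⟨c, hc⟩ := he t
    exact ⟨c, (Fintype.linearCombination_apply k _ c).trans hc.symm⟩
  exact (LinearMap.finrank_le_finrank_of_surjective hF).trans (by simp)

variable [IsAlgClosed k] [IsProper (X ↘ Spec (CommRingCat.of k))]

theorem exists_scalar_sub_mem {P : X} (hP : IsClosed ({P} : Set X)) (r : X.presheaf.stalk P) :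
    ∃ c : k, r - X.presheaf.germ ⊤ P trivial (baseHom k X c) ∈ IsLocalRing.maximalIdeal (X.presheaf.stalk P) := by
  letI := Curv2.resAlgebra k X P
  haveI := finite_resField hP k
  obtain ⟨c, hc⟩ := (IsAlgClosed.algebraMap_bijective_of_isIntegral (k := k) (K := X.residueField P)).2 (X.residue P r)
  refine ⟨c, (IsLocalRing.residue_eq_zero_iff _).1 ?_⟩
  show X.residue P (r - X.presheaf.germ ⊤ P trivial (baseHom k X c)) = 0
  rw [map_sub, sub_eq_zero]
  exact hc.symm

theorem h0_quot_inf_ptIdeal_le {P Q : X} (hP : IsClosed ({P} : Set X)) (hQ : IsClosed ({Q} : Set X)) :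
    Module.finrank k (Coh.HH X (ClSub.quotMod (ptIdeal P hP ⊓ ptIdeal Q hQ)) 0) ≤ 2 := by
  haveI := isNoetherian_of_proper k (X := X)
  let I := ptIdeal P hP ⊓ ptIdeal Q hQ
  have hsupp : CohB1.support (ClSub.quotMod I) ⊆ ({P, Q} : Set X) := by
    refine (support_quotMod_subset I).trans fun y hy => ?_
    by_contra hy'
    simp only [Set.mem_insert_iff, Set.mem_singleton_iff, not_or] at hy'
    let O : X.Opens := ⟨({P} ∪ {Q} : Set X)ᶜ, (hP.union hQ).isOpen_compl⟩
    obtain ⟨U, hU, hyU, hUO⟩ := exists_isAffineOpen_mem_and_subset (x := y) (U := O) (by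
      rintro (h | h)
      · exact hy'.1 h
      · exact hy'.2 h)
    have h1 : (1 : Γ(X, U)) ∈ I.ideal ⟨U, hU⟩ :=
      ⟨(mem_ptIdeal_iff hP ⟨U, hU⟩ _).2 fun h => hUO (X.basicOpen_le _ h) (Or.inl rfl),
        (mem_ptIdeal_iff hQ ⟨U, hU⟩ _).2 fun h => hUO (X.basicOpen_le _ h) (Or.inr rfl)⟩
    have h2 := (I.supportSet_subset_zeroLocus ⟨U, hU⟩) hy
    rw [Scheme.mem_zeroLocus_iff] at h2
    exact h2 1 h1 (by rw [Scheme.basicOpen_of_isUnit _ isUnit_one]; exact hyU)
  have hnb : ∀ R ∈ ({P, Q} : Set X), ∃ V : X.Opens, IsAffineOpen V ∧ R ∈ V ∧ ∀ y ∈ V, y ∈ ({P, Q} : Set X) → y = R := by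
    intro R hR
    have hc : IsClosed (({P, Q} : Set X) \ {R}) := by
      have hfin : (({P, Q} : Set X) \ {R}).Finite := (Set.toFinite _)
      rw [← Set.biUnion_of_singleton (({P, Q} : Set X) \ {R})]
      refine hfin.isClosed_biUnion fun y hy => ?_
      rcases hy.1 with h | h
      · exact (show y = P from h) ▸ hP
      · exact (show y = Q from h) ▸ hQ
    obtain ⟨V, hV, hRV, hVO⟩ := exists_isAffineOpen_mem_and_subset (x := R) (U := ⟨_, hc.isOpen_compl⟩)
      (fun h => h.2 rfl)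
    exact ⟨V, hV, hRV, fun y hy hy' => by_contra fun hne => hVO hy ⟨hy', hne⟩⟩
  obtain ⟨VP, hVP, hPV, hPu⟩ := hnb P (Or.inl rfl)
  obtain ⟨VQ, hVQ, hQV, hQu⟩ := hnb Q (Or.inr rfl)
  obtain ⟨eP, heP, heP0⟩ := exists_glue_point hsupp hP hPu ((ClSub.toSubscheme I).app VP (show Γ(Coh.structureModule X, VP) from (1 : Γ(X, VP))))
  obtain ⟨eQ, heQ, heQ0⟩ := exists_glue_point hsupp hQ hQu ((ClSub.toSubscheme I).app VQ (show Γ(Coh.structureModule X, VQ) from (1 : Γ(X, VQ))))
  refine finrank_h0_le_of_span k _ ![eP, eQ] fun t => ?_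
  -- the value near a point
  have hloc : ∀ (R : X) (hR : IsClosed ({R} : Set X)) (V : X.Opens), IsAffineOpen V → R ∈ V →
      (∀ y ∈ V, y ∈ ({P, Q} : Set X) → y = R) →
      ∃ c : k, resM _ (le_top : V ≤ ⊤) t =
        X.presheaf.map (homOfLE (le_top (a := V))).op (baseHom k X c) •
          (ClSub.toSubscheme I).app V (show Γ(Coh.structureModule X, V) from (1 : Γ(X, V))) := by
    intro R hR V hV hRV hu
    obtain ⟨f, hf⟩ := I.subschemeι_app_surjective ⟨V, hV⟩ (resM _ (le_top : V ≤ ⊤) t)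
    obtain ⟨c, hc⟩ := exists_scalar_sub_mem k hR (X.presheaf.germ V R hRV f)
    let cV : Γ(X, V) := X.presheaf.map (homOfLE (le_top (a := V))).op (baseHom k X c)
    refine ⟨c, ?_⟩
    have hmem : ∀ (R' : X) (hR' : IsClosed ({R'} : Set X)), R' ∈ ({P, Q} : Set X) → f - cV ∈ (ptIdeal R' hR').ideal ⟨V, hV⟩ := by
      intro R' hR' hR'm
      refine (mem_ptIdeal_iff hR' ⟨V, hV⟩ _).2 fun h => ?_
      obtain rfl := hu R' (X.basicOpen_le _ h) hR'm
      rw [X.mem_basicOpen _ R' hRV, map_sub,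
        TopCat.Presheaf.germ_res_apply X.presheaf (homOfLE (le_top (a := V))) R' hRV] at h
      exact hc h
    have h0 : (ClSub.toSubscheme I).app V (show Γ(Coh.structureModule X, V) from (f - cV : Γ(X, V))) = 0 := by
      have : f - cV ∈ I.ideal ⟨V, hV⟩ := ⟨hmem P hP (Or.inl rfl), hmem Q hQ (Or.inr rfl)⟩
      rw [← I.ker_subschemeι_app ⟨V, hV⟩] at this
      exact this
    rw [← Scheme.Modules.Hom.app_smul, ← hf]
    show (ClSub.toSubscheme I).app V (show Γ(Coh.structureModule X, V) from f) =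
      (ClSub.toSubscheme I).app V (show Γ(Coh.structureModule X, V) from (cV * (1 : Γ(X, V)) : Γ(X, V)))
    rw [mul_one]
    exact sub_eq_zero.1 ((map_sub ((ClSub.toSubscheme I).app V).hom _ _).symm.trans h0)
  obtain ⟨c, hc⟩ := hloc P hP VP hVP hPV hPu
  let O : X.Opens := ⟨({P} : Set X)ᶜ, hP.isOpen_compl⟩
  by_cases hPQ : Q = P
  · refine ⟨![c, 0], ?_⟩
    simp only [Fin.sum_univ_two, Matrix.cons_val_zero, Matrix.cons_val_one, map_zero, zero_smul, add_zero]
    refine TopCat.Presheaf.section_ext (⟨(ClSub.quotMod I).presheaf, (ClSub.quotMod I).isSheaf⟩ : TopCat.Sheaf Ab X)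
      ⊤ _ _ fun y _ => ?_
    by_cases hy : y = P
    · subst hy
      rw [← TopCat.Presheaf.germ_res_apply _ (homOfLE (le_top (a := VP))) y hPV,
        ← TopCat.Presheaf.germ_res_apply _ (homOfLE (le_top (a := VP))) y hPV]
      refine congrArg _ ?_
      show resM _ (le_top : VP ≤ ⊤) t = resM _ (le_top : VP ≤ ⊤) (baseHom k X c • eP)
      rw [hc, resM_smul, heP]
    · exact (not_not.1 fun hne => by
        rcases hsupp hne with h | h
        · exact hy h
        · exact hy ((show y = Q from h).trans hPQ) : Subsingleton ((ClSub.quotMod I).presheaf.stalk y)).elim _ _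
  obtain ⟨d, hd⟩ := hloc Q hQ VQ hVQ hQV hQu
  refine ⟨![c, d], ?_⟩
  simp only [Fin.sum_univ_two, Matrix.cons_val_zero, Matrix.cons_val_one]
  refine TopCat.Presheaf.section_ext (⟨(ClSub.quotMod I).presheaf, (ClSub.quotMod I).isSheaf⟩ : TopCat.Sheaf Ab X)
    ⊤ _ _ fun y _ => ?_
  by_cases hy : y = P
  · subst hy
    rw [← TopCat.Presheaf.germ_res_apply _ (homOfLE (le_top (a := VP))) y hPV,
      ← TopCat.Presheaf.germ_res_apply _ (homOfLE (le_top (a := VP))) y hPV]
    refine congrArg _ ?_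
    show resM _ (le_top : VP ≤ ⊤) t = resM _ (le_top : VP ≤ ⊤) (baseHom k X c • eP + baseHom k X d • eQ)
    rw [map_add, resM_smul, resM_smul, heP,
      heQ0 VP fun h => hPQ (hPu Q h (Or.inr rfl)), smul_zero, add_zero, hc]
  by_cases hy' : y = Q
  · subst hy'
    rw [← TopCat.Presheaf.germ_res_apply _ (homOfLE (le_top (a := VQ))) y hQV,
      ← TopCat.Presheaf.germ_res_apply _ (homOfLE (le_top (a := VQ))) y hQV]
    refine congrArg _ ?_
    show resM _ (le_top : VQ ≤ ⊤) t = resM _ (le_top : VQ ≤ ⊤) (baseHom k X c • eP + baseHom k X d • eQ)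
    rw [map_add, resM_smul, resM_smul, heQ,
      heP0 VQ fun h => hy (hQu P h (Or.inl rfl)).symm, smul_zero, zero_add, hd]
  exact (not_not.1 fun hne => (hsupp hne).elim hy hy' :
    Subsingleton ((ClSub.quotMod I).presheaf.stalk y)).elim _ _

/-- An ideal between `m_P²` and `m_P` on a stalk, as an ideal sheaf. -/
theorem exists_stalkIdeal {P : X} (hP : IsClosed ({P} : Set X)) (J : Ideal (X.presheaf.stalk P))
    (hJ : J ≤ IsLocalRing.maximalIdeal _) (hJ2 : IsLocalRing.maximalIdeal (X.presheaf.stalk P) ^ 2 ≤ J) :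
    ∃ I : X.IdealSheafData,
      (∀ (U : X.affineOpens) (f : Γ(X, U)), f ∈ I.ideal U ↔ ∀ h : P ∈ U.1, X.presheaf.germ U P h f ∈ J) ∧
      (I.support : Set X) ⊆ {P} ∧
      ∀ (W : X.Opens) (f : Γ(X, W)) (hW : P ∈ W), I.subschemeι.app W f = 0 → X.presheaf.germ W P hW f ∈ J := by
  classical
  let id' : ∀ U : X.affineOpens, Ideal Γ(X, U) := fun U =>
    if h : P ∈ U.1 then J.comap (X.presheaf.germ U.1 P h).hom else ⊤
  have hid : ∀ (U : X.affineOpens) (f : Γ(X, U)), f ∈ id' U ↔ ∀ h : P ∈ U.1, X.presheaf.germ U P h f ∈ J := by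
    intro U f
    by_cases h : P ∈ U.1
    · simp only [id', dif_pos h, Ideal.mem_comap]
      exact ⟨fun h' _ => h', fun h' => h' h⟩
    · simp only [id', dif_neg h, Submodule.mem_top, true_iff]
      exact fun h' => absurd h' h
  let I : X.IdealSheafData :=
    { ideal := id'
      map_ideal_basicOpen := fun U f => by
        let D := X.affineBasicOpen f
        let ρ := (X.presheaf.map (homOfLE <| X.basicOpen_le f).op).hom
        letI := ρ.toAlgebra
        haveI : IsLocalization.Away f Γ(X, X.basicOpen f) := U.2.isLocalization_of_eq_basicOpen f _ rfl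
        refine le_antisymm (Ideal.map_le_iff_le_comap.2 fun a ha => (hid D _).2 fun h => ?_) fun b hb => ?_
        · rw [show X.presheaf.germ D.1 P h (ρ a) = X.presheaf.germ U P (X.basicOpen_le f h) a from
            TopCat.Presheaf.germ_res_apply X.presheaf (homOfLE (X.basicOpen_le f)) P h a]
          exact (hid U a).1 ha _
        · obtain ⟨⟨a, ⟨_, n, rfl⟩⟩, hab⟩ := IsLocalization.surj (M := Submonoid.powers f) (S := Γ(X, X.basicOpen f)) b
          have hu : IsUnit (ρ f) := IsLocalization.map_units (S := Γ(X, X.basicOpen f)) ⟨f, Submonoid.mem_powers f⟩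
          have ha : f ^ 2 * a ∈ id' U := (hid U _).2 fun h => by
            rw [map_mul, map_pow]
            by_cases hPD : P ∈ D.1
            · refine J.mul_mem_left _ ?_
              have h2 : X.presheaf.germ U P h a = X.presheaf.germ D.1 P hPD (ρ a) :=
                (TopCat.Presheaf.germ_res_apply X.presheaf (homOfLE (X.basicOpen_le f)) P hPD a).symm
              rw [h2, show ρ a = b * ρ (f ^ n) from hab.symm, map_mul]
              exact J.mul_mem_right _ ((hid D b).1 hb hPD)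
            · refine J.mul_mem_right _ (hJ2 (Ideal.pow_mem_pow ?_ 2))
              exact fun hu' => hPD ((X.mem_basicOpen f P h).2 hu')
          have hb' : b = ρ (f ^ 2 * a) * ((hu.pow (n + 2)).unit⁻¹ : (Γ(X, X.basicOpen f))ˣ) := by
            have hab' : b * ρ (f ^ n) = ρ a := hab
            rw [map_mul, ← hab', map_pow, map_pow, mul_left_comm, mul_assoc b,
              show ρ f ^ 2 * ρ f ^ n = ρ f ^ (n + 2) by ring]
            simp [← pow_add, add_comm n 2]
          rw [hb']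
          exact Ideal.mul_mem_right _ _ (Ideal.mem_map_of_mem _ ha) }
  have hsup : (I.support : Set X) ⊆ {P} := by
    intro y hy
    by_contra hyP
    obtain ⟨U, hU, hyU, hUO⟩ := exists_isAffineOpen_mem_and_subset (x := y) (U := ⟨({P} : Set X)ᶜ, hP.isOpen_compl⟩) hyP
    have h1 : (1 : Γ(X, U)) ∈ I.ideal ⟨U, hU⟩ := (hid ⟨U, hU⟩ 1).2 fun h => absurd rfl (hUO h)
    have h2 := (I.supportSet_subset_zeroLocus ⟨U, hU⟩) hy
    rw [Scheme.mem_zeroLocus_iff] at h2
    exact h2 1 h1 (by rw [Scheme.basicOpen_of_isUnit _ isUnit_one]; exact hyU)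
  refine ⟨I, hid, hsup, fun W f hW hf => ?_⟩
  obtain ⟨V, hV, hPV, hVW⟩ := exists_isAffineOpen_mem_and_subset (x := P) (U := W) hW
  have h0 : I.subschemeι.app V (res hVW f) = 0 := by
    obtain ⟨c, hc⟩ := (mem_range_idealModι I W f).2 hf
    refine (mem_range_idealModι I V _).1 ⟨resM _ hVW c, ?_⟩
    rw [app_resM, hc]
    rfl
  have h1 : res hVW f ∈ I.ideal ⟨V, hV⟩ := by
    rw [← I.ker_subschemeι_app ⟨V, hV⟩]
    exact h0
  rw [← TopCat.Presheaf.germ_res_apply X.presheaf (homOfLE hVW) P hPV f]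
  exact (hid ⟨V, hV⟩ _).1 h1 hPV

end Groth.Agent.DualMod3
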