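import Groth.Agent.DualMod3.SubNum
import Groth.Agent.DualMod3.GorInv
import Groth.Agent.AbSchLib.GlobalSections
import Groth.Agent.NodeLib7.ClosedSub
import Groth.Agent.LefPen24.PlaneCurve

/-!
# The constants of a subcurve act on its cohomology and on its intersection with the rest
-/

set_option autoImplicit false
set_option backward.isDefEq.respectTransparency false
set_option linter.style.haveILetI false
set_option maxHeartbeats 1000000

universe u

open CategoryTheory CategoryTheory.Limits AlgebraicGeometry TopologicalSpace Opposite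
open Groth.Agent.Coherent Groth.Agent.PicLib Groth.Agent.AmpleLib Groth.Agent.EulerLib Groth.Agent.CurveRR24
open Groth.Agent.Subcurves24

namespace Groth.Agent.DualMod3

/-- A dimension over `k` is a multiple of the degree of a field acting linearly. -/
theorem exists_finrank_eq_mul {k K V : Type*} [Field k] [Field K] [Algebra k K] [AddCommGroup V] [Module k V]
    (Λ : K →+* Module.End k V) (hΛ : ∀ (c : k) (v : V), Λ (algebraMap k K c) v = c • v) :
    ∃ m : ℕ, Module.finrank k V = Module.finrank k K * m := by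
  letI : Module K V := Module.compHom V Λ
  haveI : IsScalarTower k K V := ⟨fun c a v => by
    show Λ (c • a) v = c • Λ a v
    rw [Algebra.smul_def, map_mul, Module.End.mul_apply, hΛ]⟩
  exact ⟨Module.finrank K V, (Module.finrank_mul_finrank k K V).symm⟩

variable (k : Type u) [Field k] (Y : Scheme.{u}) [Y.Over (Spec (CommRingCat.of k))]
  [IsProper (Y ↘ Spec (CommRingCat.of k))]

include k in
theorem isField_sections [IsReduced Y] [ConnectedSpace Y] : IsField Γ(Y, ⊤) := by
  haveI := CurveRR24.isLocallyNoetherian_of_proper k (X := Y)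
  letI : Algebra k Γ(Y, ⊤) := (baseHom k Y).toAlgebra
  haveI : Module.Finite k (GA (baseHom k Y) (Coh.structureModule Y)) :=
    haveI := finite_HH_of_isCoh k (isCoh_structureModule Y) 0
    Module.Finite.equiv (hhZero k (Coh.structureModule Y))
  let e : GA (baseHom k Y) (Coh.structureModule Y) ≃ₗ[k] Γ(Y, ⊤) :=
    { toFun := fun x => x, invFun := fun x => x, left_inv := fun _ => rfl, right_inv := fun _ => rfl,
      map_add' := fun _ _ => rfl, map_smul' := fun _ _ => rfl }
  haveI : Module.Finite k Γ(Y, ⊤) := Module.Finite.equiv e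
  haveI : Algebra.IsIntegral k Γ(Y, ⊤) := Algebra.IsIntegral.of_finite k _
  exact AbSchLib.isField_of_isIntegral k

omit [IsProper (Y ↘ Spec (CommRingCat.of k))] in
theorem finrank_sections :
    Module.finrank k (Coh.HH Y (Coh.structureModule Y) 0) =
      letI : Algebra k Γ(Y, ⊤) := (baseHom k Y).toAlgebra
      Module.finrank k Γ(Y, ⊤) := by
  letI : Algebra k Γ(Y, ⊤) := (baseHom k Y).toAlgebra
  let e : GA (baseHom k Y) (Coh.structureModule Y) ≃ₗ[k] Γ(Y, ⊤) :=
    { toFun := fun x => x, invFun := fun x => x, left_inv := fun _ => rfl, right_inv := fun _ => rfl,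
      map_add' := fun _ _ => rfl, map_smul' := fun _ _ => rfl }
  exact (hhZero k (Coh.structureModule Y)).finrank_eq.trans e.finrank_eq

theorem h0_pos [Nonempty Y] : 0 < Module.finrank k (Coh.HH Y (Coh.structureModule Y) 0) := by
  haveI := CurveRR24.isLocallyNoetherian_of_proper k (X := Y)
  haveI := finite_HH_of_isCoh k (isCoh_structureModule Y) 0
  haveI : Nonempty (⊤ : Y.Opens) := ⟨⟨Classical.arbitrary Y, trivial⟩⟩
  haveI : Nontrivial (Coh.HH Y (Coh.structureModule Y) 0) :=
    (hhZero k (Coh.structureModule Y)).toEquiv.nontrivial_congr.2 (inferInstanceAs (Nontrivial Γ(Y, ⊤)))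
  exact Module.finrank_pos

/-- `h¹(O)` is a multiple of `h⁰(O)`. -/
theorem exists_genus_eq_mul [IsReduced Y] [ConnectedSpace Y] :
    ∃ n : ℕ, Curv2.genus k Y = Module.finrank k (Coh.HH Y (Coh.structureModule Y) 0) * n := by
  let φ := baseHom k Y
  let O := Coh.structureModule Y
  letI : Algebra k Γ(Y, ⊤) := φ.toAlgebra
  letI := (isField_sections k Y).toField
  have hmul : ∀ a b : Γ(Y, ⊤), unitDesc O (show Γ(O, ⊤) from a * b) =
      unitDesc O (show Γ(O, ⊤) from b) ≫ unitDesc O (show Γ(O, ⊤) from a) := fun a b => by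
    refine Scheme.Modules.hom_ext _ _ fun V => ConcreteCategory.hom_ext _ _ fun r => ?_
    rw [Scheme.Modules.Hom.comp_app, ConcreteCategory.comp_apply, unitDesc_app, unitDesc_app, unitDesc_app]
    show @Eq Γ(Y, V) ((show Γ(Y, V) from r) * (Y.presheaf.map (homOfLE le_top).op (a * b) : Γ(Y, V)))
      (((show Γ(Y, V) from r) * (Y.presheaf.map (homOfLE le_top).op b : Γ(Y, V))) * (Y.presheaf.map (homOfLE le_top).op a : Γ(Y, V)))
    rw [map_mul]
    ring
  have hone : unitDesc O (show Γ(O, ⊤) from (1 : Γ(Y, ⊤))) = 𝟙 O := by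
    refine Scheme.Modules.hom_ext _ _ fun V => ConcreteCategory.hom_ext _ _ fun r => ?_
    rw [unitDesc_app]
    show @Eq Γ(Y, V) ((show Γ(Y, V) from r) * (Y.presheaf.map (homOfLE le_top).op (1 : Γ(Y, ⊤)) : Γ(Y, V))) (show Γ(Y, V) from r)
    rw [map_one, mul_one]
  let act : Γ(Y, ⊤) → Module.End k (HA φ O (⊤ : Y.Opens) 1) := fun a =>
    postA φ (unitDesc O (show Γ(O, ⊤) from a)) (⊤ : Y.Opens) 1
  have hadd : ∀ a b, act (a + b) = act a + act b := fun a b => LinearMap.ext fun v => by
    refine Eq.trans ?_ (postHM_add (unitDesc O (show Γ(O, ⊤) from a)) (unitDesc O (show Γ(O, ⊤) from b)) 1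
      (⊤ : Y.Opens) v)
    refine congrArg (fun z => postHM z 1 (⊤ : Y.Opens) v) ?_
    exact unitDesc_add _ _
  let Λ : Γ(Y, ⊤) →+* Module.End k (HA φ O (⊤ : Y.Opens) 1) :=
    { toFun := act
      map_one' := LinearMap.ext fun v => by
        show postA φ (unitDesc O (show Γ(O, ⊤) from (1 : Γ(Y, ⊤)))) (⊤ : Y.Opens) 1 v = v
        rw [hone]
        exact postHM_id _ _ _ v
      map_mul' := fun a b => LinearMap.ext fun v => by
        show postA φ (unitDesc O (show Γ(O, ⊤) from a * b)) (⊤ : Y.Opens) 1 v = _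
        rw [hmul]
        exact postHM_comp _ _ 1 (⊤ : Y.Opens) v
      map_zero' := by
        have h := hadd 0 0
        rw [add_zero] at h
        exact left_eq_add.1 h
      map_add' := hadd }
  obtain ⟨n, hn⟩ := exists_finrank_eq_mul Λ fun c v => by
    show postA φ (unitDesc O (show Γ(O, ⊤) from φ c)) (⊤ : Y.Opens) 1 v = c • v
    show postH (X := Y.toTopCat) ((toAbFunctor Y).map (unitDesc (Coh.structureModule Y) (φ c))) 1 ⊤ v = _
    rw [toAb_map_unitDesc_structure]
    rfl
  refine ⟨n, ?_⟩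
  rw [finrank_sections k Y]
  exact (HHBaseEquiv k O 1).finrank_eq.trans hn

variable {X : Scheme.{u}} [X.Over (Spec (CommRingCat.of k))] [IsProper (X ↘ Spec (CommRingCat.of k))]

omit [IsProper (X ↘ Spec (CommRingCat.of k))] in
theorem appTop_baseHom {I Q : X.IdealSheafData} (hle : I ≤ Q) (c : k) :
    (Scheme.IdealSheafData.inclusion hle).appTop
        ((letI : I.subscheme.Over (Spec (CommRingCat.of k)) := ⟨I.subschemeι ≫ (X ↘ Spec (CommRingCat.of k))⟩; baseHom k I.subscheme) c) =
      (letI : Q.subscheme.Over (Spec (CommRingCat.of k)) := ⟨Q.subschemeι ≫ (X ↘ Spec (CommRingCat.of k))⟩; baseHom k Q.subscheme) c := by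
  show (Scheme.IdealSheafData.inclusion hle).appTop ((I.subschemeι ≫ (X ↘ Spec (CommRingCat.of k))).appTop
      ((Scheme.ΓSpecIso (CommRingCat.of k)).inv c)) =
    (Q.subschemeι ≫ (X ↘ Spec (CommRingCat.of k))).appTop ((Scheme.ΓSpecIso (CommRingCat.of k)).inv c)
  rw [← CommRingCat.comp_apply, ← Scheme.Hom.comp_appTop, ← Category.assoc, Scheme.IdealSheafData.inclusion_subschemeι]

/-- Functions on a closed subscheme of a connected subcurve form a module over its constants. -/
theorem exists_h0_eq_mul {I Q : X.IdealSheafData} (hle : I ≤ Q) [IsReduced I.subscheme] [ConnectedSpace I.subscheme] :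
    ∃ m : ℕ, Module.finrank k (Coh.HH X (ClSub.quotMod Q) 0) =
      @Module.finrank k (Coh.HH I.subscheme (Coh.structureModule I.subscheme) 0) _ _
        (letI : I.subscheme.Over (Spec (CommRingCat.of k)) := ⟨I.subschemeι ≫ (X ↘ Spec (CommRingCat.of k))⟩; inferInstance) * m ∧
      (m = 1 → Function.Bijective (Scheme.IdealSheafData.inclusion hle).appTop) ∧
      (Function.Surjective (Scheme.IdealSheafData.inclusion hle).appTop → m ≤ 1) := by
  letI : I.subscheme.Over (Spec (CommRingCat.of k)) := ⟨I.subschemeι ≫ (X ↘ Spec (CommRingCat.of k))⟩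
  letI : Q.subscheme.Over (Spec (CommRingCat.of k)) := ⟨Q.subschemeι ≫ (X ↘ Spec (CommRingCat.of k))⟩
  haveI : IsProper (I.subscheme ↘ Spec (CommRingCat.of k)) :=
    inferInstanceAs (IsProper (I.subschemeι ≫ (X ↘ Spec (CommRingCat.of k))))
  haveI : IsProper (Q.subscheme ↘ Spec (CommRingCat.of k)) :=
    inferInstanceAs (IsProper (Q.subschemeι ≫ (X ↘ Spec (CommRingCat.of k))))
  rw [Surf15.finrank_h0_quotMod k Q rfl, finrank_sections k, finrank_sections k]
  let K := Γ(I.subscheme, ⊤)
  letI : Algebra k K := (baseHom k I.subscheme).toAlgebra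
  letI : Algebra k Γ(Q.subscheme, ⊤) := (baseHom k Q.subscheme).toAlgebra
  letI := (isField_sections k I.subscheme).toField
  let ρ : K →+* Γ(Q.subscheme, ⊤) := (Scheme.IdealSheafData.inclusion hle).appTop.hom
  have hρ : ∀ c : k, ρ (baseHom k I.subscheme c) = baseHom k Q.subscheme c := appTop_baseHom k hle
  let Λ : K →+* Module.End k Γ(Q.subscheme, ⊤) :=
    (Algebra.lmul k Γ(Q.subscheme, ⊤)).toRingHom.comp ρ
  letI : Algebra K Γ(Q.subscheme, ⊤) := ρ.toAlgebra
  haveI : IsScalarTower k K Γ(Q.subscheme, ⊤) := IsScalarTower.of_algebraMap_eq fun c => (hρ c).symm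
  refine ⟨Module.finrank K Γ(Q.subscheme, ⊤), (Module.finrank_mul_finrank k K Γ(Q.subscheme, ⊤)).symm, fun h1 => ?_,
    fun hs => (LinearMap.finrank_le_finrank_of_surjective (f := Algebra.linearMap K Γ(Q.subscheme, ⊤)) hs).trans
      (Module.finrank_self K).le⟩
  haveI : Nontrivial Γ(Q.subscheme, ⊤) := Module.nontrivial_of_finrank_pos (R := K) (by omega)
  refine ⟨RingHom.injective ρ, fun z => ?_⟩
  obtain ⟨c, hc⟩ := exists_smul_eq_of_finrank_eq_one h1 (one_ne_zero : (1 : Γ(Q.subscheme, ⊤)) ≠ 0) z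
  exact ⟨c, by rw [← hc, Algebra.smul_def, mul_one]; rfl⟩

/-- The ideal of the closure of the complement. -/
theorem ker_opens_compl [IsReduced X] [IsNoetherian X] {T : Set X} (hT : IsClosed T) :
    (Scheme.Opens.ι (⟨Tᶜ, hT.isOpen_compl⟩ : X.Opens)).ker = red (compl T) := by
  rw [Props12.ker_eq_vanishingIdeal]
  refine congrArg _ (Closeds.ext ?_)
  show closure (Set.range (Scheme.Opens.ι (⟨Tᶜ, hT.isOpen_compl⟩ : X.Opens))) = closure Tᶜ
  rw [Scheme.Opens.range_ι]
  rfl

end Groth.Agent.DualMod3
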