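import Groth.Agent.DualMod3.H1Vanish
import Groth.Agent.EulerLib.HilbPoly
import Groth.Agent.Surf15.Transfer
import Groth.Agent.AmpleLib.Ample
import Groth.Agent.VarietyLib.AmpleComponents

/-!
# Numerical data of the connected subcurves
-/

set_option autoImplicit false
set_option backward.isDefEq.respectTransparency false
set_option linter.style.haveILetI false
set_option maxHeartbeats 1000000

universe u

open CategoryTheory CategoryTheory.Limits AlgebraicGeometry TopologicalSpace Opposite
open Groth.Agent.Coherent Groth.Agent.PicLib Groth.Agent.AmpleLib Groth.Agent.EulerLib Groth.Agent.CurveRR24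
open Groth.Agent.Subcurves24

namespace Groth.Agent.DualMod3

variable {X : Scheme.{u}} (k : Type u) [Field k] [X.Over (Spec (CommRingCat.of k))]
  [IsProper (X ↘ Spec (CommRingCat.of k))]

/-- Degree of a power. -/
theorem deg_pow (hdim : topologicalKrullDim X ≤ 1) {L : X.Modules} (hL : PicF.IsInvertible L) :
    ∀ n : ℕ, Curv2.deg k X (CohB1.tensorPow L n) 1 = n * Curv2.deg k X L 1
  | 0 => by
    rw [Nat.cast_zero, zero_mul]
    exact deg_structure k
  | n + 1 => by
    refine (deg_tensor k hdim (isInvertible_tensorPow hL n) hL).trans ?_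
    rw [deg_pow hdim hL n, Nat.cast_add, Nat.cast_one, add_mul, one_mul]

/-- An ample module on a curve has positive degree. -/
theorem deg_pos_of_ample (hdim : topologicalKrullDim X = 1) {L : X.Modules} (hL : CohB1.IsAmple L) :
    0 < Curv2.deg k X L 1 := by
  haveI := EulerLib.isNoetherian_of_proper k (X := X)
  have hO := isCoh_structureModule X
  have hsupp : CohB1.support (Coh.structureModule X) = Set.univ := Surf15.support_structureModule_univ
  have hd : topologicalKrullDim (CohB1.support (Coh.structureModule X)) = ((1 : ℕ) : WithBot ℕ∞) := by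
    rw [hsupp, (IsHomeomorph.topologicalKrullDim_eq _ (Homeomorph.Set.univ X).isHomeomorph), hdim, Nat.cast_one]
  obtain ⟨P, hP⟩ := exists_isHilbPoly k hL.1 hO hd.le
  have hpos := alpha_pos k hL hO hP hd
  have hn := (alpha_eq_interDeg k hL.1 hO hP hd.le).1
  have hev : ∀ m : ℕ, (P.eval (m : ℚ)) =
      (m : ℚ) * (Curv2.deg k X L 1 : ℚ) + (Curv2.euler k X (Coh.structureModule X) : ℚ) := fun m => by
    rw [← hP m, show ShStab.twist X L (Coh.structureModule X) m =
        CohB1.tensorMod (Coh.structureModule X) (CohB1.tensorPow L m) from rfl,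
      euler_congr k X (unitTensorIso _)]
    have h := deg_pow k hdim.le hL.1 m
    simp only [Curv2.deg, Nat.cast_one, one_mul] at h ⊢
    rw [show Curv2.euler k X (CohB1.tensorPow L m) =
      (m : ℤ) * (Curv2.euler k X L - Curv2.euler k X (Coh.structureModule X)) + Curv2.euler k X (Coh.structureModule X) by omega]
    push_cast
    ring
  have h1 := hev 1
  have h0 := hev 0
  rw [Polynomial.eq_X_add_C_of_natDegree_le_one hn] at h0 h1
  simp only [Polynomial.eval_add, Polynomial.eval_mul, Polynomial.eval_C, Polynomial.eval_X, Nat.cast_zero,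
    Nat.cast_one] at h0 h1
  have hc : StabCat.alpha 1 P = (Curv2.deg k X L 1 : ℚ) := by
    simp only [StabCat.alpha, Nat.factorial_one, Nat.cast_one, one_mul]
    linarith
  rw [hc] at hpos
  exact_mod_cast hpos

/-- Ample modules have positive degree on subcurves. -/
theorem deg_sub_pos_of_ample {L : X.Modules} (hL : CohB1.IsAmple L) (J : X.IdealSheafData)
    (hJ : topologicalKrullDim J.subscheme = 1) :
    0 < @Curv2.deg k _ J.subscheme ⟨J.subschemeι ≫ (X ↘ Spec (CommRingCat.of k))⟩
        ((Scheme.Modules.pullback J.subschemeι).obj L) 1 := by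
  letI : J.subscheme.Over (Spec (CommRingCat.of k)) := ⟨J.subschemeι ≫ (X ↘ Spec (CommRingCat.of k))⟩
  haveI : IsProper (J.subscheme ↘ Spec (CommRingCat.of k)) :=
    inferInstanceAs (IsProper (J.subschemeι ≫ (X ↘ Spec (CommRingCat.of k))))
  exact deg_pos_of_ample k hJ (isAmple_pullback_of_isAffineHom J.subschemeι hL)

/-- An ample module has degree at least two on a reducible connected curve. -/
theorem two_le_deg_of_ample [IsReduced X] [ConnectedSpace X] (hdim : topologicalKrullDim X = 1) {L : X.Modules}
    (hL : CohB1.IsAmple L) (hirr : ¬ IrreducibleSpace X) :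
    2 ≤ Curv2.deg k X L 1 := by
  haveI := EulerLib.isNoetherian_of_proper k (X := X)
  haveI : X.IsSeparated := EulerLib.isSeparated_of_proper (X := X) k
  obtain ⟨x⟩ := (inferInstance : Nonempty X)
  obtain ⟨A, hA, -⟩ := exists_component x
  let B := compl (A : Set X)
  have hBne : (B : Set X).Nonempty := by
    by_contra h
    have hAu : (A : Set X) = Set.univ := by
      by_contra hne
      obtain ⟨y, hy⟩ := (Set.ne_univ_iff_exists_notMem _).1 hne
      exact h ⟨y, subset_closure hy⟩
    have hp : IsPreirreducible (Set.univ : Set X) := hAu ▸ hA.1.2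
    exact hirr { toPreirreducibleSpace := ⟨hp⟩, toNonempty := ⟨x⟩ }
  obtain ⟨y, hyB, hyA⟩ : ∃ y, y ∈ (B : Set X) ∧ y ∉ (A : Set X) := by
    obtain ⟨z, hz⟩ := hBne
    obtain ⟨y, -, hy⟩ := mem_closure_iff.1 (hz : z ∈ closure (A : Set X)ᶜ) Set.univ isOpen_univ trivial
    exact ⟨y, subset_closure hy, hy⟩
  obtain ⟨C, hC, hyC⟩ := exists_component y
  obtain ⟨η, hηC, hη⟩ := exists_genericPoint hC
  have hCB : (C : Set X) ⊆ B := by
    refine hη.def ▸ closure_minimal (Set.singleton_subset_iff.2 (subset_closure fun hηA => hyA ?_)) B.isClosed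
    exact A.isClosed.closure_subset_iff.2 (Set.singleton_subset_iff.2 hηA) (hη.def.symm ▸ hyC)
  have hdA : topologicalKrullDim (red A).subscheme = 1 := by
    rw [VarietyLib.topologicalKrullDim_vanishingIdeal]
    exact components_dim_one hdim hA
  have hdB : topologicalKrullDim (red B).subscheme = 1 := by
    rw [VarietyLib.topologicalKrullDim_vanishingIdeal]
    exact le_antisymm (Topology.IsInducing.subtypeVal.topologicalKrullDim_le.trans hdim.le)
      ((components_dim_one hdim hC).ge.trans (dim_mono hCB))
  have p1 := deg_sub_pos_of_ample k hL (red A) hdA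
  have p2 := deg_sub_pos_of_ample k hL (red B) hdB
  simp only [Curv2.deg, Nat.cast_one, one_mul] at p1 p2 ⊢
  rw [euler_quot_tensor k _ hL.1, euler_quot k] at p1 p2
  have hbot : red A ⊓ red B = ⊥ := by
    rw [show red A ⊓ red B = Scheme.IdealSheafData.vanishingIdeal (A ⊔ B) from
        (Scheme.IdealSheafData.vanishingIdeal_sup A B).symm,
      show A ⊔ B = ⊤ from Closeds.ext (Set.eq_univ_of_forall fun y =>
        or_iff_not_imp_left.2 fun hy => subset_closure hy),
      Scheme.IdealSheafData.vanishingIdeal_top]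
    exact Scheme.nilradical_eq_bot (X := X)
  obtain ⟨q, hq⟩ := exists_toSup (red A) (red B)
  have hE := shortExact_sup q hq hbot
  have hEW := twistSeq_shortExact hL.1 hE
  have hS := shortExact_ideal (red A)
  have hSW := twistSeq_shortExact hL.1 hS
  have cI := isCoh_idealMod' (red A)
  have cA := isCoh_quotMod (red A)
  have cB := isCoh_quotMod (red B)
  have cQ := isCoh_quotMod (red A ⊔ red B)
  have cO := isCoh_structureModule X
  have e1 := euler_additive k X _ hE cI cB cQ
  have e2 := euler_additive k X _ hEW (isCoh_twist hL.1 cI) (isCoh_twist hL.1 cB) (isCoh_twist hL.1 cQ)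
  have e3 := euler_additive k X _ hS cI cO cA
  have e4 := euler_additive k X _ hSW (isCoh_twist hL.1 cI) (isCoh_twist hL.1 cO) (isCoh_twist hL.1 cA)
  change Curv2.euler k X (ClSub.quotMod (red B)) = Curv2.euler k X (ClSub.idealMod (red A)) + Curv2.euler k X (ClSub.quotMod (red A ⊔ red B)) at e1
  change Curv2.euler k X (CohB1.tensorMod (ClSub.quotMod (red B)) L) = Curv2.euler k X (CohB1.tensorMod (ClSub.idealMod (red A)) L) + Curv2.euler k X (CohB1.tensorMod (ClSub.quotMod (red A ⊔ red B)) L) at e2
  change Curv2.euler k X (Coh.structureModule X) = Curv2.euler k X (ClSub.idealMod (red A)) + Curv2.euler k X (ClSub.quotMod (red A)) at e3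
  change Curv2.euler k X (CohB1.tensorMod (Coh.structureModule X) L) = Curv2.euler k X (CohB1.tensorMod (ClSub.idealMod (red A)) L) + Curv2.euler k X (CohB1.tensorMod (ClSub.quotMod (red A)) L) at e4
  rw [euler_congr k X (unitTensorIso L)] at e4
  have hsupp : CohB1.support (ClSub.quotMod (red A ⊔ red B)) ⊆ (A : Set X) ∩ B := by
    refine (support_quotMod_subset _).trans fun y hy => ?_
    rw [Scheme.IdealSheafData.support_sup, Closeds.coe_inf, Scheme.IdealSheafData.coe_support_vanishingIdeal,
      Scheme.IdealSheafData.coe_support_vanishingIdeal] at hy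
    exact hy
  have hQW := euler_twist_of_small k cQ hL.1 (lt_of_le_of_lt (dim_mono hsupp) (dim_inter_compl hdim.le A))
  omega

/-- The degree of the dualizing module. -/
theorem deg_dualizing [IsAlgClosed k] [IsReduced X] [ConnectedSpace X] (hdim : topologicalKrullDim X = 1)
    {W : X.Modules} (hWe : Curv2.euler k X W = - Curv2.euler k X (Coh.structureModule X)) :
    Curv2.deg k X W 1 = 2 * (Curv2.genus k X : ℤ) - 2 := by
  have h := euler_structure k (X := X) hdim.le
  rw [h0_structure k] at h
  simp only [Curv2.deg, Nat.cast_one, one_mul]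
  omega

/-- The numerical data of a connected subcurve. -/
theorem sub_numerics [IsAlgClosed k] [IsReduced X] [ConnectedSpace X] (hdim : topologicalKrullDim X = 1)
    {W : X.Modules} (hW : PicF.IsInvertible W) (t : Coh.HH X W 1 →ₗ[k] k)
    (hrep : ∀ F : X.Modules, Coh.IsQCoh F → SerreDual.Rep t F)
    (hWe : Curv2.euler k X W = - Curv2.euler k X (Coh.structureModule X))
    (J : X.IdealSheafData) [IsReduced J.subscheme] [ConnectedSpace J.subscheme]
    (hJ : topologicalKrullDim J.subscheme = 1) :
    @Curv2.deg k _ J.subscheme ⟨J.subschemeι ≫ (X ↘ Spec (CommRingCat.of k))⟩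
        ((Scheme.Modules.pullback J.subschemeι).obj W) 1 =
      2 * (@Curv2.genus k _ J.subscheme ⟨J.subschemeι ≫ (X ↘ Spec (CommRingCat.of k))⟩ : ℤ) - 2 + (delta k J : ℤ) ∧
    (delta k J = 0 →
      @Curv2.genus k _ J.subscheme ⟨J.subschemeι ≫ (X ↘ Spec (CommRingCat.of k))⟩ = Curv2.genus k X ∧
      ∀ M : X.Modules, PicF.IsInvertible M →
        @Curv2.deg k _ J.subscheme ⟨J.subschemeι ≫ (X ↘ Spec (CommRingCat.of k))⟩
          ((Scheme.Modules.pullback J.subschemeι).obj M) 1 = Curv2.deg k X M 1) := by
  have h2 := deg_adjunction k hdim.le hW t hrep hWe J hJ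
  have h3 := euler_structure_sub k J hJ
  refine ⟨by omega, fun h0 => ?_⟩
  obtain rfl := eq_bot_of_delta_eq_zero k J h0
  have hX := euler_structure k (X := X) hdim.le
  rw [h0_structure k] at hX
  rw [euler_bot_structure k] at h3
  refine ⟨by omega, fun M hM => ?_⟩
  simp only [Curv2.deg, Nat.cast_one, one_mul]
  rw [euler_bot k hM, euler_bot_structure k]

/-- Ample when all degrees on connected subcurves are positive. -/
theorem isAmple_of_deg_sub_pos [IsReduced X] (hdim : topologicalKrullDim X ≤ 1) {L : X.Modules}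
    (hL : PicF.IsInvertible L)
    (h : ∀ J : X.IdealSheafData, IsReduced J.subscheme → ConnectedSpace J.subscheme →
      topologicalKrullDim J.subscheme = 1 →
      0 < @Curv2.deg k _ J.subscheme ⟨J.subschemeι ≫ (X ↘ Spec (CommRingCat.of k))⟩
        ((Scheme.Modules.pullback J.subschemeι).obj L) 1) :
    CohB1.IsAmple L := by
  refine (VarietyLib.isAmple_iff_deg_pos_components k hdim hL).2 fun Z hZ hd => h _
    (Props12.isReduced_subscheme_vanishingIdeal Z) ?_ ((VarietyLib.topologicalKrullDim_vanishingIdeal Z).trans hd)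
  haveI := VarietyLib.isIntegral_vanishingIdeal Z hZ.1
  infer_instance

end Groth.Agent.DualMod3
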