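import Groth.Agent.DualMod3.TailNum

/-!
# Consequences of the absence of rational tails
-/

set_option autoImplicit false
set_option backward.isDefEq.respectTransparency false
set_option linter.style.haveILetI false
set_option maxHeartbeats 1000000

universe u

open CategoryTheory CategoryTheory.Limits AlgebraicGeometry TopologicalSpace Opposite
open Groth.Agent.Coherent Groth.Agent.PicLib Groth.Agent.AmpleLib Groth.Agent.EulerLib Groth.Agent.CurveRR24
open Groth.Agent.Subcurves24

namespace Groth.Agent.DualMod3

variable (k : Type u) [Field k] {X : Scheme.{u}} [X.Over (Spec (CommRingCat.of k))]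
  [IsProper (X ↘ Spec (CommRingCat.of k))]

theorem genus_eq_h1_quotMod (J : X.IdealSheafData) :
    @Curv2.genus k _ J.subscheme ⟨J.subschemeι ≫ (X ↘ Spec (CommRingCat.of k))⟩ =
      Module.finrank k (Coh.HH X (ClSub.quotMod J) 1) := by
  haveI := EulerLib.isSeparated_of_proper (X := X) k
  letI : J.subscheme.Over (Spec (CommRingCat.of k)) := ⟨J.subschemeι ≫ (X ↘ Spec (CommRingCat.of k))⟩
  haveI : Coh.IsQCoh (Coh.structureModule J.subscheme) := isQCoh_structureModule
  exact (SerreDual.hpush J.subschemeι k rfl (Coh.structureModule J.subscheme) 1).finrank_eq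

include k in
theorem eq_bot_of_irreducible [IsReduced X] [IrreducibleSpace X] (hdim : topologicalKrullDim X = 1)
    (J : X.IdealSheafData) [IsReduced J.subscheme] (hJ : topologicalKrullDim J.subscheme = 1) : J = ⊥ := by
  haveI := EulerLib.isNoetherian_of_proper k (X := X)
  rw [← Scheme.IdealSheafData.support_eq_top_iff]
  by_contra hne
  have hη : genericPoint X ∉ (J.support : Set X) := fun h => hne (Closeds.ext (Set.eq_univ_of_univ_subset
    ((genericPoint_spec X).def ▸ J.support.isClosed.closure_subset_iff.2 (Set.singleton_subset_iff.2 h))))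
  have h1 := dim_lt_one_of_noGeneric hdim.le J.support.isClosed fun C hC η hη' hmem => hη (by
    have hu : (C : Set X) = Set.univ := by
      rw [irreducibleComponents_eq_singleton] at hC
      exact hC
    have : η = genericPoint X := IsGenericPoint.eq (hu ▸ hη') (genericPoint_spec X)
    exact this ▸ hmem)
  rw [← J.range_subschemeι, ← (J.subschemeι.isEmbedding.toHomeomorph).isHomeomorph.topologicalKrullDim_eq, hJ] at h1
  exact absurd h1 (by decide)

/-- The degree is additive over a closed set and the closure of its complement. -/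
theorem deg_add_compl [IsReduced X] (hdim : topologicalKrullDim X ≤ 1) {L : X.Modules} (hL : PicF.IsInvertible L)
    (A : Closeds X) :
    @Curv2.deg k _ (red A).subscheme ⟨(red A).subschemeι ≫ (X ↘ Spec (CommRingCat.of k))⟩
        ((Scheme.Modules.pullback (red A).subschemeι).obj L) 1 +
      @Curv2.deg k _ (red (compl (A : Set X))).subscheme ⟨(red (compl (A : Set X))).subschemeι ≫ (X ↘ Spec (CommRingCat.of k))⟩
        ((Scheme.Modules.pullback (red (compl (A : Set X))).subschemeι).obj L) 1 =
      Curv2.deg k X L 1 := by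
  haveI := EulerLib.isNoetherian_of_proper k (X := X)
  haveI : X.IsSeparated := EulerLib.isSeparated_of_proper (X := X) k
  simp only [Curv2.deg, Nat.cast_one, one_mul]
  rw [euler_quot_tensor k _ hL, euler_quot_tensor k _ hL, euler_quot k, euler_quot k]
  have hbot : red A ⊓ red (compl (A : Set X)) = ⊥ := by
    rw [show red A ⊓ red (compl (A : Set X)) = Scheme.IdealSheafData.vanishingIdeal (A ⊔ compl (A : Set X)) from
        (Scheme.IdealSheafData.vanishingIdeal_sup A (compl (A : Set X))).symm,
      show A ⊔ compl (A : Set X) = ⊤ from Closeds.ext (Set.eq_univ_of_forall fun y =>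
        or_iff_not_imp_left.2 fun hy => subset_closure hy),
      Scheme.IdealSheafData.vanishingIdeal_top]
    exact Scheme.nilradical_eq_bot (X := X)
  obtain ⟨q, hq⟩ := exists_toSup (red A) (red (compl (A : Set X)))
  have hE := shortExact_sup q hq hbot
  have hEW := twistSeq_shortExact hL hE
  have hS := shortExact_ideal (red A)
  have hSW := twistSeq_shortExact hL hS
  have cI := isCoh_idealMod' (red A)
  have cA := isCoh_quotMod (red A)
  have cB := isCoh_quotMod (red (compl (A : Set X)))
  have cQ := isCoh_quotMod (red A ⊔ red (compl (A : Set X)))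
  have cO := isCoh_structureModule X
  have e1 := euler_additive k X _ hE cI cB cQ
  have e2 := euler_additive k X _ hEW (isCoh_twist hL cI) (isCoh_twist hL cB) (isCoh_twist hL cQ)
  have e3 := euler_additive k X _ hS cI cO cA
  have e4 := euler_additive k X _ hSW (isCoh_twist hL cI) (isCoh_twist hL cO) (isCoh_twist hL cA)
  change Curv2.euler k X (ClSub.quotMod (red (compl (A : Set X)))) = Curv2.euler k X (ClSub.idealMod (red A)) + Curv2.euler k X (ClSub.quotMod (red A ⊔ red (compl (A : Set X)))) at e1
  change Curv2.euler k X (CohB1.tensorMod (ClSub.quotMod (red (compl (A : Set X)))) L) = Curv2.euler k X (CohB1.tensorMod (ClSub.idealMod (red A)) L) + Curv2.euler k X (CohB1.tensorMod (ClSub.quotMod (red A ⊔ red (compl (A : Set X)))) L) at e2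
  change Curv2.euler k X (Coh.structureModule X) = Curv2.euler k X (ClSub.idealMod (red A)) + Curv2.euler k X (ClSub.quotMod (red A)) at e3
  change Curv2.euler k X (CohB1.tensorMod (Coh.structureModule X) L) = Curv2.euler k X (CohB1.tensorMod (ClSub.idealMod (red A)) L) + Curv2.euler k X (CohB1.tensorMod (ClSub.quotMod (red A)) L) at e4
  rw [euler_congr k X (unitTensorIso L)] at e4
  have hsupp : CohB1.support (ClSub.quotMod (red A ⊔ red (compl (A : Set X)))) ⊆ (A : Set X) ∩ (compl (A : Set X) : Set X) := by
    refine (support_quotMod_subset _).trans fun y hy => ?_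
    rw [Scheme.IdealSheafData.support_sup, Closeds.coe_inf, Scheme.IdealSheafData.coe_support_vanishingIdeal,
      Scheme.IdealSheafData.coe_support_vanishingIdeal] at hy
    exact hy
  have hQW := euler_twist_of_small k cQ hL (lt_of_le_of_lt (dim_mono hsupp) (dim_inter_compl hdim A))
  omega

/-- A section with dense generating locus of a module of the Euler characteristic of `O` trivialises it. -/
theorem nonempty_iso_of_dense [IsReduced X] (hdim : topologicalKrullDim X ≤ 1) {M : X.Modules}
    (hM : PicF.IsInvertible M) (s : Γ(M, ⊤)) (hs : closure ((glocus M s : X.Opens) : Set X) = Set.univ)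
    (he : Curv2.euler k X (Coh.structureModule X) = Curv2.euler k X M) :
    Nonempty (M ≅ Coh.structureModule X) := by
  haveI := EulerLib.isNoetherian_of_proper k (X := X)
  let G := glocus M s
  let f : Coh.structureModule X ⟶ M := unitDesc M s
  haveI : Mono f := by
    refine Preadditive.mono_of_cancel_zero f fun {A} a ha => ?_
    refine Scheme.Modules.hom_ext _ _ fun U => ConcreteCategory.hom_ext _ _ fun z => ?_
    show a.app U z = (0 : Γ(Coh.structureModule X, U))
    let r : Γ(X, U) := a.app U z
    have hrs : r • resM M (le_top : U ≤ ⊤) s = 0 := by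
      have h1 : f.app U (a.app U z) = 0 := congrArg (fun φ : A ⟶ M => φ.app U z) ha
      exact (unitDesc_app M s U (a.app U z)).symm.trans h1
    have hrG : X.presheaf.map (homOfLE (inf_le_left : U ⊓ G ≤ U)).op r = 0 := by
      refine (((le_glocus_iff s (U ⊓ G)).1 inf_le_right) (U ⊓ G) le_rfl).1 ?_
      show (X.presheaf.map (homOfLE (inf_le_left : U ⊓ G ≤ U)).op r : Γ(X, U ⊓ G)) • resM M le_rfl (resM M le_top s) =
        (0 : Γ(X, U ⊓ G)) • resM M le_rfl (resM M le_top s)
      rw [zero_smul, resM_self, ← resM_resM M (le_top : U ≤ ⊤) (inf_le_left : U ⊓ G ≤ U) s, ← resM_smul, hrs, map_zero]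
    show r = 0
    refine (basicOpen_eq_bot_iff r).1 (eq_bot_iff.2 fun w hw => ?_)
    exfalso
    obtain ⟨v, hv, hvG⟩ := mem_closure_iff.1 (show w ∈ closure (G : Set X) from hs ▸ trivial) _ (X.basicOpen r).2 hw
    have hv1 : v ∈ X.basicOpen (X.presheaf.map (homOfLE (inf_le_left : U ⊓ G ≤ U)).op r) := by
      rw [Scheme.basicOpen_res]
      exact ⟨⟨X.basicOpen_le _ hv, hvG⟩, hv⟩
    rw [hrG, Scheme.basicOpen_zero] at hv1
    exact hv1
  have h := TF7.euler_le_of_generic k hdim (isCoh_structureModule X) (PicLib.isCoh_of_isInvertible hM) f fun η hη b => by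
    obtain ⟨U, hηU, m, rfl⟩ := OmegaLib.exists_gm M b
    have hηC : (closure ({η} : Set X)) ∈ irreducibleComponents X := hη
    have hηG : η ∈ G := by
      obtain ⟨w, hw, hwG⟩ := mem_closure_iff.1 (show η ∈ closure (G : Set X) from hs ▸ trivial)
        (interior (closure ({η} : Set X))) isOpen_interior (mem_interior_of_subset (C := ⟨_, isClosed_closure⟩)
          hηC (η := η) rfl subset_rfl)
      exact (specializes_iff_mem_closure.2 (interior_subset hw)).mem_open G.2 hwG
    let U' : X.Opens := U ⊓ G
    obtain ⟨c, hc⟩ := (((le_glocus_iff s U').1 inf_le_right) U' le_rfl).2 (resM M inf_le_left m)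
    refine ⟨OmegaLib.gm (Coh.structureModule X) U' η ⟨hηU, hηG⟩ (show Γ(Coh.structureModule X, U') from c), ?_⟩
    rw [OmegaLib.map_gm, ← OmegaLib.gm_res M hηU (inf_le_left : U' ≤ U) ⟨hηU, hηG⟩]
    refine congrArg _ ?_
    rw [unitDesc_app, ← hc]
    show c • resM M _ s = c • resM M le_rfl _
    rw [resM_self]
  haveI : IsIso f := h.2.1 he
  exact ⟨(asIso f).symm⟩

/-- In genus one without rational tails the dualizing module is trivial. -/
theorem trivial_of_genus_one [IsReduced X] [ConnectedSpace X] (hdim : topologicalKrullDim X = 1) {W : X.Modules}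
    (hW : PicF.IsInvertible W) (t : Coh.HH X W 1 →ₗ[k] k) (hrep : ∀ F : X.Modules, Coh.IsQCoh F → SerreDual.Rep t F)
    (hWe : Curv2.euler k X W = - Curv2.euler k X (Coh.structureModule X))
    (hd0 : Curv2.deg k X W 1 = 0) (hg : Curv2.genus k X = 1)
    (hnt : ∀ (C : Set X) (hC : C ∈ irreducibleComponents (X : Type u)), ¬ Curv2.IsRationalTail X C hC) :
    Nonempty (W ≅ Coh.structureModule X) := by
  haveI := EulerLib.isNoetherian_of_proper k (X := X)
  obtain ⟨hall, -⟩ := genus_le_deg k hdim hW t hrep hWe hnt (Or.inl hg.ge)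
  have h1 : Module.finrank k (Coh.HH X W 0) = 1 := by
    haveI := finite_HH_of_isCoh k (isCoh_structureModule X) 1
    rw [← (SerreDual.homUnitHH k W).finrank_eq, (SerreDual.dualEquiv t (hrep _ (isCoh_structureModule X).1)).finrank_eq,
      Subspace.dual_finrank_eq]
    exact hg
  haveI : Nontrivial (Coh.HH X W 0) := Module.nontrivial_of_finrank_pos (R := k) (by omega)
  haveI : Nontrivial (GA (baseHom k X) W) := (CurveRR24.hhZero k W).symm.toEquiv.nontrivial
  obtain ⟨s₀, hs₀⟩ := exists_ne (0 : GA (baseHom k X) W)
  obtain ⟨s, hs, hconn⟩ := exists_section_connected hW (s₀ := (show Γ(W, ⊤) from s₀)) hs₀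
  let T : Closeds X := ⟨closure ((glocus W s : X.Opens) : Set X), isClosed_closure⟩
  haveI hred : IsReduced (red T).subscheme := Props12.isReduced_subscheme_vanishingIdeal T
  obtain ⟨x, hx⟩ := glocus_nonempty hW hs
  haveI hcs : ConnectedSpace (red T).subscheme := by
    haveI := Subtype.connectedSpace (s := (T : Set X)) ⟨⟨x, subset_closure hx⟩, hconn⟩
    exact ((red T).subschemeι.isEmbedding.toHomeomorph.trans
      (Homeomorph.setCongr (range_red T))).symm.surjective.connectedSpace
        ((red T).subschemeι.isEmbedding.toHomeomorph.trans (Homeomorph.setCongr (range_red T))).symm.continuous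
  have hle := euler_le_of_section k hdim.le hW s T rfl
  let Z := compl (T : Set X)
  change Curv2.euler k X (ClSub.quotMod (red T)) ≤ Curv2.euler k X (NT Z W) at hle
  have hsum := deg_add_compl k hdim.le hW T
  have hA := hall (red T)
  have hB := hall (red (compl (T : Set X)))
  have hr := euler_red k hW Z
  unfold redOver at hr
  have hTz : @Curv2.deg k _ (red T).subscheme ⟨(red T).subschemeι ≫ (X ↘ Spec (CommRingCat.of k))⟩
      ((Scheme.Modules.pullback (red T).subschemeι).obj W) 1 = 0 ∧
      @Curv2.deg k _ (red Z).subscheme ⟨(red Z).subschemeι ≫ (X ↘ Spec (CommRingCat.of k))⟩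
      ((Scheme.Modules.pullback (red Z).subschemeι).obj W) 1 = 0 := by
    refine ⟨by omega, ?_⟩
    show @Curv2.deg k _ (red (compl (T : Set X))).subscheme ⟨(red (compl (T : Set X))).subschemeι ≫ (X ↘ Spec (CommRingCat.of k))⟩
      ((Scheme.Modules.pullback (red (compl (T : Set X))).subschemeι).obj W) 1 = 0
    omega
  have hd : topologicalKrullDim (red T).subscheme = 1 := by
    rw [VarietyLib.topologicalKrullDim_vanishingIdeal]
    refine le_antisymm (Topology.IsInducing.subtypeVal.topologicalKrullDim_le.trans hdim.le) ?_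
    obtain ⟨C, hC, hxC⟩ := exists_component x
    obtain ⟨η, hηC, hη⟩ := exists_genericPoint hC
    have hηG : η ∈ glocus W s := (hη.specializes hxC).mem_open (glocus W s).2 hx
    exact (one_le_dim_component k hdim hC).trans (dim_mono
      (hη.def ▸ closure_minimal (Set.singleton_subset_iff.2 (subset_closure hηG)) T.isClosed))
  obtain ⟨h, n, m, hpos, -, hn, hm, hdeg, hm0, -, -⟩ := sub_data k hdim.le hW t hrep hWe (red T) hd
  by_cases hu : (T : Set X) = Set.univ
  · refine nonempty_iso_of_dense k hdim.le hW s hu ?_
    simp only [Curv2.deg, Nat.cast_one, one_mul] at hd0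
    omega
  exfalso
  -- otherwise the degree on `T` is at least the intersection number
  have hbot : red Z ⊓ red T = ⊥ := by
    rw [show red Z ⊓ red T = Scheme.IdealSheafData.vanishingIdeal (Z ⊔ T) from
        (Scheme.IdealSheafData.vanishingIdeal_sup Z T).symm,
      show Z ⊔ T = ⊤ from Closeds.ext (Set.eq_univ_of_forall fun y =>
        or_iff_not_imp_right.2 fun hy => subset_closure hy),
      Scheme.IdealSheafData.vanishingIdeal_top]
    exact Scheme.nilradical_eq_bot (X := X)
  have hmne : m ≠ 0 := fun e => hu (by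
    have hb := congrArg (fun I : X.IdealSheafData => (I.support : Set X)) (hm0 e)
    simpa [Scheme.IdealSheafData.coe_support_vanishingIdeal] using hb)
  haveI : X.IsSeparated := EulerLib.isSeparated_of_proper (X := X) k
  obtain ⟨q, hq⟩ := exists_toSup (red Z) (red T)
  have hE := shortExact_sup q hq hbot
  have hS := shortExact_ideal (red Z)
  have cI := isCoh_idealMod' (red Z)
  have e1 := euler_additive k X _ hE cI (isCoh_quotMod (red T)) (isCoh_quotMod (red Z ⊔ red T))
  have e3 := euler_additive k X _ hS cI (isCoh_structureModule X) (isCoh_quotMod (red Z))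
  change Curv2.euler k X (ClSub.quotMod (red T)) = Curv2.euler k X (ClSub.idealMod (red Z)) + Curv2.euler k X (ClSub.quotMod (red Z ⊔ red T)) at e1
  change Curv2.euler k X (Coh.structureModule X) = Curv2.euler k X (ClSub.idealMod (red Z)) + Curv2.euler k X (ClSub.quotMod (red Z)) at e3
  have hsT : ((red T).support : Set X) = (T : Set X) := Scheme.IdealSheafData.coe_support_vanishingIdeal T
  have hsupp : CohB1.support (ClSub.quotMod (red Z ⊔ red T)) ⊆ (T : Set X) ∩ Z := by
    refine (support_quotMod_subset _).trans fun y hy => ?_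
    rw [Scheme.IdealSheafData.support_sup, Closeds.coe_inf, hsT,
      Scheme.IdealSheafData.coe_support_vanishingIdeal] at hy
    exact ⟨hy.2, hy.1⟩
  have hfin := dim_inter_compl hdim.le T
  have cQ := isCoh_quotMod (red Z ⊔ red T)
  have hQ1 : Subsingleton (Coh.HH X (ClSub.quotMod (red Z ⊔ red T)) 1) :=
    subsingleton_HH_of_support ⟨_, T.isClosed.inter Z.isClosed⟩ _ cQ.1 hsupp 1 hfin
  have hQe := euler_eq_h0_sub_h1 k hdim.le _ cQ.1
  rw [@Module.finrank_zero_of_subsingleton k (Coh.HH X (ClSub.quotMod (red Z ⊔ red T)) 1) _ _ _ _ hQ1] at hQe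
  have hδ : delta k (red T) = Module.finrank k (Coh.HH X (ClSub.quotMod (red Z ⊔ red T)) 0) := by
    have : (⟨closure (((red T).support : Set X)ᶜ), isClosed_closure⟩ : Closeds X) = Z :=
      Closeds.ext (by show closure _ = closure _; rw [hsT])
    rw [delta, this, sup_comm]
  obtain ⟨hT0, hZ0⟩ := hTz
  simp only [Curv2.deg, Nat.cast_one, one_mul] at hT0 hZ0 hd0
  rw [euler_quot k (red Z)] at hZ0
  have hmpos : 0 < delta k (red T) := by rw [hm]; exact Nat.mul_pos hpos (Nat.pos_of_ne_zero hmne)
  omega

end Groth.Agent.DualMod3
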