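import Groth.Agent.DualMod3.SubField
import Groth.Agent.DualMod3.H1Vanish
import Groth.Agent.VarietyLib.CurveDegree
import Groth.Agent.VarietyLib.MultFormula
import Groth.Agent.DimLib.Zero
import Groth.Agent.S1656

/-!
# The degree of the dualizing module on subcurves without rational tails
-/

set_option autoImplicit false
set_option backward.isDefEq.respectTransparency false
set_option linter.style.haveILetI false
set_option maxHeartbeats 1000000

universe u

open CategoryTheory CategoryTheory.Limits AlgebraicGeometry TopologicalSpace Opposite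
open Groth.Agent.Coherent Groth.Agent.PicLib Groth.Agent.AmpleLib Groth.Agent.EulerLib Groth.Agent.CurveRR24
open Groth.Agent.Subcurves24

attribute [local instance] HasDerivedCategory.standard

namespace Groth.Agent.DualMod3

variable (k : Type u) [Field k] {X : Scheme.{u}} [X.Over (Spec (CommRingCat.of k))]
  [IsProper (X ↘ Spec (CommRingCat.of k))]

/-- The basic facts about the dualizing module of a connected nodal curve. -/
theorem nodal_setup (hdim : topologicalKrullDim X = 1)
    (h0 : Module.finrank k (Coh.HH X (Coh.structureModule X) 0) = 1) (hX : Curv2.AtWorstNodal k X)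
    [DCoh.HasRpush (X ↘ Spec (CommRingCat.of k))] (h : DCoh.RpushPreservesQCoh (X ↘ Spec (CommRingCat.of k)))
    [DCoh.HasShriek (X ↘ Spec (CommRingCat.of k)) h] (OY : DCoh.DQCoh (Spec (CommRingCat.of k)))
    (hOY : Nonempty (OY.obj ≅ DCoh.inD (Spec (CommRingCat.of k)) (Coh.structureModule (Spec (CommRingCat.of k))))) :
    IsReduced X ∧ ConnectedSpace X ∧ PicF.IsInvertible (DCoh.dualizingMod (X ↘ Spec (CommRingCat.of k)) h OY 1) ∧
    (∃ t : Coh.HH X (DCoh.dualizingMod (X ↘ Spec (CommRingCat.of k)) h OY 1) 1 →ₗ[k] k,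
      ∀ F : X.Modules, Coh.IsQCoh F → SerreDual.Rep t F) ∧
    Curv2.euler k X (DCoh.dualizingMod (X ↘ Spec (CommRingCat.of k)) h OY 1) =
      - Curv2.euler k X (Coh.structureModule X) ∧
    Curv2.deg k X (DCoh.dualizingMod (X ↘ Spec (CommRingCat.of k)) h OY 1) 1 = 2 * (Curv2.genus k X : ℤ) - 2 := by
  haveI := EulerLib.isNoetherian_of_proper k (X := X)
  haveI := NodeLib7.geometricallyReduced_of_atWorstNodal k X hX
  haveI hred : AlgebraicGeometry.IsReduced X := GeometricallyReduced.geometrically_isReduced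
    (f := X ↘ Spec (CommRingCat.of k)) (𝟙 _) (𝟙 X) (X ↘ Spec (CommRingCat.of k)) (IsPullback.of_horiz_isIso ⟨by simp⟩)
  haveI hconn : ConnectedSpace X := LefPen24.connectedSpace_of_finrank k h0
  have hequi : ∀ Z ∈ irreducibleComponents (X : Type u), topologicalKrullDim Z = 1 :=
    fun Z hZ => components_dim_one hdim hZ
  obtain ⟨ht, hWe⟩ := dualizing_data k hdim h OY hOY
  refine ⟨hred, hconn, isInvertible_dualizingMod k X hequi (NodeLib7.gor_stalk_of_atWorstNodal k X hX) h OY hOY, ht, hWe, ?_⟩
  have hs := euler_structure k (X := X) hdim.le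
  rw [h0] at hs
  simp only [Curv2.deg, Nat.cast_one, one_mul]
  omega

/-- The numerical data of a connected subcurve over any field. -/
theorem sub_data [IsReduced X] [ConnectedSpace X] (hdim : topologicalKrullDim X ≤ 1) {W : X.Modules}
    (hW : PicF.IsInvertible W) (t : Coh.HH X W 1 →ₗ[k] k) (hrep : ∀ F : X.Modules, Coh.IsQCoh F → SerreDual.Rep t F)
    (hWe : Curv2.euler k X W = - Curv2.euler k X (Coh.structureModule X))
    (J : X.IdealSheafData) [IsReduced J.subscheme] [ConnectedSpace J.subscheme]
    (hJ : topologicalKrullDim J.subscheme = 1) :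
    ∃ h n m : ℕ, 0 < h ∧
      h = @Module.finrank k (Coh.HH J.subscheme (Coh.structureModule J.subscheme) 0) _ _
        (letI : J.subscheme.Over (Spec (CommRingCat.of k)) := ⟨J.subschemeι ≫ (X ↘ Spec (CommRingCat.of k))⟩; inferInstance) ∧
      @Curv2.genus k _ J.subscheme ⟨J.subschemeι ≫ (X ↘ Spec (CommRingCat.of k))⟩ = h * n ∧
      delta k J = h * m ∧
      @Curv2.deg k _ J.subscheme ⟨J.subschemeι ≫ (X ↘ Spec (CommRingCat.of k))⟩
        ((Scheme.Modules.pullback J.subschemeι).obj W) 1 = (h : ℤ) * (2 * (n : ℤ) - 2 + (m : ℤ)) ∧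
      (m = 0 → J = ⊥) ∧
      (m = 1 → Function.Bijective (Scheme.IdealSheafData.inclusion
        (le_sup_left : J ≤ J ⊔ Scheme.IdealSheafData.vanishingIdeal ⟨closure ((J.support : Set X)ᶜ), isClosed_closure⟩)).appTop) ∧
      (Function.Surjective (Scheme.IdealSheafData.inclusion
        (le_sup_left : J ≤ J ⊔ Scheme.IdealSheafData.vanishingIdeal ⟨closure ((J.support : Set X)ᶜ), isClosed_closure⟩)).appTop → m ≤ 1) := by
  letI : J.subscheme.Over (Spec (CommRingCat.of k)) := ⟨J.subschemeι ≫ (X ↘ Spec (CommRingCat.of k))⟩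
  haveI : IsProper (J.subscheme ↘ Spec (CommRingCat.of k)) :=
    inferInstanceAs (IsProper (J.subschemeι ≫ (X ↘ Spec (CommRingCat.of k))))
  obtain ⟨n, hn⟩ := exists_genus_eq_mul k J.subscheme
  obtain ⟨m, hm, hm1, hms⟩ := exists_h0_eq_mul k
    (le_sup_left : J ≤ J ⊔ Scheme.IdealSheafData.vanishingIdeal ⟨closure ((J.support : Set X)ᶜ), isClosed_closure⟩)
  refine ⟨_, n, m, h0_pos k J.subscheme, rfl, hn, hm, ?_, fun h => ?_, hm1, hms⟩
  · rw [deg_adjunction k hdim hW t hrep hWe J hJ, euler_structure k hJ.le,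
      show delta k J = _ from hm, hn]
    push_cast
    ring
  · exact eq_bot_of_delta_eq_zero k J (by rw [show delta k J = _ from hm, h, mul_zero])

theorem surjective_residueFieldMap {A B : Scheme.{u}} (f : A ⟶ B) [IsClosedImmersion f] (a : A) :
    Function.Surjective (f.residueFieldMap a) := by
  intro z
  obtain ⟨w, rfl⟩ := A.residue_surjective a z
  obtain ⟨v, rfl⟩ := f.stalkMap_surjective a w
  exact ⟨B.residue (f a) v, congr($(Scheme.residue_residueFieldMap f a) v)⟩

theorem surjective_Γevaluation_of_isField {Q : Scheme.{u}} [IsAffine Q] (hF : IsField Γ(Q, ⊤)) (c : Q) :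
    Function.Surjective (Q.Γevaluation c) := by
  letI : Algebra Γ(Q, ⊤) (Q.presheaf.stalk c) := TopCat.Presheaf.algebra_section_stalk Q.presheaf (U := ⊤) ⟨c, trivial⟩
  haveI := (isAffineOpen_top Q).isLocalization_stalk ⟨c, trivial⟩
  intro z
  obtain ⟨w, rfl⟩ := Q.residue_surjective c z
  obtain ⟨a, s, rfl⟩ := IsLocalization.exists_mk'_eq ((isAffineOpen_top Q).primeIdealOf ⟨c, trivial⟩).asIdeal.primeCompl w
  have hs : (s : Γ(Q, ⊤)) ≠ 0 := fun h => s.2 (by rw [h]; exact zero_mem _)
  obtain ⟨v, hv⟩ := hF.mul_inv_cancel hs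
  refine ⟨a * v, congrArg (Q.residue c) ((IsLocalization.eq_mk'_iff_mul_eq).2 ?_)⟩
  show algebraMap Γ(Q, ⊤) (Q.presheaf.stalk c) (a * v) * algebraMap Γ(Q, ⊤) (Q.presheaf.stalk c) s = algebraMap Γ(Q, ⊤) (Q.presheaf.stalk c) a
  rw [← map_mul, mul_assoc, mul_comm v, hv, mul_one]

/-- A subcurve with `h¹ = 0` meeting the rest in its constants is a rational tail. -/
theorem isRationalTail_of [IsReduced X] (hdim : topologicalKrullDim X ≤ 1) (C : Set X)
    (hC : C ∈ irreducibleComponents (X : Type u))
    (hg : @Curv2.genus k _ (red ⟨C, isClosed_of_mem_irreducibleComponents C hC⟩).subscheme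
      ⟨(red ⟨C, isClosed_of_mem_irreducibleComponents C hC⟩).subschemeι ≫ (X ↘ Spec (CommRingCat.of k))⟩ = 0)
    (hbij : Function.Bijective (Scheme.IdealSheafData.inclusion
      (le_sup_left : red ⟨C, isClosed_of_mem_irreducibleComponents C hC⟩ ≤
        red ⟨C, isClosed_of_mem_irreducibleComponents C hC⟩ ⊔ red (compl C))).appTop) :
    Curv2.IsRationalTail X C hC := by
  haveI := EulerLib.isNoetherian_of_proper k (X := X)
  let T : Closeds X := ⟨C, isClosed_of_mem_irreducibleComponents C hC⟩
  let Z := compl C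
  haveI : IsIntegral (red T).subscheme := VarietyLib.isIntegral_vanishingIdeal T hC.1
  letI : (red T).subscheme.Over (Spec (CommRingCat.of k)) := ⟨(red T).subschemeι ≫ (X ↘ Spec (CommRingCat.of k))⟩
  haveI : IsProper ((red T).subscheme ↘ Spec (CommRingCat.of k)) :=
    inferInstanceAs (IsProper ((red T).subschemeι ≫ (X ↘ Spec (CommRingCat.of k))))
  haveI : ConnectedSpace (red T).subscheme := inferInstance
  let Q := red T ⊔ red Z
  let incl := Scheme.IdealSheafData.inclusion (le_sup_left : red T ≤ Q)
  have hK := isField_sections k (red T).subscheme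
  have hF : IsField Γ(Q.subscheme, ⊤) :=
    (RingEquiv.ofBijective incl.appTop.hom hbij).symm.toMulEquiv.isField hK
  have hQdim : topologicalKrullDim Q.subscheme ≤ 0 := by
    have hr : Set.range Q.subschemeι ⊆ (T : Set X) ∩ Z := by
      rw [Q.range_subschemeι, Scheme.IdealSheafData.support_sup, Closeds.coe_inf,
        Scheme.IdealSheafData.coe_support_vanishingIdeal, Scheme.IdealSheafData.coe_support_vanishingIdeal]
    have h1 : topologicalKrullDim Q.subscheme < ((1 : ℕ) : WithBot ℕ∞) := by
      rw [(Q.subschemeι.isEmbedding.toHomeomorph).isHomeomorph.topologicalKrullDim_eq]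
      exact lt_of_le_of_lt (dim_mono hr) (dim_inter_compl hdim T)
    revert h1
    generalize topologicalKrullDim Q.subscheme = d
    intro h1
    match d with
    | ⊥ => exact bot_le
    | (d : ℕ∞) =>
      have h' : d < ((1 : ℕ) : ℕ∞) := WithBot.coe_lt_coe.1 h1
      exact WithBot.coe_le_coe.2 (by simpa using ENat.lt_natCast_add_one_iff.1 (show d < ((0 : ℕ) : ℕ∞) + 1 by simpa using h'))
  haveI := DimLib.isFinite_of_dim_le_zero (Q.subschemeι ≫ (X ↘ Spec (CommRingCat.of k))) hQdim
  haveI : IsAffine Q.subscheme := isAffine_of_isAffineHom (Q.subschemeι ≫ (X ↘ Spec (CommRingCat.of k)))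
  haveI : Subsingleton (PrimeSpectrum Γ(Q.subscheme, ⊤)) := by
    letI := hF.toField
    infer_instance
  haveI hsub : Subsingleton Q.subscheme := by
    haveI : Subsingleton ↥(Spec Γ(Q.subscheme, ⊤)) := inferInstanceAs (Subsingleton (PrimeSpectrum Γ(Q.subscheme, ⊤)))
    exact Q.subscheme.isoSpec.hom.homeomorph.toEquiv.subsingleton
  haveI hne : Nonempty Q.subscheme := by
    letI := hF.toField
    exact ⟨Q.subscheme.isoSpec.inv (show PrimeSpectrum Γ(Q.subscheme, ⊤) from ⟨⊥, Ideal.isPrime_bot⟩)⟩
  haveI hQred : IsReduced Q.subscheme := by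
    letI := hF.toField
    exact isReduced_of_isOpenImmersion Q.subscheme.isoSpec.hom
  have hbijev : ∀ c : Q.subscheme, Function.Bijective ((red T).subscheme.Γevaluation (incl c)) := fun c => by
    letI := hK.toField
    refine ⟨RingHom.injective ((red T).subscheme.Γevaluation (incl c)).hom, fun z => ?_⟩
    obtain ⟨b, hb⟩ := surjective_Γevaluation_of_isField hF c (incl.residueFieldMap c z)
    obtain ⟨a, rfl⟩ := hbij.2 b
    exact ⟨a, RingHom.injective (incl.residueFieldMap c).hom ((Scheme.Γevaluation_naturality_apply incl c a).trans hb)⟩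
  obtain ⟨c₀⟩ := hne
  have hH1 : Subsingleton (Coh.HH (red T).subscheme (Coh.structureModule (red T).subscheme) 1) := by
    haveI := CurveRR24.isLocallyNoetherian_of_proper k (X := (red T).subscheme)
    haveI := finite_HH_of_isCoh k (isCoh_structureModule (red T).subscheme) 1
    exact Module.finrank_zero_iff.1 (hg : Module.finrank k (Coh.HH (red T).subscheme (Coh.structureModule (red T).subscheme) 1) = 0)
  have main : ∀ IX : X.IdealSheafData, IX = red Z →
      (IX.support : Set X).Nonempty ∧
      Nonempty (red T ⊔ IX).subscheme ∧ Subsingleton (red T ⊔ IX).subscheme ∧ IsReduced (red T ⊔ IX).subscheme ∧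
      (∀ c : (red T ⊔ IX).subscheme, Function.Bijective
        ((red T).subscheme.evaluation ⊤ ((Scheme.IdealSheafData.inclusion (le_sup_left : red T ≤ red T ⊔ IX)).base c) trivial)) ∧
      Subsingleton (Coh.HH (red T).subscheme (Coh.structureModule (red T).subscheme) 1) := by
    rintro _ rfl
    refine ⟨?_, ⟨c₀⟩, hsub, hQred, hbijev, hH1⟩
    have hm : Q.subschemeι c₀ ∈ (Q.support : Set X) := by rw [← Q.range_subschemeι]; exact ⟨c₀, rfl⟩
    exact ⟨_, Scheme.IdealSheafData.support_antitone (le_sup_right : red Z ≤ Q) hm⟩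
  exact main _ (ker_opens_compl T.isClosed)

theorem h0_eq_of_eq_bot [IsReduced X] (J : X.IdealSheafData) (hJ : J = ⊥) :
    @Module.finrank k (Coh.HH J.subscheme (Coh.structureModule J.subscheme) 0) _ _
        (letI : J.subscheme.Over (Spec (CommRingCat.of k)) := ⟨J.subschemeι ≫ (X ↘ Spec (CommRingCat.of k))⟩; inferInstance) =
      Module.finrank k (Coh.HH X (Coh.structureModule X) 0) := by
  subst hJ
  letI : (⊥ : X.IdealSheafData).subscheme.Over (Spec (CommRingCat.of k)) :=
    ⟨(⊥ : X.IdealSheafData).subschemeι ≫ (X ↘ Spec (CommRingCat.of k))⟩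
  rw [← Surf15.finrank_h0_quotMod k (⊥ : X.IdealSheafData) rfl]
  haveI := EulerLib.isNoetherian_of_proper k (X := X)
  have hz : IsZero (ClSub.idealMod (⊥ : X.IdealSheafData)) := by
    refine (IsZero.iff_id_eq_zero _).2 (RelVALib.hom_ext_affine _ _ fun U hU m => ?_)
    haveI : Mono (ClSub.idealModι (⊥ : X.IdealSheafData)) := inferInstanceAs (Mono (kernel.ι (ClSub.toSubscheme (⊥ : X.IdealSheafData))))
    refine app_injective_of_mono (ClSub.idealModι (⊥ : X.IdealSheafData)) U ?_
    have := (toSub_affine_eq_zero_iff (⊥ : X.IdealSheafData) ⟨U, hU⟩ _).1 (kernel_ι_app_zero (ClSub.toSubscheme (⊥ : X.IdealSheafData)) U m)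
    exact ((Submodule.mem_bot _).1 this).trans (map_zero _).symm
  haveI : Mono (ClSub.toSubscheme (⊥ : X.IdealSheafData)) :=
    (CurveRR24.shortExact_ideal (⊥ : X.IdealSheafData)).exact.mono_g (hz.eq_of_src _ _)
  haveI : Epi (ClSub.toSubscheme (⊥ : X.IdealSheafData)) := epi_toSubscheme _
  haveI : IsIso (ClSub.toSubscheme (⊥ : X.IdealSheafData)) := isIso_of_mono_of_epi _
  exact CurveRR24.finrank_HH_congr k (asIso (ClSub.toSubscheme (⊥ : X.IdealSheafData))).symm 0

/-- Nonnegative degree on components gives nonnegative degree on all unions. -/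
theorem deg_union_nonneg (hdim : topologicalKrullDim X ≤ 1) {W : X.Modules} (hW : PicF.IsInvertible W)
    (hc : ∀ C : Closeds X, IsIrreducible (C : Set X) → topologicalKrullDim (C : Set X) = 1 →
      0 ≤ @Curv2.deg k _ (red C).subscheme ⟨(red C).subschemeι ≫ (X ↘ Spec (CommRingCat.of k))⟩
        ((Scheme.Modules.pullback (red C).subschemeι).obj W) 1)
    (T : X.IdealSheafData) :
    0 ≤ @Curv2.deg k _ T.subscheme ⟨T.subschemeι ≫ (X ↘ Spec (CommRingCat.of k))⟩
        ((Scheme.Modules.pullback T.subschemeι).obj W) 1 := by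
  haveI := EulerLib.isNoetherian_of_proper k (X := X)
  have hE := isFinLocFreeOfRank_one hW
  obtain ⟨S, -, hS, hsum⟩ := VarietyLib.degFun_eq_sum k hdim hE
  letI : T.subscheme.Over (Spec (CommRingCat.of k)) := ⟨T.subschemeι ≫ (X ↘ Spec (CommRingCat.of k))⟩
  haveI : IsProper (T.subscheme ↘ Spec (CommRingCat.of k)) :=
    inferInstanceAs (IsProper (T.subschemeι ≫ (X ↘ Spec (CommRingCat.of k))))
  rw [← VarietyLib.degFun_push k T.subschemeι rfl hE,
    show (Coh.push T.subschemeι).obj (Coh.structureModule T.subscheme) = ClSub.quotMod T from rfl,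
    hsum _ (isCoh_quotMod T)]
  refine Finset.sum_nonneg fun ξ hξ => nsmul_nonneg ?_ _
  let Z : Closeds X := ⟨closure {ξ}, isClosed_closure⟩
  letI : (red Z).subscheme.Over (Spec (CommRingCat.of k)) := ⟨(red Z).subschemeι ≫ (X ↘ Spec (CommRingCat.of k))⟩
  haveI : IsProper ((red Z).subscheme ↘ Spec (CommRingCat.of k)) :=
    inferInstanceAs (IsProper ((red Z).subschemeι ≫ (X ↘ Spec (CommRingCat.of k))))
  have h := hc Z isIrreducible_singleton.closure ((hS ξ hξ).trans Nat.cast_one)
  rw [← VarietyLib.degFun_push k (red Z).subschemeι rfl hE] at h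
  exact h

/-- `deg ω|_J ≥ 0` on all subcurves, and `≥ h¹(O_J)` on connected ones, if there are no rational tails. -/
theorem genus_le_deg [IsReduced X] [ConnectedSpace X] (hdim : topologicalKrullDim X = 1) {W : X.Modules}
    (hW : PicF.IsInvertible W) (t : Coh.HH X W 1 →ₗ[k] k) (hrep : ∀ F : X.Modules, Coh.IsQCoh F → SerreDual.Rep t F)
    (hWe : Curv2.euler k X W = - Curv2.euler k X (Coh.structureModule X))
    (hnt : ∀ (C : Set X) (hC : C ∈ irreducibleComponents (X : Type u)), ¬ Curv2.IsRationalTail X C hC)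
    (hg : 1 ≤ Curv2.genus k X ∨ ¬ IrreducibleSpace X) :
    (∀ T : X.IdealSheafData, 0 ≤ @Curv2.deg k _ T.subscheme ⟨T.subschemeι ≫ (X ↘ Spec (CommRingCat.of k))⟩
        ((Scheme.Modules.pullback T.subschemeι).obj W) 1) ∧
    ∀ J : X.IdealSheafData, IsReduced J.subscheme → ConnectedSpace J.subscheme →
      topologicalKrullDim J.subscheme = 1 → J ≠ ⊥ →
      (@Curv2.genus k _ J.subscheme ⟨J.subschemeι ≫ (X ↘ Spec (CommRingCat.of k))⟩ : ℤ) ≤
        @Curv2.deg k _ J.subscheme ⟨J.subschemeι ≫ (X ↘ Spec (CommRingCat.of k))⟩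
          ((Scheme.Modules.pullback J.subschemeι).obj W) 1 := by
  haveI := EulerLib.isNoetherian_of_proper k (X := X)
  have hcomp : ∀ C : Closeds X, IsIrreducible (C : Set X) → topologicalKrullDim (C : Set X) = 1 →
      0 ≤ @Curv2.deg k _ (red C).subscheme ⟨(red C).subschemeι ≫ (X ↘ Spec (CommRingCat.of k))⟩
        ((Scheme.Modules.pullback (red C).subschemeι).obj W) 1 := by
    intro C hCi hCd
    haveI : IsIntegral (red C).subscheme := VarietyLib.isIntegral_vanishingIdeal C hCi
    haveI : IsReduced (red C).subscheme := inferInstance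
    haveI : ConnectedSpace (red C).subscheme := inferInstance
    have hd : topologicalKrullDim (red C).subscheme = 1 :=
      (VarietyLib.topologicalKrullDim_vanishingIdeal C).trans hCd
    obtain ⟨h, n, m, hpos, -, hn, hm, hdeg, hm0, hm1, -⟩ := sub_data k hdim.le hW t hrep hWe (red C) hd
    rw [hdeg]
    refine mul_nonneg (Int.natCast_nonneg _) ?_
    rcases Nat.eq_zero_or_pos m with e | e
    · -- the whole curve
      rcases hg with hg | hirr
      · have hb := hm0 e
        have hgen : @Curv2.genus k _ (red C).subscheme ⟨(red C).subschemeι ≫ (X ↘ Spec (CommRingCat.of k))⟩ ≠ 0 := by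
          intro hz
          rw [hn] at hz
          letI : (red C).subscheme.Over (Spec (CommRingCat.of k)) := ⟨(red C).subschemeι ≫ (X ↘ Spec (CommRingCat.of k))⟩
          haveI : IsProper ((red C).subscheme ↘ Spec (CommRingCat.of k)) :=
            inferInstanceAs (IsProper ((red C).subschemeι ≫ (X ↘ Spec (CommRingCat.of k))))
          have h1 : ∀ J : X.IdealSheafData, J = ⊥ →
              @Curv2.euler k _ J.subscheme ⟨J.subschemeι ≫ (X ↘ Spec (CommRingCat.of k))⟩ (Coh.structureModule J.subscheme) =
                Curv2.euler k X (Coh.structureModule X) := by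
            rintro _ rfl; exact euler_bot_structure k
          have hX := euler_structure k (X := X) hdim.le
          have hC' := euler_structure k (X := (red C).subscheme) hd.le
          rw [show Curv2.euler k (red C).subscheme (Coh.structureModule (red C).subscheme) = _ from h1 _ hb] at hC'
          have h0eq : Module.finrank k (Coh.HH (red C).subscheme (Coh.structureModule (red C).subscheme) 0) =
              Module.finrank k (Coh.HH X (Coh.structureModule X) 0) := h0_eq_of_eq_bot k (red C) hb
          rw [hn, hz] at hC'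
          omega
        rcases Nat.eq_zero_or_pos n with en | en
        · exact absurd (by rw [hn, en, mul_zero]) hgen
        · have : (1 : ℤ) ≤ n := by exact_mod_cast en
          omega
      · exfalso
        have hu : ((red C).support : Set X) = Set.univ := by rw [hm0 e, Scheme.IdealSheafData.support_bot]; rfl
        rw [Scheme.IdealSheafData.coe_support_vanishingIdeal] at hu
        obtain ⟨x⟩ := (inferInstance : Nonempty X)
        exact hirr { toPreirreducibleSpace := ⟨hu ▸ hCi.2⟩, toNonempty := ⟨x⟩ }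
    rcases Nat.eq_zero_or_pos n with en | en
    · by_contra hneg
      have hm' : m = 1 := by omega
      have hCcomp : (C : Set X) ∈ irreducibleComponents (X : Type u) := by
        obtain ⟨D, hD, hCD⟩ := exists_mem_irreducibleComponents_subset_of_isIrreducible _ hCi
        by_contra hne
        have hne' : (C : Set X) ≠ D := fun e => hne (e ▸ hD)
        obtain ⟨η, hη⟩ : ∃ η, IsGenericPoint η D := ⟨_, hD.1.isGenericPoint_genericPoint (isClosed_of_mem_irreducibleComponents D hD)⟩
        have hnog : η ∉ (C : Set X) := fun h' => hne' (Set.Subset.antisymm hCD (hη.def ▸ C.isClosed.closure_subset_iff.2 (Set.singleton_subset_iff.2 h')))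
        have hlt := dim_lt_of_notMem C.isClosed hCD (isClosed_of_mem_irreducibleComponents D hD) hη.def hnog
          (show topologicalKrullDim D ≤ ((1 : ℕ) : WithBot ℕ∞) from
            (Topology.IsInducing.subtypeVal.topologicalKrullDim_le.trans hdim.le).trans_eq Nat.cast_one.symm)
        rw [hCd] at hlt
        exact absurd hlt (by decide)
      refine hnt _ hCcomp (isRationalTail_of k hdim.le _ hCcomp (hn.trans (by rw [en, mul_zero])) ?_)
      have hb := hm1 hm'
      have key : ∀ IZ : X.IdealSheafData, IZ = red (compl (C : Set X)) →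
          Function.Bijective (Scheme.IdealSheafData.inclusion (le_sup_left : red C ≤ red C ⊔ IZ)).appTop →
          Function.Bijective (Scheme.IdealSheafData.inclusion
            (le_sup_left : red C ≤ red C ⊔ red (compl (C : Set X)))).appTop := by
        rintro _ rfl h'; exact h'
      refine key _ (congrArg _ (Closeds.ext ?_)) hb
      show closure _ = closure _
      rw [Scheme.IdealSheafData.coe_support_vanishingIdeal]
    · have : (1 : ℤ) ≤ n := by exact_mod_cast en
      omega
  have hall := fun T => deg_union_nonneg k hdim.le hW hcomp T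
  refine ⟨hall, fun J hJr hJc hJ hne => ?_⟩
  obtain ⟨h, n, m, hpos, -, hn, hm, hdeg, hm0, hm1, -⟩ := sub_data k hdim.le hW t hrep hWe J hJ
  have hnn := hall J
  rw [hdeg] at hnn ⊢
  rw [hn]
  push_cast
  have h2 : (0 : ℤ) ≤ 2 * (n : ℤ) - 2 + (m : ℤ) := nonneg_of_mul_nonneg_right hnn (by exact_mod_cast hpos)
  refine mul_le_mul_of_nonneg_left ?_ (Int.natCast_nonneg _)
  rcases Nat.eq_zero_or_pos m with e | e
  · exact absurd (hm0 e) hne
  omega

end Groth.Agent.DualMod3
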