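import Groth.Agent.DualMod3.HomIdeal
import Groth.Agent.DualMod3.Criterion
import Groth.Agent.DualMod3.PullDual
import Groth.Agent.DualMod3.TailNum
import Groth.Agent.CurveRR24.VeryAmpleField

/-!
# Very ampleness from degrees on subcurves, over any field
-/

set_option autoImplicit false
set_option backward.isDefEq.respectTransparency false
set_option linter.style.haveILetI false
set_option maxHeartbeats 1000000

universe u

open CategoryTheory CategoryTheory.Limits AlgebraicGeometry TopologicalSpace Opposite TensorProduct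
open Groth.Agent.Coherent Groth.Agent.PicLib Groth.Agent.AmpleLib Groth.Agent.EulerLib Groth.Agent.CurveRR24
open Groth.Agent.Subcurves24

namespace Groth.Agent.DualMod3

variable (k : Type u) [Field k] {X : Scheme.{u}} [X.Over (Spec (CommRingCat.of k))]
  [IsProper (X ↘ Spec (CommRingCat.of k))]

/-- `H¹(F) = 0` if `F` has no map to the dualizing module. -/
theorem subsingleton_h1_of_hom {W : X.Modules} (t : Coh.HH X W 1 →ₗ[k] k)
    (hrep : ∀ F : X.Modules, Coh.IsQCoh F → SerreDual.Rep t F) {F : X.Modules} (hF : Coh.IsQCoh F)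
    (h : ∀ f : F ⟶ W, f = 0) : Subsingleton (Coh.HH X F 1) := by
  haveI : Subsingleton (F ⟶ W) := subsingleton_of_forall_eq 0 h
  haveI : Subsingleton (Module.Dual k (Coh.HH X F 1)) :=
    (SerreDual.dualEquiv t (hrep F hF)).symm.toEquiv.subsingleton_congr.2 inferInstance
  refine subsingleton_of_forall_eq 0 fun v => ?_
  haveI : Module.Free k (Coh.HH X F 1) := Module.Free.of_divisionRing k _
  exact (Module.forall_dual_apply_eq_zero_iff k v).1 fun l => by
    rw [Subsingleton.elim l 0]; rfl

/-- `H¹(I ⊗ L) = 0` for ideals of small colength, from the degrees on subcurves. -/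
theorem subsingleton_h1_ideal_of_deg [IsReduced X] [ConnectedSpace X] (hdim : topologicalKrullDim X = 1)
    {W : X.Modules} (hW : PicF.IsInvertible W) (t : Coh.HH X W 1 →ₗ[k] k)
    (hrep : ∀ F : X.Modules, Coh.IsQCoh F → SerreDual.Rep t F)
    {L : X.Modules} (hL : PicF.IsInvertible L) (c : ℕ)
    (h : ∀ T : Closeds X, Nonempty (red T).subscheme → topologicalKrullDim (red T).subscheme = 1 →
      @Curv2.deg k _ (red T).subscheme ⟨(red T).subschemeι ≫ (X ↘ Spec (CommRingCat.of k))⟩
          ((Scheme.Modules.pullback (red T).subschemeι).obj W) 1 + (c : ℤ) <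
        @Curv2.deg k _ (red T).subscheme ⟨(red T).subschemeι ≫ (X ↘ Spec (CommRingCat.of k))⟩
          ((Scheme.Modules.pullback (red T).subschemeι).obj L) 1 + (delta k (red T) : ℤ))
    (I : X.IdealSheafData) (hI : ∀ η ∈ genericPoints X, η ∉ (I.support : Set X))
    (hc : Module.finrank k (Coh.HH X (ClSub.quotMod I) 0) ≤ c) :
    Subsingleton (Coh.HH X (CohB1.tensorMod (ClSub.idealMod I) L) 1) := by
  haveI := EulerLib.isNoetherian_of_proper k (X := X)
  obtain ⟨L', hL', ⟨e⟩⟩ := exists_inverse k hL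
  refine subsingleton_h1_of_hom k t hrep (isCoh_twist hL (isCoh_idealMod' I)).1 fun f => ?_
  obtain ⟨a⟩ := EulerLib.exists_assocIso' (ClSub.idealMod I) hL hL'
  let B := CohB1.tensorMod W L'
  let eI : CohB1.tensorMod (CohB1.tensorMod (ClSub.idealMod I) L) L' ≅ ClSub.idealMod I :=
    a ≪≫ AmpleLib.tensorIso (Iso.refl _) e ≪≫ AmpleLib.tensorComm _ _ ≪≫ unitTensorIso _
  refine SerreDual.tensorRightHom_injective k _ W hL' ?_
  rw [map_zero, ← cancel_epi eI.inv, comp_zero]
  by_contra hne
  obtain ⟨T, hT, hTd, hle⟩ := exists_delta_le_of_hom k hdim (isInvertible_tensorMod hW hL') I hI _ hne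
  have h1 := h T hT hTd
  have h4 := deg_sub_tensor k hdim.le (red T) hW hL'
  have h5 := deg_sub_tensor k hdim.le (red T) hL hL'
  have h6 := deg_sub_structure k (red T)
  letI : (red T).subscheme.Over (Spec (CommRingCat.of k)) := ⟨(red T).subschemeι ≫ (X ↘ Spec (CommRingCat.of k))⟩
  rw [deg_congr k ((Scheme.Modules.pullback (red T).subschemeι).mapIso e) 1] at h5
  omega

/-- Descent of the criterion from an algebraically closed field. -/
theorem exists_closedImmersion_of_bc_h1 {K : Type u} [Field K] [IsAlgClosed K] [Algebra k K]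
    {X' : Scheme.{u}} [X'.Over (Spec (CommRingCat.of K))] [IsProper (X' ↘ Spec (CommRingCat.of K))] (g : X' ⟶ X)
    (hpb : IsPullback g (X' ↘ Spec (CommRingCat.of K)) (X ↘ Spec (CommRingCat.of k))
      (Spec.map (CommRingCat.ofHom (algebraMap k K))))
    {L : X.Modules} (hL : PicF.IsInvertible L)
    (hpt : ∀ P : X', IsClosed ({P} : Set X') → P ∉ genericPoints X')
    (H : ∀ I : X'.IdealSheafData, (∀ η ∈ genericPoints X', η ∉ (I.support : Set X')) →
      Module.finrank K (Coh.HH X' (ClSub.quotMod I) 0) ≤ 2 →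
      Subsingleton (Coh.HH X' (CohB1.tensorMod (ClSub.idealMod I) ((Scheme.Modules.pullback g).obj L)) 1)) :
    ∃ (n : ℕ) (i : X ⟶ CohB1.ProjSpace n k), IsClosedImmersion i ∧
      i ≫ CohB1.ProjSpace.toSpec n k = X ↘ (Spec (CommRingCat.of k)) ∧
      Nonempty ((Scheme.Modules.pullback i).obj (Twist.twistProjSpace n k 1) ≅ L) := by
  classical
  haveI := isNoetherian_of_proper k (X := X)
  haveI := isNoetherian_of_proper K (X := X')
  let q := X ↘ Spec (CommRingCat.of k)
  let q' := X' ↘ Spec (CommRingCat.of K)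
  have hLc := isCoh_of_isInvertible k hL
  haveI := hLc.1
  let φ := baseHom k X
  haveI : Module.Finite k (GA φ L) := by
    haveI := finite_HH_of_isCoh k hLc 0
    exact Module.Finite.equiv (hhZero k L)
  obtain ⟨n, v, hv⟩ := Module.Finite.exists_fin (R := k) (M := GA φ L)
  let σ : Fin (n + 1) → Γ(L, ⊤) := Fin.cons 0 (fun i => (show Γ(L, ⊤) from v i))
  have hσ : ∀ s : Γ(L, ⊤), ∃ c : Fin (n + 1) → k, ∑ i, ProjUP.toGlobal q (c i) • σ i = s := fun s => by
    obtain ⟨c, hc⟩ := (Submodule.mem_span_range_iff_exists_fun k).1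
      (hv ▸ Submodule.mem_top : (show GA φ L from s) ∈ Submodule.span k (Set.range v))
    refine ⟨Fin.cons 0 c, ?_⟩
    rw [Fin.sum_univ_succ]
    simp only [σ, Fin.cons_zero, Fin.cons_succ, smul_zero, zero_add]
    exact hc
  haveI : IsAffineHom g :=
    MorphismProperty.IsStableUnderBaseChange.of_isPullback (P := @IsAffineHom) hpb.flip inferInstance
  haveI : Surjective g :=
    MorphismProperty.of_isPullback (P := @Surjective) hpb.flip inferInstance
  let L' := (Scheme.Modules.pullback g).obj L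
  have hL' : PicF.IsInvertible L' := PicLoc.isInvertible_pullback g hL
  let σ' : Fin (n + 1) → Γ(L', ⊤) := fun i => pullSec g (σ i)
  have hcomm : ∀ a, g.appTop (baseHom k X a) = baseHom K X' (algebraMap k K a) := appTop_toGlobal g hpb
  obtain ⟨E, hE⟩ := exists_baseChange_sections g (baseHom k X) (baseHom K X') L hcomm
    (fun U hU => isBCPushout_of_isPullback g hpb hU)
  have key : ∀ z, ∃ c : Fin (n + 1) → K, ∑ i, ProjUP.toGlobal q' (c i) • σ' i = E z := by
    intro z
    induction z with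
    | zero => exact ⟨0, by simp⟩
    | tmul b x =>
      obtain ⟨c, hc⟩ := hσ (secTop (baseHom k X) L x)
      refine ⟨fun i => b * algebraMap k K (c i), ?_⟩
      rw [hE, ← hc]
      have h2 : (show Γ(L', ⊤) from pullSec g (∑ i, ProjUP.toGlobal q (c i) • σ i)) =
          ∑ i, ProjUP.toGlobal q' (algebraMap k K (c i)) • σ' i := by
        refine (map_sum (((Scheme.Modules.pullbackPushforwardAdjunction g).unit.app L).app ⊤).hom _ _).trans
          (Finset.sum_congr rfl fun i _ => ?_)
        refine (pullSec_smul g _ _).trans (congrArg (fun t : Γ(X', ⊤) => t • σ' i) ?_)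
        exact hcomm (c i)
      refine Eq.trans ?_ (congrArg (fun t : Γ(L', ⊤) => baseHom K X' b • t) h2).symm
      rw [Finset.smul_sum]
      refine Finset.sum_congr rfl fun i _ => ?_
      rw [map_mul, mul_smul]
      rfl
    | add a b ha hb =>
      obtain ⟨c, hc⟩ := ha
      obtain ⟨d, hd⟩ := hb
      refine ⟨c + d, ?_⟩
      rw [map_add, ← hc, ← hd, ← Finset.sum_add_distrib]
      exact Finset.sum_congr rfl fun i _ => by rw [Pi.add_apply, map_add, add_smul]
  have hcov' : ∀ x : X', ∃ i, x ∈ glocus L' (σ' i) := fun x => by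
    obtain ⟨P, hPx, hP⟩ := (isClosed_closure (s := ({x} : Set X'))).exists_closed_singleton ⟨x, subset_closure rfl⟩
    obtain ⟨s, hs, -⟩ := exists_section_of_h1 K hL' hpt H P P hP hP
    by_contra hcon
    push Not at hcon
    have hPn : ∀ i, P ∉ glocus L' (σ' i) := fun i hi =>
      hcon i ((specializes_iff_mem_closure.2 hPx).mem_open (glocus L' (σ' i)).2 hi)
    obtain ⟨c, hc⟩ := key (E.symm s)
    rw [E.apply_symm_apply] at hc
    rw [← hc, mem_glocus_iff_germ hL', map_sum] at hs
    refine hs (Submodule.sum_mem _ fun i _ => ?_)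
    rw [QCohLoc.germ_smul']
    exact Submodule.smul_mem _ _ (not_not.1 ((mem_glocus_iff_germ hL' _ P).not.1 (hPn i)))
  have hcov : ∀ x : X, ∃ i, x ∈ glocus L (σ i) := fun x => by
    obtain ⟨x', rfl⟩ := g.surjective x
    obtain ⟨i, hi⟩ := hcov' x'
    exact ⟨i, (glocus_pullSec g hL (σ i)).le hi⟩
  obtain ⟨r, hr, τ, hτ⟩ := UPLib.exists_hom_projSpace n q hL σ hcov
  obtain ⟨r', hr', τ', hτ'⟩ := UPLib.exists_hom_projSpace n q' hL' σ' hcov'
  have hsq : r' ≫ projBC k K n = g ≫ r :=
    comp_projBC_eq g hpb.w hL hr τ hr' τ' fun i => (hτ' i).trans (congrArg (pullSec g) (hτ i).symm)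
  have hσ' : ∀ s : Γ(L', ⊤), ∃ c : Fin (n + 1) → K,
      τ'.hom.app ⊤ (∑ i, ProjUP.toGlobal q' (c i) • EmbLib24.sig r' i) = s := fun s => by
    obtain ⟨c, hc⟩ := key (E.symm s)
    rw [E.apply_symm_apply] at hc
    refine ⟨c, Eq.trans ?_ hc⟩
    rw [map_sum]
    exact Finset.sum_congr rfl fun i _ => (τ'.hom.app_smul (U := ⊤) _ _).trans (congrArg (_ • ·) (hτ' i))
  haveI : IsClosedImmersion r' := isClosedImmersion_of_h1 K hL' hpt H r' hr' τ' hσ'
  exact ⟨n, r, isClosedImmersion_of_bc hpb hr hr' hsq, hr, ⟨τ⟩⟩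

end Groth.Agent.DualMod3
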